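/-
helper54: Bender–Glauberman Section 13 preliminaries.  The statement of B&G Theorem 12.5
(row S1417) enters as the hypothesis `BG1417 G`; the Uniqueness Theorem as `BGUniq G`.
-/
import Cfsg.Agent.Helper22.BG12b
import Cfsg.Agent.Helper49.OddCyclic

set_option autoImplicit false

namespace Cfsg.Agent.Helper54

open Cfsg Subgroup Cfsg.Agent.Helper23 Cfsg.Agent.Helper35 Cfsg.Agent.Helper22
open scoped Pointwise

universe u

variable {G : Type u} [Group G] [Finite G]

/-- The conclusion of B&G Theorem 12.5 (row S1417), as a hypothesis on `G`. -/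
def BG1417 (G : Type u) [Group G] : Prop :=
  ∀ (M : Subgroup G), IsCoatom M → ∀ (p : ℕ) [Fact p.Prime], p ∈ Cfsg.tau2 M →
    ∀ (A : Subgroup G), (A ≤ M ∧ Cfsg.IsElementaryAbelian p A ∧ Nat.card A = p ^ 2) →
    Group.IsNilpotent (Cfsg.sigmaCore M) ∧
      (∀ P : Sylow p M, IsMulCommutative (P : Subgroup M) ∧
        (A ≤ (P : Subgroup M).map M.subtype →
          (∀ x ∈ (P : Subgroup M).map M.subtype, x ^ p = 1 ↔ x ∈ A) ∧
          ¬ Subgroup.normalizer ((((P : Subgroup M).map M.subtype : Subgroup G)) : Set G) ≤ M)) ∧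
      M ≤ Subgroup.normalizer ((Cfsg.sigmaCore M ⊔ A : Subgroup G) : Set G) ∧
      Cfsg.sigmaCore M ⊓ Subgroup.centralizer (A : Set G) = ⊥ ∧
      (∀ Mstar : Subgroup G, IsCoatom Mstar → Mstar ≠ M → A ≤ Mstar → Cfsg.sigmaCore M ⊓ Mstar = ⊥) ∧
      ∃ A₁ : Subgroup G, A₁ ≤ A ∧ Nat.card A₁ = p ∧ Cfsg.sigmaCore M ⊓ Subgroup.centralizer (A₁ : Set G) = ⊥

/-- Thompson: an element of prime order of `M` without fixed points on `M_σ` forces `M_σ`
to be nilpotent. -/
theorem bg13_nilpotent_of_fpf {p : ℕ} (hp : p.Prime) {M : Subgroup G} {b : G} (hbM : b ∈ M)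
    (hbp : b ^ p = 1) (hfix : ∀ x ∈ sigmaCore M, b * x = x * b → x = 1) :
    Group.IsNilpotent ↥(sigmaCore M) := by
  have hbN : b ∈ normalizer (sigmaCore M : Set G) := le_normalizer_piCoreOf (sigma M) M hbM
  have key : ∀ n : ℕ, ∀ y : ↥(sigmaCore M),
      (((⇑(Helper23.conjHom (sigmaCore M) ⟨b, hbN⟩))^[n] y : ↥(sigmaCore M)) : G) =
        b ^ n * y * (b ^ n)⁻¹ := by
    intro n
    induction n with
    | zero => intro y; simp
    | succ n ih =>
      intro y
      rw [Function.iterate_succ_apply']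
      show b * ((⇑(Helper23.conjHom (sigmaCore M) ⟨b, hbN⟩))^[n] y : G) * b⁻¹ = _
      rw [ih y, pow_succ']
      group
  have hFP : Helper19.FP p (Helper23.conjHom (sigmaCore M) ⟨b, hbN⟩) := by
    refine ⟨fun x hx => ?_, fun x => ?_⟩
    · have h1 : b * (x : G) * b⁻¹ = x := congrArg Subtype.val hx
      have h2 : b * (x : G) = x * b := by
        calc b * (x : G) = b * x * b⁻¹ * b := by group
          _ = x * b := by rw [h1]
      exact Subtype.ext (hfix x x.2 h2)
    · apply Subtype.ext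
      rw [key, hbp]; simp
  exact Helper19.thompson_thesis hp _ hFP

omit [Finite G] in
/-- Membership in the image of a conjugate Sylow subgroup. -/
theorem bg13_mem_map_smul {p : ℕ} {M : Subgroup G} (P : Sylow p M) (g : M) (x : G) :
    x ∈ ((g • P : Sylow p M) : Subgroup M).map M.subtype ↔
      (g : G)⁻¹ * x * g ∈ (P : Subgroup M).map M.subtype := by
  constructor
  · rintro ⟨y, hy, rfl⟩
    rw [SetLike.mem_coe, Sylow.coe_subgroup_smul, mem_conj_smul] at hy
    exact ⟨g⁻¹ * y * g, hy, by simp⟩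
  · rintro ⟨y, hy, hyx⟩
    have hxM : x ∈ M := by
      have h1 : (g : G)⁻¹ * x * g ∈ M := hyx ▸ y.2
      have e : x = (g : G) * ((g : G)⁻¹ * x * g) * (g : G)⁻¹ := by group
      rw [e]; exact M.mul_mem (M.mul_mem g.2 h1) (M.inv_mem g.2)
    refine ⟨⟨x, hxM⟩, ?_, rfl⟩
    rw [SetLike.mem_coe, Sylow.coe_subgroup_smul, mem_conj_smul]
    have e : g⁻¹ * (⟨x, hxM⟩ : M) * g = y := by
      apply Subtype.ext
      exact hyx.symm
    rw [e]; exact hy

omit [Finite G] in
theorem bg13_conj_eq_one {g x : G} (h : g⁻¹ * x * g = 1) : x = 1 := by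
  calc x = g * (g⁻¹ * x * g) * g⁻¹ := by group
    _ = 1 := by rw [h]; group

/-- **Row S1429** from the Uniqueness Theorem and B&G Theorem 12.5. -/
theorem bg13_1429 (hG : IsMinSimpleOddOrder G) (hU : BGUniq G) (h17 : BG1417 G)
    (M : Subgroup G) (hM : IsCoatom M) (p : ℕ) [Fact p.Prime] (hpM : p ∣ Nat.card M)
    (hp : p ∉ Cfsg.sigma M ∪ Cfsg.kappa M) (S : Sylow p M) :
    Nat.card ↥(Subgroup.closure {x : G | x ∈ (S : Subgroup M).map M.subtype ∧ x ^ p = 1}) ≤ p ^ 2 ∧
      Cfsg.sigmaCore M ⊓ Subgroup.centralizer ((Subgroup.closure {x : G | x ∈ (S : Subgroup M).map M.subtype ∧ x ^ p = 1} : Subgroup G) : Set G) = ⊥ ∧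
      Group.IsNilpotent (Cfsg.sigmaCore M) := by
  have hpp : p.Prime := Fact.out
  have hpσ : p ∉ sigma M := fun h => hp (Or.inl h)
  have hpκ : p ∉ kappa M := fun h => hp (Or.inr h)
  have hr2 : PRankLE p 2 ↥M :=
    bg10_pRank_of_not_alpha M p hpp (fun h => hpσ (bg10_alpha_sub_sigma hG hU hM h))
  by_cases hr1 : PRankLE p 1 ↥M
  · -- cyclic Sylow case
    have hp2 : p ≠ 2 := by
      rintro rfl
      have hodd := uq_odd hG M
      exact (Nat.not_even_iff_odd.mpr hodd) (even_iff_two_dvd.mpr hpM)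
    have hcyc : ∀ P : Sylow p M, IsCyclic ↥(P : Subgroup M) :=
      fun P => Helper49.isCyclic_sylow_of_pRankLE_one hp2 hr1 P
    have hex : ∃ P₀ : Sylow p M, ∀ x : M, x ∈ (P₀ : Subgroup M) → x ≠ 1 →
        ∀ y ∈ sigmaCore M, (x : G) * y = y * x → y = 1 := by
      by_contra hcon
      push Not at hcon
      apply hpκ
      refine ⟨hpp, hpM, hpσ, fun P => ⟨hcyc P, ?_⟩⟩
      obtain ⟨x, hx, hx1, y, hy, hxy, hy1⟩ := hcon P
      exact ⟨x, hx, hx1, y, hy, hy1, hxy⟩
    obtain ⟨P₀, hP₀⟩ := hex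
    obtain ⟨g, hg⟩ := MulAction.exists_smul_eq ↥M P₀ S
    have hS : ∀ x ∈ (S : Subgroup M).map M.subtype, x ≠ 1 →
        ∀ y ∈ sigmaCore M, x * y = y * x → y = 1 := by
      intro x hx hx1 y hy hxy
      rw [← hg, bg13_mem_map_smul] at hx
      obtain ⟨x', hx', hxx'⟩ := hx
      have hxx'' : ((x' : M) : G) = (g : G)⁻¹ * x * g := hxx'
      have hx'1 : x' ≠ 1 := by
        rintro rfl
        apply hx1
        apply bg13_conj_eq_one (g := (g : G))
        rw [← hxx'']; rfl
      have hgN : (g : G)⁻¹ ∈ normalizer (sigmaCore M : Set G) :=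
        le_normalizer_piCoreOf (sigma M) M (M.inv_mem g.2)
      have hy' : (g : G)⁻¹ * y * g ∈ sigmaCore M := by
        have := (Subgroup.mem_normalizer_iff.mp hgN y).mp hy
        simpa using this
      have h1 := hP₀ x' hx' hx'1 _ hy' (by
        rw [hxx'']
        calc (g : G)⁻¹ * x * g * ((g : G)⁻¹ * y * g) = (g : G)⁻¹ * (x * y) * g := by group
          _ = (g : G)⁻¹ * (y * x) * g := by rw [hxy]
          _ = (g : G)⁻¹ * y * g * ((g : G)⁻¹ * x * g) := by group)
      exact bg13_conj_eq_one h1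
    -- an element of order p in S
    have hpS : p ∣ Nat.card ↥(S : Subgroup M) := S.dvd_card_of_dvd_card hpM
    obtain ⟨a₀, ha₀⟩ := exists_prime_orderOf_dvd_card' p hpS
    have haS : ((a₀ : M) : G) ∈ (S : Subgroup M).map M.subtype := ⟨(a₀ : M), a₀.2, rfl⟩
    have hap : ((a₀ : M) : G) ^ p = 1 := by
      have h1 : a₀ ^ p = 1 := by
        have := pow_orderOf_eq_one a₀
        rwa [ha₀] at this
      have h2 := congrArg (fun z : ↥(S : Subgroup M) => ((z : M) : G)) h1
      simpa using h2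
    have ha1 : ((a₀ : M) : G) ≠ 1 := by
      intro h
      have h1 : a₀ = 1 := by
        apply Subtype.ext; apply Subtype.ext; exact h
      rw [h1, orderOf_one] at ha₀
      exact hpp.one_lt.ne ha₀
    have haM : ((a₀ : M) : G) ∈ M := (a₀ : M).2
    have haA : ((a₀ : M) : G) ∈
        Subgroup.closure {x : G | x ∈ (S : Subgroup M).map M.subtype ∧ x ^ p = 1} :=
      subset_closure ⟨haS, hap⟩
    have hAS : Subgroup.closure {x : G | x ∈ (S : Subgroup M).map M.subtype ∧ x ^ p = 1} ≤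
        (S : Subgroup M).map M.subtype :=
      (closure_le _).mpr (fun x hx => hx.1)
    have hfix : ∀ x ∈ sigmaCore M, ((a₀ : M) : G) * x = x * ((a₀ : M) : G) → x = 1 :=
      fun x hx hax => hS _ haS ha1 x hx hax
    have hScomm : ∀ x ∈ (S : Subgroup M).map M.subtype, ∀ y ∈ (S : Subgroup M).map M.subtype,
        x * y = y * x := by
      rintro _ ⟨x, hx, rfl⟩ _ ⟨y, hy, rfl⟩
      have hcS := hcyc S
      have h1 := (IsCyclic.isMulCommutative (α := ↥(S : Subgroup M))).is_comm.comm ⟨x, hx⟩ ⟨y, hy⟩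
      have h2 := congrArg (fun z : ↥(S : Subgroup M) => ((z : M) : G)) h1
      simpa using h2
    have hAexp : ∀ x ∈ Subgroup.closure {x : G | x ∈ (S : Subgroup M).map M.subtype ∧ x ^ p = 1},
        x ^ p = 1 := by
      intro x hx
      induction hx using Subgroup.closure_induction with
      | mem x hx => exact hx.2
      | one => exact one_pow p
      | mul x y hx hy ihx ihy =>
        have hc : Commute x y := hScomm x (hAS hx) y (hAS hy)
        rw [hc.mul_pow, ihx, ihy, one_mul]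
      | inv x hx ihx => rw [inv_pow, ihx, inv_one]
    refine ⟨?_, ?_, bg13_nilpotent_of_fpf hpp haM hap hfix⟩
    · have hAM : Subgroup.closure {x : G | x ∈ (S : Subgroup M).map M.subtype ∧ x ^ p = 1} ≤ M :=
        hAS.trans (map_subtype_le _)
      have h1 := hr2 ((Subgroup.closure
          {x : G | x ∈ (S : Subgroup M).map M.subtype ∧ x ^ p = 1}).subgroupOf M)
        ⟨⟨fun a b => Subtype.ext (Subtype.ext
          (hScomm _ (hAS (mem_subgroupOf.mp a.2)) _ (hAS (mem_subgroupOf.mp b.2))))⟩⟩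
        (fun a ha => Subtype.ext (by
          have := hAexp _ (mem_subgroupOf.mp ha)
          simpa using this))
      rwa [Nat.card_congr (Subgroup.subgroupOfEquivOfLe hAM).toEquiv] at h1
    · rw [eq_bot_iff]
      intro y hy
      rw [mem_bot]
      exact hfix y hy.1 (mem_centralizer_iff.mp hy.2 _ haA)
  · -- rank two case
    have hτ : p ∈ tau2 M := ⟨hpp, hpσ, hr2, hr1⟩
    obtain ⟨E, hEM, hEc, hEe, hEcard⟩ := bg10_exists_elemAb_sq hpp hr1
    have hEp : IsPGroup p E := IsPGroup.of_card hEcard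
    obtain ⟨Q, hQ⟩ := (hEp.comap_subtype (K := M)).exists_le_sylow
    obtain ⟨g, hg⟩ := MulAction.exists_smul_eq ↥M Q S
    have hA₁S : MulAut.conj (g : G) • E ≤ (S : Subgroup M).map M.subtype := by
      intro x hx
      rw [← hg, bg13_mem_map_smul]
      rw [mem_conj_smul] at hx
      exact ⟨⟨_, hEM hx⟩, hQ (mem_subgroupOf.mpr hx), rfl⟩
    have hA₁M : MulAut.conj (g : G) • E ≤ M := hA₁S.trans (map_subtype_le _)
    have hA₁e : IsElementaryAbelian p (MulAut.conj (g : G) • E) := by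
      refine ⟨⟨⟨fun a b => Subtype.ext ?_⟩⟩, fun a ha => ?_⟩
      · have ha := a.2
        have hb := b.2
        rw [mem_conj_smul] at ha hb
        have h1 := hEc _ ha _ hb
        calc (a : G) * b = (g : G) * (((g : G)⁻¹ * a * g) * ((g : G)⁻¹ * b * g)) * (g : G)⁻¹ := by
              group
          _ = (g : G) * (((g : G)⁻¹ * b * g) * ((g : G)⁻¹ * a * g)) * (g : G)⁻¹ := by rw [h1]
          _ = (b : G) * a := by group
      · rw [mem_conj_smul] at ha
        have h1 := hEe _ ha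
        have h2 : ((g : G)⁻¹ * a * g) ^ p = (g : G)⁻¹ * a ^ p * g := by
          have := conj_pow (a := (g : G)⁻¹) (b := a) (i := p)
          simpa using this
        rw [h2] at h1
        exact bg13_conj_eq_one h1
    have hA₁c : Nat.card (MulAut.conj (g : G) • E : Subgroup G) = p ^ 2 := by
      rw [card_conj_smul, hEcard]
    obtain ⟨hnil, hb, -, hd, -, -⟩ := h17 M hM p hτ _ ⟨hA₁M, hA₁e, hA₁c⟩
    have hset : {x : G | x ∈ (S : Subgroup M).map M.subtype ∧ x ^ p = 1} =
        ((MulAut.conj (g : G) • E : Subgroup G) : Set G) := by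
      ext x
      constructor
      · rintro ⟨hx, hxp⟩
        exact (((hb S).2 hA₁S).1 x hx).mp hxp
      · intro hx
        exact ⟨hA₁S hx, hA₁e.2 x hx⟩
    rw [hset, closure_eq]
    exact ⟨hA₁c.le, hd, hnil⟩

end Cfsg.Agent.Helper54
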