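/-
helper54: Bender–Glauberman Section 13, prime action (row S1427).
Inputs as hypotheses: the Uniqueness Theorem (`BGUniq`), the normal complements of B&G 10.8
(`BGSigmaCompl`), Theorem 12.5 (`BG1417`) and the normality part of Corollary 12.6 (`BG1418a`).
Four standalone pieces were written by helper41 (sigma_conj, conj_of_common_sigma),
helper4 (conj_of_sigma_alpha) and helper20 (exists_compl_ge).
-/
import Cfsg.Agent.Helper54.BG13a
import Cfsg.Agent.Helper68.BG123
import Cfsg.Agent.Helper35.CoprimeAbelian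
import Cfsg.Agent.Helper1.Hall
import Cfsg.Agent.Helper72.BG12Cor
import Cfsg.Agent.Helper41.BG13P1
import Cfsg.Agent.Helper41.BG13P2
import Cfsg.Agent.Helper4.BG13P3
import Cfsg.Agent.Helper20.BG13P4

set_option autoImplicit false

namespace Cfsg.Agent.Helper54

open Cfsg Subgroup Cfsg.Agent.Helper23 Cfsg.Agent.Helper35 Cfsg.Agent.Helper22
open scoped Pointwise commutatorElement

universe u

variable {G : Type u} [Group G] [Finite G]

/-- The normality part of B&G Corollary 12.6 (row S1418), as a hypothesis on `G`. -/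
def BG1418a (G : Type u) [Group G] : Prop :=
  ∀ (M : Subgroup G), IsCoatom M → ∀ (E : Subgroup G), IsComplIn E (sigmaCore M) M →
    ∀ (p : ℕ) [Fact p.Prime], p ∈ tau2 M → ∀ (A : Subgroup G), A ≤ E →
      IsElementaryAbelian p A → Nat.card A = p ^ 2 → E ≤ normalizer (A : Set G)

/-- An elementary abelian `p`-subgroup of a group with cyclic Sylow `p`-subgroups has order
at most `p`. -/
theorem bg13_card_le_of_cyclic_sylow {p : ℕ} [Fact p.Prime] {S M B : Subgroup G}
    (hS : IsSylowOf p S M) (hSc : IsCyclic ↥S) (hBM : B ≤ M) (hB : IsElementaryAbelian p B) :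
    Nat.card B ≤ p := by
  have hpp : p.Prime := Fact.out
  have hBp : IsPGroup p B := bg11_isPGroup_of_elemAb hB
  obtain ⟨Q, hQ, hBQ⟩ := exists_isSylowOf_ge hBp hBM
  obtain ⟨h, -, rfl⟩ := bg10_sylow_conj hS hQ
  have hB' : MulAut.conj h⁻¹ • B ≤ S := by
    intro x hx
    rw [mem_conj_smul, inv_inv] at hx
    have h1 := hBQ hx
    rw [mem_conj_smul] at h1
    have e : h⁻¹ * (h * x * h⁻¹) * h = x := by group
    rwa [e] at h1
  have hcyc : IsCyclic ↥((MulAut.conj h⁻¹ • B).subgroupOf S) := Subgroup.isCyclic _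
  obtain ⟨b, hb⟩ := hcyc.exists_generator
  have hcard : Nat.card ↥((MulAut.conj h⁻¹ • B).subgroupOf S) = orderOf b :=
    (orderOf_eq_card_of_forall_mem_zpowers hb).symm
  have hbp : b ^ p = 1 := by
    have h1 : ((b : ↥S) : G) ∈ MulAut.conj h⁻¹ • B := Subgroup.mem_subgroupOf.mp b.2
    have h2 := (Helper72.b12c_conj_elemAb hB h⁻¹).2 _ h1
    apply Subtype.ext
    apply Subtype.ext
    simpa using h2
  have hcB : Nat.card B = orderOf b := by
    rw [← hcard, Helper35.card_subgroupOf_of_le hB', card_conj_smul]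
  rw [hcB]
  exact Nat.le_of_dvd hpp.pos (orderOf_dvd_of_pow_eq_one hbp)

/-- **Prime action, case `p ∈ σ(L)`**: a `p`-subgroup `S` of `L` normalizing a subgroup
`D ≤ M_σ ∩ L`, where `p ∉ σ(M)` and `p ∈ σ(L)`, centralizes `D`. -/
theorem bg13_prime_action_sigma (hG : IsMinSimpleOddOrder G) (hU : BGUniq G)
    (hβ : Helper68.BGSigmaCompl G) {M L : Subgroup G} (hM : IsCoatom M) (hL : IsCoatom L)
    {p : ℕ} [Fact p.Prime] (hpM : p ∉ sigma M) (hpL : p ∈ sigma L) {S D : Subgroup G}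
    (hSp : IsPGroup p S) (hSL : S ≤ L) (hDM : D ≤ sigmaCore M) (hDL : D ≤ L)
    (hSD : S ≤ normalizer (D : Set G)) : ∀ d ∈ D, ∀ s ∈ S, s * d = d * s := by
  have hpp : p.Prime := Fact.out
  have hSσ : S ≤ sigmaCore L := bg12_le_sigmaCore hG hU hL hpp hpL hSL hSp
  obtain ⟨n, hn⟩ := IsPGroup.iff_card.mp hSp
  have hcop : (Nat.card S).Coprime (Nat.card D) := by
    rw [hn]
    apply Nat.Coprime.pow_left
    rw [Nat.Prime.coprime_iff_not_dvd hpp]
    intro hd
    exact hpM (mem_of_dvd_card_piCoreOf (sigma M) M hpp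
      (hd.trans (Subgroup.card_dvd_of_le hDM)))
  have hsolv : Group.IsSolvable S ∨ Group.IsSolvable D :=
    Or.inr (isSolvable_of_le (hDM.trans (piCoreOf_le _ _)) (uq_isSolvable hG hM.1))
  have hTT : (⁅⁅D, S⁆, S⁆ : Subgroup G) = ⁅D, S⁆ :=
    commutator_commutator_eq_of_coprime hSD hcop hsolv
  have hTD : (⁅D, S⁆ : Subgroup G) ≤ D := commutator_le_of_le_normalizer hSD
  have hTσL : (⁅D, S⁆ : Subgroup G) ≤ sigmaCore L := by
    rw [Subgroup.commutator_le]
    intro d hd s hs
    have hdN := le_normalizer_piCoreOf (sigma L) L (hDL hd)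
    have h1 : d * s * d⁻¹ ∈ sigmaCore L := (mem_normalizer_iff.mp hdN s).mp (hSσ hs)
    rw [commutatorElement_def]
    exact (sigmaCore L).mul_mem h1 ((sigmaCore L).inv_mem (hSσ hs))
  have hT1 : (⁅D, S⁆ : Subgroup G) = ⊥ := by
    by_contra hne
    have hc1 : Nat.card ↥(⁅D, S⁆ : Subgroup G) ≠ 1 := fun e => hne (Subgroup.card_eq_one.mp e)
    obtain ⟨q, hq, hqT⟩ := Nat.exists_prime_and_dvd hc1
    have := Fact.mk hq
    have hqM : q ∈ sigma M := mem_of_dvd_card_piCoreOf (sigma M) M hq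
      (hqT.trans (Subgroup.card_dvd_of_le (hTD.trans hDM)))
    have hqL : q ∣ Nat.card L := hqT.trans (Subgroup.card_dvd_of_le (hTD.trans hDL))
    have hpq : p ≠ q := fun e => hpM (e ▸ hqM)
    have hqβ : q ∉ beta L := by
      intro hb
      obtain ⟨g, hg⟩ := Helper4.bg13_conj_of_sigma_alpha hG hU hM hL hqM hb.1
      apply hpM
      rw [← hg]
      exact Helper41.bg13_sigma_conj hpL g
    obtain ⟨P, N, hNn, hNc⟩ := hβ L hL q hq hqL hqβ
    have hnorm : sigmaCore L ≤ normalizer ((N.map (sigmaCore L).subtype : Subgroup G) : Set G) := by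
      intro x hx
      apply bg10_mem_normalizer
      rintro _ ⟨y, hy, rfl⟩
      exact ⟨⟨x, hx⟩ * y * ⟨x, hx⟩⁻¹, hNn.conj_mem y hy ⟨x, hx⟩, rfl⟩
    have hidx : (N.map (sigmaCore L).subtype).relIndex (sigmaCore L) =
        q ^ (Nat.card (sigmaCore L)).factorization q := by
      rw [bg10_relIndex_map_subtype, index_eq_card_of_isComplement' hNc,
        Sylow.card_eq_multiplicity]
    have hcardN : ¬ q ∣ Nat.card ↥(N.map (sigmaCore L).subtype) := by
      rw [Subgroup.card_map_of_injective (sigmaCore L).subtype_injective,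
        ← hNc.index_eq_card]
      exact bg10_not_dvd_index_of_sylow_le P le_rfl
    have hSN : S ≤ N.map (sigmaCore L).subtype := by
      intro s hs
      have hsn : s ^ (p ^ n) = 1 := by
        have h1 := pow_card_eq_one' (G := ↥S) (x := ⟨s, hs⟩)
        rw [hn] at h1
        have h2 := congrArg Subtype.val h1
        rwa [Subgroup.coe_pow] at h2
      apply Helper68.bg123_mem_of_coprime hnorm (hSσ hs) hsn
      rw [hidx]
      exact Nat.Coprime.pow _ _ ((Nat.coprime_primes hpp hq).mpr hpq)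
    have hTN : (⁅D, S⁆ : Subgroup G) ≤ N.map (sigmaCore L).subtype := by
      rw [← hTT, Subgroup.commutator_le]
      intro t ht s hs
      have h1 : t * s * t⁻¹ ∈ N.map (sigmaCore L).subtype :=
        (mem_normalizer_iff.mp (hnorm (hTσL ht)) s).mp (hSN hs)
      rw [commutatorElement_def]
      exact Subgroup.mul_mem _ h1 (Subgroup.inv_mem _ (hSN hs))
    exact hcardN (hqT.trans (Subgroup.card_dvd_of_le hTN))
  intro d hd s hs
  have h1 : ⁅d, s⁆ ∈ (⁅D, S⁆ : Subgroup G) := Subgroup.commutator_mem_commutator hd hs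
  rw [hT1, mem_bot, commutatorElement_eq_one_iff_commute] at h1
  exact h1.eq.symm

/-- **Prime action, case `p ∉ σ(M*)`**. -/
theorem bg13_prime_action_nonsigma (hG : IsMinSimpleOddOrder G) (hU : BGUniq G)
    (hβ : Helper68.BGSigmaCompl G) (h17 : BG1417 G) (h18 : BG1418a G)
    {M Ms : Subgroup G} (hM : IsCoatom M) (hMs : IsCoatom Ms)
    {p : ℕ} [Fact p.Prime] (hpM : p ∉ sigma M) (hpMs : p ∉ sigma Ms) {S X D : Subgroup G}
    (hS : IsSylowOf p S M) (hSc : IsCyclic ↥S) (hSMs : S ≤ Ms) (hX : Nat.card X = p)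
    (hNX : normalizer (X : Set G) ≤ Ms) (hDM : D ≤ sigmaCore M) (hDMs : D ≤ Ms)
    (hSD : S ≤ normalizer (D : Set G)) : ∀ d ∈ D, ∀ s ∈ S, s * d = d * s := by
  have hpp : p.Prime := Fact.out
  have hsimple := hG.2.1
  -- B&G 10.6 for `M*`
  obtain ⟨⟨hr2, hr1⟩, -, A, hA, hAc, hXA⟩ := bg10_nonsigma_normalizer hG hU hMs hpMs hX hNX
  have hAMs : A ≤ Ms := by
    refine le_trans ?_ hNX
    intro a ha
    apply bg10_mem_normalizer
    intro x hx
    have hc : a * x = x * a := bg11_elemAb_comm hA a ha x (hXA hx)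
    rw [hc, mul_inv_cancel_right]
    exact hx
  have hτ : p ∈ tau2 Ms := ⟨hpp, hpMs, hr2, hr1⟩
  obtain ⟨hnil, -, -, -, -, -⟩ := h17 Ms hMs p hτ A ⟨hAMs, hA, hAc⟩
  -- `σ(M) ∩ σ(M*) = ∅`
  have hdisj : ∀ q : ℕ, q.Prime → q ∈ sigma M → q ∉ sigma Ms := by
    intro q hq hqM hqMs
    have := Fact.mk hq
    obtain ⟨x, hx⟩ := Helper41.bg13_conj_of_common_sigma hG hU hMs hM hnil hqMs hqM
    have hA' : MulAut.conj x • A ≤ M := by
      rw [← hx]; exact conj_smul_le_conj_smul hAMs
    have h1 := bg13_card_le_of_cyclic_sylow hS hSc hA' (Helper72.b12c_conj_elemAb hA x)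
    rw [card_conj_smul, hAc] at h1
    have := hpp.one_lt
    nlinarith
  have hpMsσ : ¬ p ∣ Nat.card (sigmaCore Ms) :=
    fun hd => hpMs (mem_of_dvd_card_piCoreOf (sigma Ms) Ms hpp hd)
  -- a complement of `M*_σ` containing `D S`
  have hDS : S ⊔ D ≤ Ms := sup_le hSMs hDMs
  have hcop : (Nat.card ↥(S ⊔ D)).Coprime (Nat.card (sigmaCore Ms)) := by
    refine Nat.Coprime.coprime_dvd_left (Helper23.card_sup_dvd_of_le_normalizer hSD) ?_
    apply Nat.Coprime.mul_left
    · obtain ⟨n, hn⟩ := IsPGroup.iff_card.mp hS.2.1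
      rw [hn]
      exact Nat.Coprime.pow_left n ((Nat.Prime.coprime_iff_not_dvd hpp).mpr hpMsσ)
    · apply Nat.Coprime.symm
      apply Nat.coprime_of_dvd
      intro q hq hq1 hq2
      exact hdisj q hq
        (mem_of_dvd_card_piCoreOf (sigma M) M hq (hq2.trans (Subgroup.card_dvd_of_le hDM)))
        (mem_of_dvd_card_piCoreOf (sigma Ms) Ms hq hq1)
  obtain ⟨Es, hEs, hDSE⟩ := Helper20.bg13_exists_compl_ge hG hU hMs hDS hcop
  have hDE : D ≤ Es := le_sup_right.trans hDSE
  have hSE : S ≤ Es := le_sup_left.trans hDSE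
  -- an elementary abelian subgroup of order `p ^ 2` of `E*`
  have hidx : ¬ p ∣ Es.relIndex Ms := by
    have h1 := bg12_card_compl (le_normalizer_piCoreOf (sigma Ms) Ms) hEs
    have h2 := card_mul_relIndex_of_le hEs.1
    have h3 : Es.relIndex Ms = Nat.card (sigmaCore Ms) :=
      Nat.eq_of_mul_eq_mul_left Nat.card_pos (h2.trans h1.symm)
    rw [h3]; exact hpMsσ
  obtain ⟨P₀, hP₀⟩ := sylowSet_nonempty (p := p) Es
  have hP₀Ms : IsSylowOf p P₀ Ms := bg10_isSylowOf_of_sylowSet hEs.1 hidx hP₀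
  obtain ⟨Q, hQ, hAQ⟩ := exists_isSylowOf_ge (bg11_isPGroup_of_elemAb hA) hAMs
  obtain ⟨m, -, rfl⟩ := bg10_sylow_conj hP₀Ms hQ
  have hAsE : MulAut.conj m⁻¹ • A ≤ Es := by
    intro x hx
    rw [mem_conj_smul, inv_inv] at hx
    have h1 := hAQ hx
    rw [mem_conj_smul] at h1
    have e : m⁻¹ * (m * x * m⁻¹) * m = x := by group
    rw [e] at h1
    exact hP₀.1 h1
  have hAse : IsElementaryAbelian p (MulAut.conj m⁻¹ • A) := Helper72.b12c_conj_elemAb hA m⁻¹
  have hAsc : Nat.card (MulAut.conj m⁻¹ • A : Subgroup G) = p ^ 2 := by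
    rw [card_conj_smul, hAc]
  have hEN : Es ≤ normalizer ((MulAut.conj m⁻¹ • A : Subgroup G) : Set G) :=
    h18 Ms hMs Es hEs p hτ _ hAsE hAse hAsc
  -- a maximal subgroup `L` over `N(A*)`
  have hAs1 : (MulAut.conj m⁻¹ • A : Subgroup G) ≠ ⊥ := by
    intro e
    rw [e, Subgroup.card_bot] at hAsc
    have := hpp.one_lt
    nlinarith
  have hAstop : (MulAut.conj m⁻¹ • A : Subgroup G) ≠ ⊤ := by
    intro e
    apply hMs.1
    rw [eq_top_iff, ← e]
    exact hAsE.trans hEs.1
  obtain ⟨L, hL, hNL⟩ := uq_exists_coatom_ge (normalizer_ne_top_of_simple hAs1 hAstop)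
  have hAsL : MulAut.conj m⁻¹ • A ≤ L := le_normalizer.trans hNL
  have hpL : p ∈ sigma L := by
    by_contra hpL
    have hr2L : PRankLE p 2 ↥L :=
      bg10_pRank_of_not_alpha L p hpp (fun h => hpL (bg10_alpha_sub_sigma hG hU hL h))
    have hr1L : ¬ PRankLE p 1 ↥L := by
      refine Helper21.not_pRankLE_of_elemAb hAsL hAse.1 hAse.2 ?_
      rw [hAsc, pow_one]
      have := hpp.one_lt
      nlinarith
    have hτL : p ∈ tau2 L := ⟨hpp, hpL, hr2L, hr1L⟩
    obtain ⟨-, hb, -⟩ := h17 L hL p hτL _ ⟨hAsL, hAse, hAsc⟩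
    obtain ⟨PL, hPL⟩ := ((bg11_isPGroup_of_elemAb hAse).comap_subtype (K := L)).exists_le_sylow
    have hAsPL : MulAut.conj m⁻¹ • A ≤ (PL : Subgroup L).map L.subtype := by
      intro a ha
      exact ⟨⟨a, hAsL ha⟩, hPL (mem_subgroupOf.mpr ha), rfl⟩
    obtain ⟨hΩ, hN⟩ := (hb PL).2 hAsPL
    apply hN
    refine le_trans ?_ hNL
    intro g hg
    apply bg10_mem_normalizer
    intro a ha
    have h1 : g * a * g⁻¹ ∈ (PL : Subgroup L).map L.subtype :=
      (mem_normalizer_iff.mp hg a).mp (hAsPL ha)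
    refine (hΩ _ h1).mp ?_
    rw [conj_pow, hAse.2 a ha, mul_one, mul_inv_cancel]
  exact bg13_prime_action_sigma hG hU hβ hM hL hpM hpL hS.2.1 (hSE.trans (hEN.trans hNL)) hDM
    (hDE.trans (hEN.trans hNL)) hSD

/-- **Row S1427** (B&G 13.1-13.3, prime action of a cyclic Sylow subgroup of a complement). -/
theorem bg13_1427 (hG : IsMinSimpleOddOrder G) (hU : BGUniq G)
    (hβ : Helper68.BGSigmaCompl G) (h17 : BG1417 G) (h18 : BG1418a G)
    (M : Subgroup G) (hM : IsCoatom M) (E : Subgroup G) (hE : Cfsg.IsComplIn E (Cfsg.sigmaCore M) M) (p : ℕ) [Fact p.Prime] (S : Sylow p E) (hS1 : (S : Subgroup E) ≠ ⊥) (hSc : IsCyclic (S : Subgroup E)) :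
    ∀ x ∈ (S : Subgroup E).map E.subtype, x ≠ 1 →
        Cfsg.sigmaCore M ⊓ Subgroup.centralizer ({x} : Set G) = Cfsg.sigmaCore M ⊓ Subgroup.centralizer (((S : Subgroup E).map E.subtype : Subgroup G) : Set G) := by
  have hpp : p.Prime := Fact.out
  have hsimple := hG.2.1
  intro x hx hx1
  have hSgE : (S : Subgroup E).map E.subtype ≤ E := map_subtype_le _
  have hSgM : (S : Subgroup E).map E.subtype ≤ M := hSgE.trans hE.1
  have hSgp : IsPGroup p ↥((S : Subgroup E).map E.subtype) := S.2.map _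
  have hScomm : ∀ a ∈ (S : Subgroup E).map E.subtype, ∀ b ∈ (S : Subgroup E).map E.subtype,
      a * b = b * a := by
    rintro _ ⟨a, ha, rfl⟩ _ ⟨b, hb, rfl⟩
    have h1 := (IsCyclic.isMulCommutative (α := ↥(S : Subgroup E))).is_comm.comm ⟨a, ha⟩ ⟨b, hb⟩
    have h2 := congrArg (fun z : ↥(S : Subgroup E) => ((z : E) : G)) h1
    simpa using h2
  have hSgc : IsCyclic ↥((S : Subgroup E).map E.subtype) := by
    have e := (S : Subgroup E).equivMapOfInjective E.subtype E.subtype_injective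
    exact isCyclic_of_surjective e e.surjective
  have hpE : p ∣ Nat.card E := by
    have h1 : p ∣ Nat.card ↥(S : Subgroup E) := by
      obtain ⟨n, hn⟩ := IsPGroup.iff_card.mp S.2
      cases n with
      | zero =>
        exfalso
        apply hS1
        rw [pow_zero] at hn
        exact Subgroup.card_eq_one.mp hn
      | succ n => rw [hn]; exact dvd_pow_self p (Nat.succ_ne_zero n)
    exact h1.trans (Subgroup.card_subgroup_dvd_card _)
  have hpσ : p ∉ sigma M := bg12_not_sigma_of_dvd hG hU hM hE hpp hpE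
  have hpMσ : ¬ p ∣ Nat.card (sigmaCore M) :=
    fun hd => hpσ (mem_of_dvd_card_piCoreOf (sigma M) M hpp hd)
  have hidx : ¬ p ∣ E.relIndex M := by
    have h1 := bg12_card_compl (le_normalizer_piCoreOf (sigma M) M) hE
    have h2 := card_mul_relIndex_of_le hE.1
    have h3 : E.relIndex M = Nat.card (sigmaCore M) :=
      Nat.eq_of_mul_eq_mul_left Nat.card_pos (h2.trans h1.symm)
    rw [h3]; exact hpMσ
  have hSgM' : IsSylowOf p ((S : Subgroup E).map E.subtype) M :=
    bg10_isSylowOf_of_sylowSet hE.1 hidx (sylow_map_mem_sylowSet S)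
  -- the subgroup of order `p` of `⟨x⟩`
  have hxord : p ∣ orderOf x := by
    obtain ⟨k, hk⟩ := (IsPGroup.iff_orderOf.mp hSgp) ⟨x, hx⟩
    rw [Subgroup.orderOf_mk] at hk
    cases k with
    | zero =>
      exfalso
      apply hx1
      rw [pow_zero] at hk
      exact orderOf_eq_one_iff.mp hk
    | succ k => rw [hk]; exact dvd_pow_self p (Nat.succ_ne_zero k)
  have hyord : orderOf (x ^ (orderOf x / p)) = p :=
    orderOf_pow_orderOf_div (orderOf_pos x).ne' hxord
  have hXc : Nat.card (zpowers (x ^ (orderOf x / p))) = p := by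
    rw [Nat.card_zpowers, hyord]
  have hyS : x ^ (orderOf x / p) ∈ (S : Subgroup E).map E.subtype := Subgroup.pow_mem _ hx _
  have hXS : zpowers (x ^ (orderOf x / p)) ≤ (S : Subgroup E).map E.subtype :=
    zpowers_le.mpr hyS
  have hSD : (S : Subgroup E).map E.subtype ≤ normalizer
      ((sigmaCore M ⊓ centralizer ((zpowers (x ^ (orderOf x / p)) : Subgroup G) : Set G) :
        Subgroup G) : Set G) := by
    intro s hs
    apply bg10_mem_normalizer
    intro d hd
    refine Subgroup.mem_inf.mpr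
      ⟨(mem_normalizer_iff.mp (le_normalizer_piCoreOf (sigma M) M (hSgM hs)) d).mp hd.1, ?_⟩
    rw [mem_centralizer_iff]
    intro z hz
    have h1 : z * d = d * z := mem_centralizer_iff.mp hd.2 z hz
    have h2 : s * z = z * s := hScomm s hs z (hXS hz)
    have h3 : z * s⁻¹ = s⁻¹ * z := by
      calc z * s⁻¹ = s⁻¹ * (s * z) * s⁻¹ := by group
        _ = s⁻¹ * (z * s) * s⁻¹ := by rw [h2]
        _ = s⁻¹ * z := by group
    calc z * (s * d * s⁻¹) = (z * s) * d * s⁻¹ := by group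
      _ = (s * z) * d * s⁻¹ := by rw [h2]
      _ = s * (z * d) * s⁻¹ := by group
      _ = s * (d * z) * s⁻¹ := by rw [h1]
      _ = s * d * (z * s⁻¹) := by group
      _ = s * d * (s⁻¹ * z) := by rw [h3]
      _ = s * d * s⁻¹ * z := by group
  have hX1 : zpowers (x ^ (orderOf x / p)) ≠ ⊥ := by
    intro e
    rw [e, Subgroup.card_bot] at hXc
    exact hpp.one_lt.ne hXc
  have hXtop : zpowers (x ^ (orderOf x / p)) ≠ ⊤ := by
    intro e
    apply hM.1
    rw [eq_top_iff, ← e]
    exact hXS.trans hSgM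
  obtain ⟨Ms, hMs, hNMs⟩ := uq_exists_coatom_ge (normalizer_ne_top_of_simple hX1 hXtop)
  have hCX : centralizer ((zpowers (x ^ (orderOf x / p)) : Subgroup G) : Set G) ≤ Ms :=
    (Subgroup.centralizer_le_normalizer _).trans hNMs
  have hSMs : (S : Subgroup E).map E.subtype ≤ Ms := by
    refine le_trans ?_ hCX
    intro s hs
    rw [mem_centralizer_iff]
    intro z hz
    exact hScomm z (hXS hz) s hs
  have key : ∀ d ∈ sigmaCore M ⊓ centralizer ((zpowers (x ^ (orderOf x / p)) : Subgroup G) : Set G),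
      ∀ s ∈ (S : Subgroup E).map E.subtype, s * d = d * s := by
    by_cases hpMs : p ∈ sigma Ms
    · exact bg13_prime_action_sigma hG hU hβ hM hMs hpσ hpMs hSgp hSMs inf_le_left
        (inf_le_right.trans hCX) hSD
    · exact bg13_prime_action_nonsigma hG hU hβ h17 h18 hM hMs hpσ hpMs hSgM' hSgc hSMs hXc hNMs
        inf_le_left (inf_le_right.trans hCX) hSD
  apply le_antisymm
  · intro c hc
    refine Subgroup.mem_inf.mpr ⟨hc.1, ?_⟩
    have hc' : c ∈ centralizer ((zpowers x : Subgroup G) : Set G) := by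
      rw [bg10_centralizer_zpowers]; exact hc.2
    have hcD : c ∈ sigmaCore M ⊓
        centralizer ((zpowers (x ^ (orderOf x / p)) : Subgroup G) : Set G) := by
      refine Subgroup.mem_inf.mpr ⟨hc.1, ?_⟩
      rw [mem_centralizer_iff]
      intro z hz
      exact mem_centralizer_iff.mp hc' z
        ((zpowers_le.mpr (Subgroup.pow_mem _ (mem_zpowers x) _)) hz)
    rw [mem_centralizer_iff]
    intro s hs
    exact key c hcD s hs
  · intro c hc
    refine Subgroup.mem_inf.mpr ⟨hc.1, ?_⟩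
    rw [mem_centralizer_iff]
    intro z hz
    rw [Set.mem_singleton_iff] at hz
    rw [hz]
    exact mem_centralizer_iff.mp hc.2 x hx

end Cfsg.Agent.Helper54
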