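/-
helper54: Bender–Glauberman Section 13, pieces for row S1428 (B&G Theorem 13.4).
* `bg13_frob_cyc`: a group-theoretic lemma on an `s`-group `S` acted on by a Frobenius-like
  group `Q ⟨x⟩` with `C_S(Q)` and `C_S(x)` cyclic and `C_S(Q ⟨x⟩) ≠ 1`: then `Q` centralizes `S`.
-/
import Cfsg.Agent.Helper54.BG13b
import Cfsg.Agent.Helper55.BGFpf
import Cfsg.Agent.Helper51.OmegaRepl
import Cfsg.Agent.Helper35.CoprimeGen
import Cfsg.Agent.Helper35.CoprimeSylow
import Cfsg.Agent.S1442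

set_option autoImplicit false

namespace Cfsg.Agent.Helper54

open Cfsg Subgroup
open scoped Pointwise commutatorElement

universe u

section frob

set_option linter.unusedSectionVars false
set_option linter.unusedVariables false

variable {G : Type u} [Group G] [Finite G]

/-- In a cyclic subgroup, the elements with `w ^ s = 1` are the powers of any element of
order `s`. -/
theorem bg13c_mem_zpowers_of_cyclic {s : ℕ} (hs : s.Prime) {C : Subgroup G} (hC : IsCyclic ↥C)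
    {z w : G} (hz : z ∈ C) (hz1 : z ≠ 1) (hzs : z ^ s = 1) (hw : w ∈ C) (hws : w ^ s = 1) :
    w ∈ zpowers z := by
  classical
  have := Fintype.ofFinite ↥C
  by_contra hw'
  have h := IsCyclic.card_pow_eq_one_le (α := ↥C) (n := s) hs.pos
  have hord : orderOf (⟨z, hz⟩ : ↥C) = s := by
    have : Fact s.Prime := ⟨hs⟩
    refine orderOf_eq_prime (Subtype.ext ?_) (fun h => hz1 (congrArg Subtype.val h))
    simpa using hzs
  have hsub : insert (⟨w, hw⟩ : ↥C) ((Finset.range s).image (fun i => (⟨z, hz⟩ : ↥C) ^ i)) ⊆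
      Finset.univ.filter (fun a : ↥C => a ^ s = 1) := by
    intro a ha
    rw [Finset.mem_insert, Finset.mem_image] at ha
    rw [Finset.mem_filter]
    refine ⟨Finset.mem_univ _, ?_⟩
    rcases ha with rfl | ⟨i, -, rfl⟩
    · exact Subtype.ext (by simpa using hws)
    · rw [← pow_mul, mul_comm, pow_mul, ← hord, pow_orderOf_eq_one, one_pow]
  have hnot : (⟨w, hw⟩ : ↥C) ∉ (Finset.range s).image (fun i => (⟨z, hz⟩ : ↥C) ^ i) := by
    intro hm
    rw [Finset.mem_image] at hm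
    obtain ⟨i, -, hi⟩ := hm
    apply hw'
    have h1 : z ^ i = w := by
      have := congrArg Subtype.val hi
      simpa using this
    rw [← h1]
    exact Subgroup.pow_mem _ (mem_zpowers z) i
  have hcard : (insert (⟨w, hw⟩ : ↥C)
      ((Finset.range s).image (fun i => (⟨z, hz⟩ : ↥C) ^ i))).card = s + 1 := by
    rw [Finset.card_insert_of_notMem hnot, Finset.card_image_of_injOn, Finset.card_range]
    intro i hi j hj hij
    rw [Finset.coe_range] at hi hj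
    exact pow_injOn_Iio_orderOf (by rwa [hord]) (by rwa [hord]) hij
  have := Finset.card_le_card hsub
  omega

/-- Descending along `s`-th powers to the last power outside a set containing `1`. -/
theorem bg13c_exists_pow {s : ℕ} {a : G} (P : G → Prop) (h1 : P 1)
    (hk : ∃ k : ℕ, a ^ (s ^ k) = 1) (ha : ¬ P a) :
    ∃ n : ℕ, ¬ P (a ^ (s ^ n)) ∧ P ((a ^ (s ^ n)) ^ s) := by
  classical
  have hex : ∃ k : ℕ, P (a ^ (s ^ k)) := by
    obtain ⟨k, hk⟩ := hk
    exact ⟨k, by rw [hk]; exact h1⟩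
  have hn0 : Nat.find hex ≠ 0 := by
    intro h0
    have := Nat.find_spec hex
    rw [h0, pow_zero, pow_one] at this
    exact ha this
  obtain ⟨m, hm⟩ := Nat.exists_eq_succ_of_ne_zero hn0
  refine ⟨m, Nat.find_min hex (by omega), ?_⟩
  have := Nat.find_spec hex
  rw [hm, pow_succ, pow_mul] at this
  exact this

/-- If `x b = g b x` and `x` commutes with `g`, then `x ^ k b = g ^ k b x ^ k`. -/
theorem bg13c_pow_conj {x g b : G} (hxg : x * g = g * x) (hxb : x * b = g * b * x) (k : ℕ) :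
    x ^ k * b = g ^ k * b * x ^ k := by
  induction k with
  | zero => simp
  | succ k ih =>
    have hxgk : x * g ^ k = g ^ k * x := (Commute.pow_right (show Commute x g from hxg) k).eq
    calc x ^ (k + 1) * b = x * (x ^ k * b) := by rw [pow_succ', mul_assoc]
      _ = x * (g ^ k * b * x ^ k) := by rw [ih]
      _ = (x * g ^ k) * b * x ^ k := by simp only [mul_assoc]
      _ = g ^ k * (x * b) * x ^ k := by rw [hxgk]; simp only [mul_assoc]
      _ = g ^ k * (g * b * x) * x ^ k := by rw [hxb]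
      _ = g ^ (k + 1) * b * x ^ (k + 1) := by
        rw [pow_succ, pow_succ']; simp only [mul_assoc]

/-- Consequence: if moreover `x ^ r = 1`, `g ^ m = 1` and `r`, `m` are coprime, then `g = 1`. -/
theorem bg13c_eq_one_of_pow_conj {x g b : G} (hxg : x * g = g * x) (hxb : x * b = g * b * x)
    {r m : ℕ} (hxr : x ^ r = 1) (hgm : g ^ m = 1) (hcop : r.Coprime m) : g = 1 := by
  have h1 := bg13c_pow_conj hxg hxb r
  rw [hxr, one_mul, mul_one] at h1
  have h2 : g ^ r = 1 := by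
    have : g ^ r * b = 1 * b := by rw [one_mul]; exact h1.symm
    exact mul_right_cancel this
  have h3 : orderOf g ∣ r := orderOf_dvd_of_pow_eq_one h2
  have h4 : orderOf g ∣ m := orderOf_dvd_of_pow_eq_one hgm
  exact orderOf_eq_one_iff.mp (Nat.eq_one_of_dvd_coprimes hcop h3 h4)

/-- An element of order prime to `s` normalizing a cyclic `s`-group and centralizing an
element of order `s` in it centralizes the group. -/
theorem bg13c_centralizes_cyclic {s r : ℕ} (hs : s.Prime) (hr : r.Prime) (hrs : r ≠ s)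
    {C : Subgroup G} (hCs : IsPGroup s C) (hC : IsCyclic ↥C) {x : G}
    (hxC : x ∈ normalizer (C : Set G)) (hxr : x ^ r = 1) {z : G} (hz : z ∈ C) (hz1 : z ≠ 1)
    (hzs : z ^ s = 1) (hzx : x * z = z * x) : ∀ a ∈ C, x * a = a * x := by
  intro a ha
  by_contra hne
  have hcomm : ∀ a ∈ C, ∀ b ∈ C, a * b = b * a := by
    intro a ha b hb
    obtain ⟨g, hg⟩ := hC.exists_generator
    obtain ⟨i, hi⟩ := hg ⟨a, ha⟩
    obtain ⟨j, hj⟩ := hg ⟨b, hb⟩
    have h1 : (⟨a, ha⟩ : ↥C) * ⟨b, hb⟩ = ⟨b, hb⟩ * ⟨a, ha⟩ := by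
      rw [← hi, ← hj]
      exact (Commute.zpow_zpow (Commute.refl g) i j).eq
    exact congrArg Subtype.val h1
  have hk : ∃ k : ℕ, a ^ (s ^ k) = 1 := by
    obtain ⟨k, hk⟩ := hCs ⟨a, ha⟩
    exact ⟨k, by simpa using congrArg Subtype.val hk⟩
  obtain ⟨n, hn1, hn2⟩ := bg13c_exists_pow (fun b => x * b = b * x) (by simp) hk hne
  set b := a ^ (s ^ n) with hb
  have hbC : b ∈ C := Subgroup.pow_mem _ ha _
  have hxbx : x * b * x⁻¹ ∈ C := (mem_normalizer_iff.mp hxC b).mp hbC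
  set g := x * b * x⁻¹ * b⁻¹ with hg
  have hgC : g ∈ C := C.mul_mem hxbx (C.inv_mem hbC)
  have hgs : g ^ s = 1 := by
    have h1 : Commute (x * b * x⁻¹) b⁻¹ := hcomm _ hxbx _ (C.inv_mem hbC)
    rw [hg, h1.mul_pow, conj_pow, inv_pow]
    have h2 : x * b ^ s * x⁻¹ = b ^ s := by rw [hn2]; group
    rw [h2, mul_inv_cancel]
  have hgz : g ∈ zpowers z := bg13c_mem_zpowers_of_cyclic hs hC hz hz1 hzs hgC hgs
  have hxg : x * g = g * x := by
    obtain ⟨i, hi⟩ := mem_zpowers_iff.mp hgz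
    rw [← hi]
    exact (Commute.zpow_right (show Commute x z from hzx) i).eq
  have hxb : x * b = g * b * x := by rw [hg]; group
  have hg1 : g = 1 :=
    bg13c_eq_one_of_pow_conj hxg hxb hxr hgs ((Nat.coprime_primes hr hs).mpr hrs)
  apply hn1
  show x * b = b * x
  rw [hxb, hg1, one_mul]

/-- If `Q` centralizes `C` and all commutators `[y, a]`, `y ∈ Q`, lie in `C`, with `|Q|` and
`|C|` coprime, then `Q` centralizes `a`. -/
theorem bg13c_hom_trick {C Q : Subgroup G} (hQC : ∀ y ∈ Q, ∀ c ∈ C, y * c = c * y)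
    (hcop : (Nat.card Q).Coprime (Nat.card C)) {a : G}
    (h : ∀ y ∈ Q, y * a * y⁻¹ * a⁻¹ ∈ C) : ∀ y ∈ Q, y * a = a * y := by
  intro y hy
  have hg := h y hy
  have hyg : y * (y * a * y⁻¹ * a⁻¹) = (y * a * y⁻¹ * a⁻¹) * y := hQC y hy _ hg
  have hya : y * a = (y * a * y⁻¹ * a⁻¹) * a * y := by group
  have hyQ : y ^ Nat.card Q = 1 := by
    have h0 := congrArg Subtype.val (pow_card_eq_one' (G := ↥Q) (x := ⟨y, hy⟩))
    simpa only [Subgroup.coe_pow, Subgroup.coe_one] using h0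
  have hgC : (y * a * y⁻¹ * a⁻¹) ^ Nat.card C = 1 := by
    have h0 := congrArg Subtype.val (pow_card_eq_one' (G := ↥C) (x := ⟨_, hg⟩))
    simpa only [Subgroup.coe_pow, Subgroup.coe_one] using h0
  have hg1 := bg13c_eq_one_of_pow_conj hyg hya hyQ hgC hcop
  rw [hya, hg1, one_mul]

/-- `y ↦ [x, y]` is onto `Q` when `x` normalizes `Q` and has no fixed points on it. -/
theorem bg13c_comm_surj {Q : Subgroup G} {x : G} (hxQ : x ∈ normalizer (Q : Set G))
    (hCQ : ∀ y ∈ Q, x * y = y * x → y = 1) :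
    ∀ y ∈ Q, ∃ y' ∈ Q, y = x * y' * x⁻¹ * y'⁻¹ := by
  have hmem : ∀ y : ↥Q, x * (y : G) * x⁻¹ * (y : G)⁻¹ ∈ Q := fun y =>
    Q.mul_mem ((mem_normalizer_iff.mp hxQ y).mp y.2) (Q.inv_mem y.2)
  have hinj : Function.Injective (fun y : ↥Q => (⟨_, hmem y⟩ : ↥Q)) := by
    intro y y' hyy
    have h1 : x * (y : G) * x⁻¹ * (y : G)⁻¹ = x * (y' : G) * x⁻¹ * (y' : G)⁻¹ :=
      congrArg Subtype.val hyy
    have h2 : x * ((y' : G)⁻¹ * (y : G)) = ((y' : G)⁻¹ * (y : G)) * x := by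
      have e1 : x * ((y' : G)⁻¹ * (y : G)) =
          x * (y' : G)⁻¹ * x⁻¹ * (x * (y : G) * x⁻¹ * (y : G)⁻¹) * (y : G) * x := by group
      rw [e1, h1]; group
    have h3 := hCQ _ (Q.mul_mem (Q.inv_mem y'.2) y.2) h2
    apply Subtype.ext
    have : (y : G) = (y' : G) * ((y' : G)⁻¹ * (y : G)) := by group
    rw [this, h3, mul_one]
  have hsurj := Finite.injective_iff_surjective.mp hinj
  intro y hy
  obtain ⟨y', hy'⟩ := hsurj ⟨y, hy⟩
  exact ⟨y', y'.2, (congrArg Subtype.val hy').symm⟩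

/-- In a finite group `Γ` with normal subgroup `K`, an `s`-subgroup `T` not inside `K` has an
element outside `K` that is central in `T` modulo `K`. -/
theorem bg13c_rel_center {Γ : Type*} [Group Γ] [Finite Γ] {s : ℕ} [Fact s.Prime]
    (K : Subgroup Γ) [K.Normal] {T : Subgroup Γ} (hT : IsPGroup s T) (hTK : ¬ T ≤ K) :
    ∃ a ∈ T, a ∉ K ∧ ∀ b ∈ T, a * b * a⁻¹ * b⁻¹ ∈ K := by
  have hp : IsPGroup s ↥(T.map (QuotientGroup.mk' K)) := hT.map _
  have hnt : Nontrivial ↥(T.map (QuotientGroup.mk' K)) := by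
    obtain ⟨t, ht, htK⟩ := Set.not_subset.mp hTK
    refine ⟨⟨⟨QuotientGroup.mk' K t, mem_map_of_mem _ ht⟩, 1, ?_⟩⟩
    intro h
    have h1 : QuotientGroup.mk' K t = 1 := congrArg Subtype.val h
    exact htK ((QuotientGroup.eq_one_iff t).mp h1)
  have hcen := hp.center_nontrivial
  obtain ⟨c, hc⟩ := exists_ne (1 : center ↥(T.map (QuotientGroup.mk' K)))
  obtain ⟨a, ha, hac⟩ := Subgroup.mem_map.mp c.1.2
  refine ⟨a, ha, ?_, ?_⟩
  · intro haK
    apply hc
    apply Subtype.ext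
    apply Subtype.ext
    rw [← hac]
    exact (QuotientGroup.eq_one_iff a).mpr haK
  · intro b hb
    have h1 := Subgroup.mem_center_iff.mp c.2 ⟨QuotientGroup.mk' K b, mem_map_of_mem _ hb⟩
    have h2 : QuotientGroup.mk' K b * QuotientGroup.mk' K a =
        QuotientGroup.mk' K a * QuotientGroup.mk' K b := by
      have := congrArg Subtype.val h1
      rw [Subgroup.coe_mul, Subgroup.coe_mul, ← hac] at this
      exact this
    have h3 : QuotientGroup.mk' K (a * b * a⁻¹ * b⁻¹) = 1 := by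
      rw [map_mul, map_mul, map_mul, ← h2, map_inv, map_inv]
      group
    exact (QuotientGroup.eq_one_iff _).mp h3

/-- The FPF lemma of B&G section 11 relative to a normal subgroup `K`. -/
theorem bg13c_rel_fpf {Γ : Type*} [Group Γ] [Finite Γ] (hodd : Odd (Nat.card Γ)) {s r : ℕ}
    [Fact s.Prime] (hr : r.Prime) (hrs : r ≠ s) (K : Subgroup Γ) [K.Normal] {N Y : Subgroup Γ}
    {x : Γ} (hN : IsPGroup s N) (hYN : Y ≤ normalizer (N : Set Γ))
    (hxN : x ∈ normalizer (N : Set Γ)) (hxY : x ∈ normalizer (Y : Set Γ)) (hxr : x ^ r = 1)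
    (hsY : ¬ s ∣ Nat.card Y) (hrY : ¬ r ∣ Nat.card Y)
    (hfix : ∀ a ∈ N, x * a * x⁻¹ * a⁻¹ ∈ K → a ∈ K) :
    ∀ y ∈ Y, ∀ a ∈ N, (x * y * x⁻¹ * y⁻¹) * a * (x * y * x⁻¹ * y⁻¹)⁻¹ * a⁻¹ ∈ K := by
  have hs : s.Prime := Fact.out
  have hoddq : Odd (Nat.card (Γ ⧸ K)) :=
    Odd.of_dvd_nat hodd (Subgroup.card_quotient_dvd_card K)
  have hNp : IsPGroup s ↥(N.map (QuotientGroup.mk' K)) := hN.map _
  obtain ⟨n, hn⟩ := IsPGroup.iff_card.mp hNp
  have hYd : Nat.card ↥(Y.map (QuotientGroup.mk' K)) ∣ Nat.card Y := Subgroup.card_map_dvd Y _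
  have key := Helper55.bg_fpf_comm_centralizes hoddq hr (N.map (QuotientGroup.mk' K))
    (Y.map (QuotientGroup.mk' K)) (QuotientGroup.mk' K x) hNp.isNilpotent
    ((Subgroup.map_mono hYN).trans (Subgroup.le_normalizer_map _))
    (Subgroup.le_normalizer_map _ (mem_map_of_mem _ hxN))
    (Subgroup.le_normalizer_map _ (mem_map_of_mem _ hxY))
    (by rw [← map_pow, hxr, map_one])
    (by
      rw [hn]
      intro hd
      exact hrs ((Nat.prime_dvd_prime_iff_eq hr hs).mp (hr.dvd_of_dvd_pow hd)))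
    (fun hd => hrY (hd.trans hYd))
    (by
      rw [hn]
      apply Nat.Coprime.pow_left
      exact (Nat.Prime.coprime_iff_not_dvd hs).mpr (fun hd => hsY (hd.trans hYd)))
    (by
      intro a' ha' hxa
      obtain ⟨a, ha, rfl⟩ := Subgroup.mem_map.mp ha'
      have h1 : QuotientGroup.mk' K (x * a * x⁻¹ * a⁻¹) = 1 := by
        rw [map_mul, map_mul, map_mul, hxa, map_inv, map_inv]
        group
      exact (QuotientGroup.eq_one_iff a).mpr (hfix a ha ((QuotientGroup.eq_one_iff _).mp h1)))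
  intro y hy a ha
  have h1 := key _ (mem_map_of_mem _ hy) _ (mem_map_of_mem _ ha)
  have h2 : QuotientGroup.mk' K ((x * y * x⁻¹ * y⁻¹) * a * (x * y * x⁻¹ * y⁻¹)⁻¹ * a⁻¹) = 1 := by
    have e : QuotientGroup.mk' K ((x * y * x⁻¹ * y⁻¹) * a) =
        QuotientGroup.mk' K (a * (x * y * x⁻¹ * y⁻¹)) := by
      simp only [map_mul, map_inv]
      exact h1
    rw [map_mul, map_mul, e, map_mul, map_inv, map_inv]
    group
  exact (QuotientGroup.eq_one_iff _).mp h2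

/-- The elements of `C_S(C)` that are central in `C_S(C)` modulo `C`. -/
def bg13cZ (S C : Subgroup G) : Subgroup G where
  carrier := {a | a ∈ S ⊓ centralizer (C : Set G) ∧
    ∀ b ∈ S ⊓ centralizer (C : Set G), a * b * a⁻¹ * b⁻¹ ∈ C}
  one_mem' := ⟨one_mem _, fun b _ => by simp⟩
  mul_mem' := by
    rintro a a' ⟨ha, hab⟩ ⟨ha', hab'⟩
    refine ⟨mul_mem ha ha', fun b hb => ?_⟩
    have h1 := hab' b hb
    have h2 : a * (a' * b * a'⁻¹ * b⁻¹) = (a' * b * a'⁻¹ * b⁻¹) * a :=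
      (mem_centralizer_iff.mp (Subgroup.mem_inf.mp ha).2 _ h1).symm
    have e : a * a' * b * (a * a')⁻¹ * b⁻¹ =
        (a * (a' * b * a'⁻¹ * b⁻¹)) * a⁻¹ * (a * b * a⁻¹ * b⁻¹) := by group
    rw [e, h2]
    have e2 : (a' * b * a'⁻¹ * b⁻¹) * a * a⁻¹ = a' * b * a'⁻¹ * b⁻¹ := by group
    rw [e2]
    exact C.mul_mem h1 (hab b hb)
  inv_mem' := by
    rintro a ⟨ha, hab⟩
    refine ⟨inv_mem ha, fun b hb => ?_⟩
    have h1 := C.inv_mem (hab b hb)
    have h2 : a * (a * b * a⁻¹ * b⁻¹)⁻¹ = (a * b * a⁻¹ * b⁻¹)⁻¹ * a :=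
      (mem_centralizer_iff.mp (Subgroup.mem_inf.mp ha).2 _ h1).symm
    have e : a⁻¹ * b * a⁻¹⁻¹ * b⁻¹ = a⁻¹ * ((a * b * a⁻¹ * b⁻¹)⁻¹ * a) := by group
    rw [e, ← h2]
    have e2 : a⁻¹ * (a * (a * b * a⁻¹ * b⁻¹)⁻¹) = (a * b * a⁻¹ * b⁻¹)⁻¹ := by group
    rw [e2]
    exact h1

theorem mem_bg13cZ {S C : Subgroup G} {a : G} : a ∈ bg13cZ S C ↔
    a ∈ S ⊓ centralizer (C : Set G) ∧
      ∀ b ∈ S ⊓ centralizer (C : Set G), a * b * a⁻¹ * b⁻¹ ∈ C := Iff.rfl

/-- The elements of `bg13cZ S C` whose `s`-th power lies in `C`. -/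
def bg13cV (s : ℕ) (S C : Subgroup G) : Subgroup G where
  carrier := {a | a ∈ bg13cZ S C ∧ a ^ s ∈ C}
  one_mem' := ⟨one_mem _, by rw [one_pow]; exact one_mem _⟩
  mul_mem' := by
    rintro a a' ⟨ha, has⟩ ⟨ha', has'⟩
    refine ⟨mul_mem ha ha', ?_⟩
    have hc : a' * a * a'⁻¹ * a⁻¹ ∈ C := ha'.2 a ha.1
    have hca : (a' * a * a'⁻¹ * a⁻¹) * a = a * (a' * a * a'⁻¹ * a⁻¹) :=
      mem_centralizer_iff.mp (Subgroup.mem_inf.mp ha.1).2 _ hc
    have hca' : (a' * a * a'⁻¹ * a⁻¹) * a' = a' * (a' * a * a'⁻¹ * a⁻¹) :=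
      mem_centralizer_iff.mp (Subgroup.mem_inf.mp ha'.1).2 _ hc
    have h := (Helper51.mul_pow_of_commutator_central a a' (a' * a * a'⁻¹ * a⁻¹)
      (by group) hca hca' s).1
    rw [h]
    exact C.mul_mem (Subgroup.pow_mem _ hc _) (C.mul_mem has has')
  inv_mem' := by
    rintro a ⟨ha, has⟩
    exact ⟨inv_mem ha, by rw [inv_pow]; exact C.inv_mem has⟩

theorem mem_bg13cV {s : ℕ} {S C : Subgroup G} {a : G} : a ∈ bg13cV s S C ↔
    a ∈ bg13cZ S C ∧ a ^ s ∈ C := Iff.rfl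

/-- Power map on `bg13cV s S C` for odd `s`: `(a b) ^ s = a ^ s b ^ s`. -/
theorem bg13cV_mul_pow {s : ℕ} (hs : s.Prime) (hs2 : s ≠ 2) {S C : Subgroup G} {a a' : G}
    (ha : a ∈ bg13cV s S C) (ha' : a' ∈ bg13cV s S C) : (a * a') ^ s = a ^ s * a' ^ s := by
  have hc : a' * a * a'⁻¹ * a⁻¹ ∈ C := ha'.1.2 a ha.1.1
  have hca : (a' * a * a'⁻¹ * a⁻¹) * a = a * (a' * a * a'⁻¹ * a⁻¹) :=
    mem_centralizer_iff.mp (Subgroup.mem_inf.mp ha.1.1).2 _ hc
  have hca' : (a' * a * a'⁻¹ * a⁻¹) * a' = a' * (a' * a * a'⁻¹ * a⁻¹) :=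
    mem_centralizer_iff.mp (Subgroup.mem_inf.mp ha'.1.1).2 _ hc
  obtain ⟨h1, h2⟩ := Helper51.mul_pow_of_commutator_central a a' (a' * a * a'⁻¹ * a⁻¹)
    (by group) hca hca' s
  have h3 : a' ^ s * a = a * a' ^ s :=
    (mem_centralizer_iff.mp (Subgroup.mem_inf.mp ha.1.1).2 _ ha'.2)
  have hcs : (a' * a * a'⁻¹ * a⁻¹) ^ s = 1 := by
    rw [h3] at h2
    exact (mul_eq_right.mp h2.symm)
  have hdvd : s ∣ ∑ i ∈ Finset.range s, i := by
    have h4 := Finset.sum_range_id_mul_two s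
    have h5 : s ∣ (∑ i ∈ Finset.range s, i) * 2 := by rw [h4]; exact dvd_mul_right _ _
    rcases (Nat.Prime.dvd_mul hs).mp h5 with h6 | h6
    · exact h6
    · exact absurd ((Nat.prime_dvd_prime_iff_eq hs Nat.prime_two).mp h6) hs2
  obtain ⟨k, hk⟩ := hdvd
  rw [h1, hk, pow_mul, hcs, one_pow, one_mul]

/-- An element normalizing `S` and `C` normalizes `bg13cV s S C`. -/
theorem bg13cV_normalizer {s : ℕ} {S C : Subgroup G} {g : G}
    (hgS : g ∈ normalizer (S : Set G)) (hgC : g ∈ normalizer (C : Set G)) :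
    g ∈ normalizer ((bg13cV s S C : Subgroup G) : Set G) := by
  have hSC : ∀ g ∈ normalizer (S : Set G) ⊓ normalizer (C : Set G),
      ∀ a ∈ S ⊓ centralizer (C : Set G), g * a * g⁻¹ ∈ S ⊓ centralizer (C : Set G) := by
    intro g hg a ha
    refine Subgroup.mem_inf.mpr ⟨(mem_normalizer_iff.mp hg.1 a).mp ha.1, ?_⟩
    rw [mem_centralizer_iff]
    intro c hc
    have h1 : g⁻¹ * c * g⁻¹⁻¹ ∈ C := (mem_normalizer_iff.mp (inv_mem hg.2) c).mp hc
    have h2 := mem_centralizer_iff.mp ha.2 _ h1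
    calc c * (g * a * g⁻¹) = g * ((g⁻¹ * c * g⁻¹⁻¹) * a) * g⁻¹ := by group
      _ = g * (a * (g⁻¹ * c * g⁻¹⁻¹)) * g⁻¹ := by rw [h2]
      _ = g * a * g⁻¹ * c := by group
  have key : ∀ g ∈ normalizer (S : Set G) ⊓ normalizer (C : Set G),
      ∀ a ∈ bg13cV s S C, g * a * g⁻¹ ∈ bg13cV s S C := by
    intro g hg a ha
    refine ⟨⟨hSC g hg a ha.1.1, fun b hb => ?_⟩, ?_⟩
    · have hb' : g⁻¹ * b * g⁻¹⁻¹ ∈ S ⊓ centralizer (C : Set G) := hSC g⁻¹ (inv_mem hg) b hb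
      have h1 := ha.1.2 _ hb'
      have h2 := (mem_normalizer_iff.mp hg.2 _).mp h1
      have e : g * a * g⁻¹ * b * (g * a * g⁻¹)⁻¹ * b⁻¹ =
          g * (a * (g⁻¹ * b * g⁻¹⁻¹) * a⁻¹ * (g⁻¹ * b * g⁻¹⁻¹)⁻¹) * g⁻¹ := by group
      rw [e]
      exact h2
    · rw [conj_pow]
      exact (mem_normalizer_iff.mp hg.2 _).mp ha.2
  have hg : g ∈ normalizer (S : Set G) ⊓ normalizer (C : Set G) := ⟨hgS, hgC⟩
  rw [mem_normalizer_iff]
  intro a
  refine ⟨key g hg a, fun h => ?_⟩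
  have := key g⁻¹ (inv_mem hg) _ h
  have e : g⁻¹ * (g * a * g⁻¹) * g⁻¹⁻¹ = a := by group
  rwa [e] at this

/-- An element normalizing `S` and `C` normalizes `S ⊓ C(C)`. -/
theorem bg13c_normalizer_inf_centralizer {S C : Subgroup G} {g : G}
    (hgS : g ∈ normalizer (S : Set G)) (hgC : g ∈ normalizer (C : Set G)) :
    g ∈ normalizer ((S ⊓ centralizer (C : Set G) : Subgroup G) : Set G) := by
  have hSC : ∀ g ∈ normalizer (S : Set G) ⊓ normalizer (C : Set G),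
      ∀ a ∈ S ⊓ centralizer (C : Set G), g * a * g⁻¹ ∈ S ⊓ centralizer (C : Set G) := by
    intro g hg a ha
    refine Subgroup.mem_inf.mpr ⟨(mem_normalizer_iff.mp hg.1 a).mp ha.1, ?_⟩
    rw [mem_centralizer_iff]
    intro c hc
    have h1 : g⁻¹ * c * g⁻¹⁻¹ ∈ C := (mem_normalizer_iff.mp (inv_mem hg.2) c).mp hc
    have h2 := mem_centralizer_iff.mp ha.2 _ h1
    calc c * (g * a * g⁻¹) = g * ((g⁻¹ * c * g⁻¹⁻¹) * a) * g⁻¹ := by group
      _ = g * (a * (g⁻¹ * c * g⁻¹⁻¹)) * g⁻¹ := by rw [h2]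
      _ = g * a * g⁻¹ * c := by group
  have hg : g ∈ normalizer (S : Set G) ⊓ normalizer (C : Set G) := ⟨hgS, hgC⟩
  rw [mem_normalizer_iff]
  intro a
  refine ⟨hSC g hg a, fun h => ?_⟩
  have := hSC g⁻¹ (inv_mem hg) _ h
  have e : g⁻¹ * (g * a * g⁻¹) * g⁻¹⁻¹ = a := by group
  rwa [e] at this

/-- **Lemma G'** (for B&G 12.18 / 13.4). Let `G` have odd order, `S` an `s`-subgroup
normalized by `Q` and by an element `x` of prime order `r ≠ s` normalizing `Q`, with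
`(|Q|, r s) = 1` and `C_Q(x) = 1`. If `C_S(Q)` and `C_S(x)` are cyclic and some non-trivial
element of `S` centralizes both `Q` and `x`, then `Q` centralizes `S`. -/
theorem bg13_frob_cyc (hodd : Odd (Nat.card G))
    {s r : ℕ} [Fact s.Prime] (hr : r.Prime) (hrs : r ≠ s) {S Q : Subgroup G} {x : G}
    (hS : IsPGroup s S) (hQS : Q ≤ normalizer (S : Set G)) (hxS : x ∈ normalizer (S : Set G))
    (hxQ : x ∈ normalizer (Q : Set G)) (hxr : x ^ r = 1)
    (hsQ : ¬ s ∣ Nat.card Q) (hrQ : ¬ r ∣ Nat.card Q)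
    (hCQ : ∀ y ∈ Q, x * y = y * x → y = 1)
    (hcQ : IsCyclic ↥(S ⊓ centralizer (Q : Set G)))
    (hcR : IsCyclic ↥(S ⊓ centralizer ({x} : Set G)))
    {z : G} (hzS : z ∈ S) (hz1 : z ≠ 1) (hzQ : z ∈ centralizer (Q : Set G))
    (hzx : x * z = z * x) : S ≤ centralizer (Q : Set G) := by
  have hs : s.Prime := Fact.out
  by_contra hSQ
  set C : Subgroup G := S ⊓ centralizer (Q : Set G) with hCdef
  set CR : Subgroup G := S ⊓ centralizer ({x} : Set G) with hCRdef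
  have hCS : C ≤ S := inf_le_left
  have hCs : IsPGroup s C := hS.to_le hCS
  -- an element `z₀` of order `s`
  have hk : ∃ k : ℕ, z ^ (s ^ k) = 1 := by
    obtain ⟨k, hk⟩ := hS ⟨z, hzS⟩
    exact ⟨k, by simpa only [Subgroup.coe_pow, Subgroup.coe_one] using congrArg Subtype.val hk⟩
  obtain ⟨n₀, hn₀1, hn₀2⟩ : ∃ n : ℕ, z ^ (s ^ n) ≠ 1 ∧ (z ^ (s ^ n)) ^ s = 1 :=
    bg13c_exists_pow (fun b : G => b = (1 : G)) rfl hk hz1
  set z₀ := z ^ (s ^ n₀) with hz₀
  have hz₀C : z₀ ∈ C := Subgroup.pow_mem _ (Subgroup.mem_inf.mpr ⟨hzS, hzQ⟩) _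
  have hz₀x : x * z₀ = z₀ * x := (Commute.pow_right (show Commute x z from hzx) _).eq
  have hz₀R : z₀ ∈ CR := Subgroup.mem_inf.mpr ⟨hCS hz₀C, by
    rw [mem_centralizer_iff]
    intro h hh
    rw [Set.mem_singleton_iff] at hh
    rw [hh]; exact hz₀x⟩
  have hs2 : s ≠ 2 := by
    intro h2
    have h1 : orderOf z₀ = s := orderOf_eq_prime hn₀2 hn₀1
    have h3 : s ∣ Nat.card G := h1 ▸ orderOf_dvd_natCard z₀
    rw [h2] at h3
    exact (Nat.not_even_iff_odd.mpr hodd) (even_iff_two_dvd.mpr h3)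
  have hUR : ∀ w ∈ CR, w ^ s = 1 → w ∈ zpowers z₀ := fun w hw hws =>
    bg13c_mem_zpowers_of_cyclic hs hcR hz₀R hn₀1 hn₀2 hw hws
  have hzpC : zpowers z₀ ≤ C := by rw [zpowers_le]; exact hz₀C
  have hxC : x ∈ normalizer (C : Set G) := bg13c_normalizer_inf_centralizer hxS hxQ
  -- `x` centralizes `C`
  have hxcC : ∀ a ∈ C, x * a = a * x :=
    bg13c_centralizes_cyclic hs hr hrs hCs hcQ hxC hxr hz₀C hn₀1 hn₀2 hz₀x
  have hQcC : ∀ y ∈ Q, ∀ c ∈ C, y * c = c * y := fun y hy c hc =>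
    mem_centralizer_iff.mp (Subgroup.mem_inf.mp hc).2 y hy
  obtain ⟨nS, hnS⟩ := IsPGroup.iff_card.mp hS
  have hcopQS : (Nat.card Q).Coprime (Nat.card S) := by
    rw [hnS]
    exact Nat.Coprime.pow_right _ ((Nat.Prime.coprime_iff_not_dvd hs).mpr hsQ).symm
  have hcopQC : (Nat.card Q).Coprime (Nat.card C) :=
    Nat.Coprime.coprime_dvd_right (Subgroup.card_dvd_of_le hCS) hcopQS
  -- `S₂ = C_S(C)` is not inside `C`
  set S₂ : Subgroup G := S ⊓ centralizer (C : Set G) with hS₂def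
  have hS₂C : ¬ S₂ ≤ C := by
    intro hle
    have := Cfsg.Agent.S1442.result S Q hS.isNilpotent hQS hcopQS hle
    apply hSQ
    intro a ha
    rw [mem_centralizer_iff]
    intro y hy
    exact (mem_centralizer_iff.mp (this hy) a ha).symm
  have hQΓ : Q ≤ normalizer (C : Set G) := fun y hy =>
    bg13c_normalizer_inf_centralizer (hQS hy) (le_normalizer hy)
  have hS₂Γ : S₂ ≤ normalizer (C : Set G) := inf_le_right.trans (centralizer_le_normalizer _)
  have hKn : (C.subgroupOf (normalizer (C : Set G))).Normal := Subgroup.normal_in_normalizer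
  -- an element `a₀` of `S₂` outside `C`, central modulo `C`
  have hT : ¬ S₂.subgroupOf (normalizer (C : Set G)) ≤ C.subgroupOf (normalizer (C : Set G)) := by
    intro hle
    apply hS₂C
    intro a ha
    have := hle (show (⟨a, hS₂Γ ha⟩ : normalizer (C : Set G)) ∈ S₂.subgroupOf _ from
      mem_subgroupOf.mpr ha)
    exact mem_subgroupOf.mp this
  obtain ⟨a₀', ha₀T, ha₀K, ha₀c⟩ := bg13c_rel_center (s := s)
    (C.subgroupOf (normalizer (C : Set G))) (T := S₂.subgroupOf (normalizer (C : Set G)))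
    (hS.to_le inf_le_left).comap_subtype hT
  have ha₀ : (a₀' : G) ∈ S₂ := mem_subgroupOf.mp ha₀T
  have ha₀C : (a₀' : G) ∉ C := fun h => ha₀K (mem_subgroupOf.mpr h)
  have ha₀Z : (a₀' : G) ∈ bg13cZ S C := by
    refine ⟨ha₀, fun b hb => ?_⟩
    have h := mem_subgroupOf.mp (ha₀c ⟨b, hS₂Γ hb⟩ (mem_subgroupOf.mpr hb))
    simpa only [Subgroup.coe_mul, Subgroup.coe_inv] using h
  have hk₀ : ∃ k : ℕ, (a₀' : G) ^ (s ^ k) = 1 := by
    obtain ⟨k, hk⟩ := hS ⟨(a₀' : G), (inf_le_left : S₂ ≤ S) ha₀⟩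
    exact ⟨k, by simpa only [Subgroup.coe_pow, Subgroup.coe_one] using congrArg Subtype.val hk⟩
  obtain ⟨n₁, hn₁1, hn₁2⟩ := bg13c_exists_pow (fun b => b ∈ C) (one_mem C) hk₀ ha₀C
  have ha₁V : (a₀' : G) ^ (s ^ n₁) ∈ bg13cV s S C := ⟨Subgroup.pow_mem _ ha₀Z _, hn₁2⟩
  -- the subgroup `V`
  set V := bg13cV s S C with hVdef
  have hVS : V ≤ S := fun a ha => (Subgroup.mem_inf.mp ha.1.1).1
  have hVs : IsPGroup s V := hS.to_le hVS
  have hxV : x ∈ normalizer (V : Set G) := bg13cV_normalizer hxS hxC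
  have hQV : Q ≤ normalizer (V : Set G) := fun y hy => bg13cV_normalizer (hQS hy) (hQΓ hy)
  have hVΓ : V ≤ normalizer (C : Set G) := fun a ha => hS₂Γ ha.1.1
  -- an element `c₁` of `V` outside `C` fixed by `x` modulo `C`
  have hex : ∃ c₁ ∈ V, x * c₁ * x⁻¹ * c₁⁻¹ ∈ C ∧ c₁ ∉ C := by
    by_contra hno
    push Not at hno
    have hΓodd : Odd (Nat.card (normalizer (C : Set G))) :=
      Odd.of_dvd_nat hodd (Subgroup.card_subgroup_dvd_card _)
    have key := bg13c_rel_fpf hΓodd hr hrs (C.subgroupOf (normalizer (C : Set G)))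
      (N := V.subgroupOf (normalizer (C : Set G))) (Y := Q.subgroupOf (normalizer (C : Set G)))
      (x := ⟨x, hxC⟩) hVs.comap_subtype
      (by
        intro y hy
        rw [mem_normalizer_iff]
        intro h
        rw [mem_subgroupOf, mem_subgroupOf]
        exact mem_normalizer_iff.mp (hQV (mem_subgroupOf.mp hy)) (h : G))
      (by
        rw [mem_normalizer_iff]
        intro h
        rw [mem_subgroupOf, mem_subgroupOf]
        exact mem_normalizer_iff.mp hxV (h : G))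
      (by
        rw [mem_normalizer_iff]
        intro h
        rw [mem_subgroupOf, mem_subgroupOf]
        exact mem_normalizer_iff.mp hxQ (h : G))
      (Subtype.ext (by rw [Subgroup.coe_pow, Subgroup.coe_one]; exact hxr))
      (by rw [Helper35.card_subgroupOf_of_le hQΓ]; exact hsQ)
      (by rw [Helper35.card_subgroupOf_of_le hQΓ]; exact hrQ)
      (by
        intro a' ha' hxa
        rw [mem_subgroupOf] at ha' ⊢
        exact hno (a' : G) ha' (mem_subgroupOf.mp hxa))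
    have h1 : ∀ y ∈ Q, ∀ a ∈ V, y * a * y⁻¹ * a⁻¹ ∈ C := by
      intro y hy a ha
      obtain ⟨y', hy', rfl⟩ := bg13c_comm_surj hxQ hCQ y hy
      have := key ⟨y', hQΓ hy'⟩ (mem_subgroupOf.mpr hy') ⟨a, hVΓ ha⟩ (mem_subgroupOf.mpr ha)
      exact mem_subgroupOf.mp this
    have h2 : V ≤ C := by
      intro a ha
      refine Subgroup.mem_inf.mpr ⟨hVS ha, ?_⟩
      rw [mem_centralizer_iff]
      intro y hy
      exact bg13c_hom_trick hQcC hcopQC (fun y hy => h1 y hy a ha) y hy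
    exact hn₁1 (h2 ha₁V)
  obtain ⟨c₁, hc₁V, hc₁g, hc₁C⟩ := hex
  -- `x` centralizes `c₁`
  have hxc₁ : x * c₁ = c₁ * x := by
    have hxg := hxcC _ hc₁g
    have hxb : x * c₁ = (x * c₁ * x⁻¹ * c₁⁻¹) * c₁ * x := by group
    obtain ⟨k, hk⟩ := hCs ⟨_, hc₁g⟩
    have hgk : (x * c₁ * x⁻¹ * c₁⁻¹) ^ (s ^ k) = 1 := by
      simpa only [Subgroup.coe_pow, Subgroup.coe_one] using congrArg Subtype.val hk
    have hg1 := bg13c_eq_one_of_pow_conj hxg hxb hxr hgk
      (Nat.Coprime.pow_right _ ((Nat.coprime_primes hr hs).mpr hrs))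
    rw [hxb, hg1, one_mul]
  -- `c₁ = t c'` with `t ∈ [V, Q]`, `c' ∈ C_V(Q)`
  have hcopQV : (Nat.card Q).Coprime (Nat.card V) :=
    Nat.Coprime.coprime_dvd_right (Subgroup.card_dvd_of_le hVS) hcopQS
  have : Group.IsNilpotent V := hVs.isNilpotent
  obtain ⟨t, ht, c', hc', hc₁t⟩ :=
    Helper35.exists_commutator_mul_fixed hQV hcopQV (Or.inr inferInstance) hc₁V
  -- `[V, Q]` has exponent `s`
  have hE : ∃ E : Subgroup G, ∀ a, a ∈ E ↔ a ∈ V ∧ a ^ s = 1 := by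
    refine ⟨{ carrier := {a | a ∈ V ∧ a ^ s = 1}
              one_mem' := ⟨one_mem _, one_pow _⟩
              mul_mem' := ?_
              inv_mem' := ?_ }, fun a => Iff.rfl⟩
    · rintro a b ⟨ha, has⟩ ⟨hb, hbs⟩
      exact ⟨mul_mem ha hb, by rw [bg13cV_mul_pow hs hs2 ha hb, has, hbs, one_mul]⟩
    · rintro a ⟨ha, has⟩
      exact ⟨inv_mem ha, by rw [inv_pow, has, inv_one]⟩
  obtain ⟨E, hE⟩ := hE
  have hcomm_le : (⁅V, Q⁆ : Subgroup G) ≤ E := by
    rw [Subgroup.commutator_le]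
    intro v hv y hy
    rw [hE]
    have hw : y * v⁻¹ * y⁻¹ ∈ V := (mem_normalizer_iff.mp (hQV hy) _).mp (inv_mem hv)
    have e : ⁅v, y⁆ = v * (y * v⁻¹ * y⁻¹) := by rw [commutatorElement_def]; group
    rw [e]
    refine ⟨mul_mem hv hw, ?_⟩
    rw [bg13cV_mul_pow hs hs2 hv hw, conj_pow, inv_pow]
    have h1 : y * (v ^ s)⁻¹ = (v ^ s)⁻¹ * y := hQcC y hy _ (C.inv_mem hv.2)
    rw [h1]; group
  have hts : t ^ s = 1 := ((hE t).mp (hcomm_le ht)).2
  have htV : t ∈ V := ((hE t).mp (hcomm_le ht)).1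
  have hc'C : c' ∈ C :=
    Subgroup.mem_inf.mpr ⟨hVS (Subgroup.mem_inf.mp hc').1, (Subgroup.mem_inf.mp hc').2⟩
  have htx : x * t = t * x := by
    have ht' : t = c₁ * c'⁻¹ := by rw [hc₁t]; group
    have hxc' : x * c'⁻¹ = c'⁻¹ * x := hxcC _ (C.inv_mem hc'C)
    rw [ht', ← mul_assoc, hxc₁, mul_assoc, hxc', ← mul_assoc]
  have htR : t ∈ CR := Subgroup.mem_inf.mpr ⟨hVS htV, by
    rw [mem_centralizer_iff]
    intro h hh
    rw [Set.mem_singleton_iff] at hh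
    rw [hh]; exact htx⟩
  have htC : t ∈ C := hzpC (hUR t htR hts)
  exact hc₁C (by rw [hc₁t]; exact C.mul_mem htC hc'C)

end frob

end Cfsg.Agent.Helper54
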