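/-
helper54: piece CL of CALL S1428 (B&G Theorem 13.4): the needed part of B&G Lemma 12.18,
`Cfsg.Agent.Helper2.Claim1218 G`, from `bg13_frob_cyc` (LEMMA G').
-/
import Cfsg.Agent.Helper54.BG13c
import Cfsg.Agent.Helper2.BG13Defs
import Cfsg.Agent.Helper49.OddCyclic
import Cfsg.Agent.Helper23.Uniq3
import Cfsg.Agent.Helper23.Rank2Fit
import Cfsg.Agent.S1405
import Cfsg.Agent.S1406
import Cfsg.Agent.S1409

set_option autoImplicit false

namespace Cfsg.Agent.Helper54

open Cfsg Subgroup Cfsg.Agent.Helper2 Cfsg.Agent.Helper23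
open scoped Pointwise

universe u

variable {G : Type u} [Group G] [Finite G]

/-- BLOCK CL: the 12.18 claim. -/
theorem bg13_claim (hG : IsMinSimpleOddOrder G) : Claim1218 G := by
  intro H R Q r q hH hrτ hRH hRc hq hqα hqr hQq hQ1 hQH hRQ hCQ hnu
  have hodd : Odd (Nat.card G) := hG.1
  have hsimp : IsSimpleGroup G := hG.2.1
  have hr : r.Prime := hrτ.1
  have hrα : r ∉ alpha H := fun h => h.2 (fun A hA hAr =>
    (hrτ.2.2.2.2 A hA hAr).trans (Nat.pow_le_pow_right hr.pos (by norm_num)))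
  have hfq : Fact q.Prime := ⟨hq⟩
  have hfr : Fact r.Prime := ⟨hr⟩
  rw [Subgroup.eq_bot_iff_forall]
  by_contra hne
  push Not at hne
  obtain ⟨z, hz, hz1⟩ := hne
  -- an element `z'` of prime order `s`
  have hoz : orderOf z ≠ 1 := fun h => hz1 (orderOf_eq_one_iff.mp h)
  obtain ⟨s, hs, hsz⟩ := Nat.exists_prime_and_dvd hoz
  have hfs : Fact s.Prime := ⟨hs⟩
  have hoz' : orderOf (z ^ (orderOf z / s)) = s :=
    orderOf_pow_orderOf_div (orderOf_pos z).ne' hsz
  set z' := z ^ (orderOf z / s) with hz'def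
  have hz'1 : z' ≠ 1 := fun h => hs.ne_one (by rw [← hoz', h, orderOf_one])
  have hz' : z' ∈ alphaCore H ⊓ centralizer (Q : Set G) ⊓ centralizer (R : Set G) :=
    Subgroup.pow_mem _ hz _
  have hz'K : z' ∈ alphaCore H := hz'.1.1
  have hz'Q : z' ∈ centralizer (Q : Set G) := hz'.1.2
  have hz'R : z' ∈ centralizer (R : Set G) := hz'.2
  have hsα : s ∈ alpha H := by
    refine mem_of_dvd_card_piCoreOf (alpha H) H hs ?_
    have h1 := Subgroup.orderOf_dvd_natCard (alphaCore H) hz'K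
    rw [hoz'] at h1
    exact h1
  have hs2 : s ≠ 2 := by
    intro h2
    have h3 : s ∣ Nat.card G := hoz' ▸ orderOf_dvd_natCard z'
    rw [h2] at h3
    exact (Nat.not_even_iff_odd.mpr hodd) (even_iff_two_dvd.mpr h3)
  have hrs : r ≠ s := fun h => hrα (h ▸ hsα)
  have hqs : q ≠ s := fun h => hqα (h ▸ hsα)
  obtain ⟨nQ, hnQ⟩ := IsPGroup.iff_card.mp hQq
  have hsQ : ¬ s ∣ Nat.card Q := by
    rw [hnQ]
    intro hd
    exact hqs ((Nat.prime_dvd_prime_iff_eq hs hq).mp (hs.dvd_of_dvd_pow hd)).symm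
  have hrQ : ¬ r ∣ Nat.card Q := by
    rw [hnQ]
    intro hd
    exact hqr ((Nat.prime_dvd_prime_iff_eq hr hq).mp (hr.dvd_of_dvd_pow hd)).symm
  -- a `Q R`-invariant Sylow `s`-subgroup of `H_α` containing `z'`
  have hKH : alphaCore H ≤ H := piCoreOf_le (alpha H) H
  have hHK : H ≤ normalizer (alphaCore H : Set G) := le_normalizer_piCoreOf (alpha H) H
  have hAH : R ⊔ Q ≤ H := sup_le hRH hQH
  have hcop : (Nat.card ↥(R ⊔ Q)).Coprime (Nat.card (alphaCore H)) := by
    refine Nat.Coprime.coprime_dvd_left (card_sup_dvd_of_le_normalizer hRQ) ?_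
    apply Nat.Coprime.mul_left
    · rw [hRc]
      exact (Nat.Prime.coprime_iff_not_dvd hr).mpr
        (fun hd => hrα (mem_of_dvd_card_piCoreOf (alpha H) H hr hd))
    · rw [hnQ]
      exact Nat.Coprime.pow_left _ ((Nat.Prime.coprime_iff_not_dvd hq).mpr
        (fun hd => hqα (mem_of_dvd_card_piCoreOf (alpha H) H hq hd)))
  have hsolv : Group.IsSolvable ↥(alphaCore H) :=
    Helper35.isSolvable_of_le hKH (uq_isSolvable hG hH.1)
  have hAc : R ⊔ Q ≤ centralizer ({z'} : Set G) := by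
    refine sup_le (fun y hy => ?_) (fun y hy => ?_)
    · rw [mem_centralizer_iff]
      intro h hh
      rw [Set.mem_singleton_iff] at hh
      rw [hh]
      exact (mem_centralizer_iff.mp hz'R y hy).symm
    · rw [mem_centralizer_iff]
      intro h hh
      rw [Set.mem_singleton_iff] at hh
      rw [hh]
      exact (mem_centralizer_iff.mp hz'Q y hy).symm
  have hUA : R ⊔ Q ≤ normalizer ((zpowers z' : Subgroup G) : Set G) := by
    apply Helper35.le_normalizer_of_forall_conj_mem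
    intro a ha u hu
    obtain ⟨k, rfl⟩ := mem_zpowers_iff.mp hu
    have h1 : z' * a = a * z' := mem_centralizer_iff.mp (hAc ha) z' rfl
    have h2 : a * z' ^ k = z' ^ k * a := (Commute.zpow_right (show Commute a z' from h1.symm) k).eq
    rw [h2, mul_inv_cancel_right]
    exact hu
  have hUp : IsPGroup s ↥(zpowers z') :=
    IsPGroup.of_card (n := 1) (by rw [Nat.card_zpowers, hoz', pow_one])
  obtain ⟨S, hS, hUS, hAS⟩ := Helper35.exists_invariant_sylow_ge (hAH.trans hHK) hcop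
    (Or.inr hsolv) (by rw [zpowers_le]; exact hz'K) hUp hUA
  have hz'S : z' ∈ S := hUS (mem_zpowers z')
  have hSs : IsPGroup s S := Helper35.isPGroup_of_mem_sylowSet hS
  have hSK : S ≤ alphaCore H := hS.1
  have hSyl : IsSylowOf s S H :=
    Helper22.bg10_isSylowOf_of_sylowSet hKH
      ((Cfsg.Agent.S1405.result hG H hH).1.2.2 s hs hsα) hS
  -- `S` is not cyclic
  have hSnc : ¬ IsCyclic ↥S := by
    intro hSc
    obtain ⟨E, hEH, hEc, hEs, hEcard⟩ := exists_elemAb_of_not_pRankLE hsα.2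
    have h1 := bg13_card_le_of_cyclic_sylow hSyl hSc hEH ⟨hEc, hEs⟩
    have h2 : s ≤ s ^ 2 := Nat.le_self_pow (by norm_num) s
    omega
  -- a generator `x` of `R`
  have hRcyc : IsCyclic ↥R := isCyclic_of_prime_card hRc
  obtain ⟨g, hg⟩ := hRcyc.exists_generator
  have hxR : (g : G) ∈ R := g.2
  have hRx : ∀ y ∈ R, ∃ k : ℤ, (g : G) ^ k = y := by
    intro y hy
    obtain ⟨k, hk⟩ := mem_zpowers_iff.mp (hg ⟨y, hy⟩)
    exact ⟨k, by simpa only [Subgroup.coe_zpow] using congrArg Subtype.val hk⟩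
  have hxr : (g : G) ^ r = 1 := by
    have h0 := congrArg Subtype.val (pow_card_eq_one' (G := ↥R) (x := g))
    rw [hRc] at h0
    simpa only [Subgroup.coe_pow, Subgroup.coe_one] using h0
  have hcent : centralizer (R : Set G) = centralizer ({(g : G)} : Set G) := by
    apply le_antisymm
    · exact Subgroup.centralizer_le (by simp)
    · intro c hc
      rw [mem_centralizer_iff]
      intro y hy
      obtain ⟨k, rfl⟩ := hRx y hy
      have h1 : (g : G) * c = c * (g : G) := mem_centralizer_iff.mp hc _ rfl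
      exact (Commute.zpow_left (show Commute (g : G) c from h1) k).eq
  have hNtop : ∀ X : Subgroup G, X ≠ ⊥ → X ≤ H → normalizer (X : Set G) ≠ ⊤ := fun X hX1 hXH =>
    normalizer_ne_top_of_simple hX1 (fun h => hH.1 (top_le_iff.mp (h ▸ hXH)))
  -- `H` is the unique maximal subgroup over `N(X)` when `C_{H_α}(X)` is not cyclic
  have huq : ∀ X : Subgroup G, X ≠ ⊥ → X ≤ H →
      (∀ p : ℕ, p.Prime → p ∣ Nat.card X → p ∉ alpha H) →
      ¬ IsCyclic ↥(S ⊓ centralizer (X : Set G)) →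
      normalizer (X : Set G) ≤ H ∧
        ∀ L : Subgroup G, IsCoatom L → normalizer (X : Set G) ≤ L → L = H := by
    intro X hX1 hXH hXα hnc
    have h1 : ¬ PRankLE s 1 ↥(S ⊓ centralizer (X : Set G)) := fun h =>
      hnc (Helper49.isCyclic_of_pRankLE_one hs2 (hSs.to_le inf_le_left) h)
    have h2 : ¬ RankLE 1 ↥(alphaCore H ⊓ centralizer (X : Set G)) := fun h =>
      h1 (pRankLE_of_le (inf_le_inf_right _ hSK) (h s hs))
    obtain ⟨M₁, hM₁, huq⟩ := Cfsg.Agent.S1406.result hG H hH X hXH hXα h2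
    have huniq : ∀ L : Subgroup G, IsCoatom L → normalizer (X : Set G) ≤ L → L = H := by
      intro L hL hNL
      have e1 : L = M₁ :=
        huq L ⟨hL, (inf_le_right.trans (centralizer_le_normalizer _)).trans hNL⟩
      have e2 : H = M₁ := huq H ⟨hH, inf_le_left⟩
      rw [e1, e2]
    obtain ⟨L, hL, hNL⟩ := uq_exists_coatom_ge (hNtop X hX1 hXH)
    have := huniq L hL hNL
    exact ⟨this ▸ hNL, huniq⟩
  -- `C_S(Q)` is cyclic
  have hcQ : IsCyclic ↥(S ⊓ centralizer (Q : Set G)) := by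
    by_contra hnc
    refine hnu (huq Q hQ1 hQH ?_ hnc)
    intro p hp hpd
    rw [hnQ] at hpd
    rw [(Nat.prime_dvd_prime_iff_eq hp hq).mp (hp.dvd_of_dvd_pow hpd)]
    exact hqα
  -- `C_S(R)` is cyclic
  have hR1 : R ≠ ⊥ := by
    intro h
    rw [h, Subgroup.card_bot] at hRc
    exact hr.ne_one hRc.symm
  have hcR : IsCyclic ↥(S ⊓ centralizer (R : Set G)) := by
    by_contra hnc
    have h1 := (huq R hR1 hRH (by
      intro p hp hpd
      rw [hRc] at hpd
      rw [(Nat.prime_dvd_prime_iff_eq hp hr).mp hpd]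
      exact hrα) hnc).1
    exact (Cfsg.Agent.S1409.result hG H hH r hrτ.2.1 R hRc h1).1.2 hrτ.2.2.2.2
  rw [hcent] at hcR
  -- LEMMA G'
  have hCQ' : ∀ y ∈ Q, (g : G) * y = y * (g : G) → y = 1 := by
    intro y hy hxy
    have h1 : y ∈ Q ⊓ centralizer (R : Set G) := by
      refine Subgroup.mem_inf.mpr ⟨hy, ?_⟩
      rw [hcent, mem_centralizer_iff]
      intro h hh
      rw [Set.mem_singleton_iff] at hh
      rw [hh]; exact hxy
    rw [hCQ] at h1
    exact Subgroup.mem_bot.mp h1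
  have hSQ := bg13_frob_cyc hodd hr hrs hSs (le_sup_right.trans hAS)
    (hAS (Subgroup.mem_sup_left hxR)) (hRQ hxR) hxr hsQ hrQ hCQ' hcQ hcR hz'S hz'1 hz'Q
    (mem_centralizer_iff.mp hz'R _ hxR)
  apply hSnc
  have h1 : S ⊓ centralizer (Q : Set G) = S := inf_eq_left.mpr hSQ
  rw [h1] at hcQ
  exact hcQ

end Cfsg.Agent.Helper54
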