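/-
helper54: small general pieces CM, AC, SG (SG1 + SG2), BN of CALL S1428 (B&G Theorem 13.4),
statements verbatim from helper2's skeleton.
-/
import Cfsg.Agent.Helper54.BG13c
import Cfsg.Agent.Helper2.BG13Defs
import Cfsg.Agent.Helper22.BG12b
import Cfsg.Agent.S1403
import Cfsg.Agent.S1404
import Cfsg.Agent.S1405
import Cfsg.Agent.S1423

set_option autoImplicit false

namespace Cfsg.Agent.Helper54

open Cfsg Subgroup Cfsg.Agent.Helper2 Cfsg.Agent.Helper23
open scoped Pointwise commutatorElement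

universe u

variable {G : Type u} [Group G] [Finite G]

set_option linter.unusedSectionVars false
set_option linter.unusedVariables false

/-- A subgroup of prime order `r` has a generator `x`; its centralizer is `C(x)`. -/
theorem bg13c_exists_gen {R : Subgroup G} {r : ℕ} (hr : r.Prime) (hR : Nat.card R = r) :
    ∃ x ∈ R, x ≠ 1 ∧ x ^ r = 1 ∧ (∀ y ∈ R, ∃ k : ℤ, x ^ k = y) ∧
      centralizer (R : Set G) = centralizer ({x} : Set G) := by
  have hfr : Fact r.Prime := ⟨hr⟩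
  have hRcyc : IsCyclic ↥R := isCyclic_of_prime_card hR
  obtain ⟨g, hg⟩ := hRcyc.exists_generator
  have hRx : ∀ y ∈ R, ∃ k : ℤ, (g : G) ^ k = y := by
    intro y hy
    obtain ⟨k, hk⟩ := mem_zpowers_iff.mp (hg ⟨y, hy⟩)
    exact ⟨k, by simpa only [Subgroup.coe_zpow] using congrArg Subtype.val hk⟩
  have hxr : (g : G) ^ r = 1 := by
    have h0 := congrArg Subtype.val (pow_card_eq_one' (G := ↥R) (x := g))
    rw [hR] at h0
    simpa only [Subgroup.coe_pow, Subgroup.coe_one] using h0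
  refine ⟨g, g.2, ?_, hxr, hRx, ?_⟩
  · intro h1
    have h2 : ∀ y ∈ R, y = 1 := by
      intro y hy
      obtain ⟨k, rfl⟩ := hRx y hy
      rw [h1, one_zpow]
    have h3 : R = ⊥ := (Subgroup.eq_bot_iff_forall R).mpr h2
    rw [h3, Subgroup.card_bot] at hR
    exact hr.ne_one hR.symm
  · apply le_antisymm
    · exact Subgroup.centralizer_le (by simp)
    · intro c hc
      rw [mem_centralizer_iff]
      intro y hy
      obtain ⟨k, rfl⟩ := hRx y hy
      have h1 : (g : G) * c = c * (g : G) := mem_centralizer_iff.mp hc _ rfl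
      exact (Commute.zpow_left (show Commute (g : G) c from h1) k).eq

/-- PIECE CM (pure coprime action): `Q = [Q,R]` when `C_Q(R) = 1`. -/
theorem bg13_comm_eq {Q R : Subgroup G} {q r : ℕ} (hr : r.Prime) (hR : Nat.card R = r)
    (hQq : IsPGroup q Q) (hqr : q ≠ r) (hRQ : R ≤ normalizer (Q : Set G))
    (hCQ : Q ⊓ centralizer (R : Set G) = ⊥) : Q ≤ ⁅Q, R⁆ := by
  obtain ⟨x, hxR, -, -, -, hcent⟩ := bg13c_exists_gen hr hR
  have hCQ' : ∀ y ∈ Q, x * y = y * x → y = 1 := by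
    intro y hy hxy
    have h1 : y ∈ Q ⊓ centralizer (R : Set G) := by
      refine Subgroup.mem_inf.mpr ⟨hy, ?_⟩
      rw [hcent, mem_centralizer_iff]
      intro h hh
      rw [Set.mem_singleton_iff] at hh
      rw [hh]; exact hxy
    rw [hCQ] at h1
    exact Subgroup.mem_bot.mp h1
  intro y hy
  obtain ⟨y', hy', rfl⟩ := bg13c_comm_surj (hRQ hxR) hCQ' y hy
  rw [Subgroup.commutator_comm]
  have h1 := Subgroup.commutator_mem_commutator hxR hy'
  rwa [commutatorElement_def] at h1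

/-- PIECE AC: `α(H)`-subgroups of `H` lie in `H_α`. -/
theorem bg13_le_alphaCore (hG : IsMinSimpleOddOrder G) {H P : Subgroup G} {p : ℕ}
    (hH : IsCoatom H) (hp : p ∈ alpha H) (hPp : IsPGroup p P) (hPH : P ≤ H) :
    P ≤ alphaCore H := by
  have hfp : Fact p.Prime := ⟨hp.1⟩
  obtain ⟨n, hn⟩ := IsPGroup.iff_card.mp hPp
  refine Helper22.bg12_le_of_coprime_relIndex (piCoreOf_le (alpha H) H) hPH
    (hPH.trans (le_normalizer_piCoreOf (alpha H) H)) ?_
  rw [hn]
  exact Nat.Coprime.pow_left _ ((Nat.Prime.coprime_iff_not_dvd hp.1).mpr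
    ((Cfsg.Agent.S1405.result hG H hH).1.2.2 p hp.1 hp))

/-- PIECE SG1: a prime of a nontrivial subgroup of `M_σ` is in `σ(M)`. -/
theorem bg13_mem_sigma {M Y : Subgroup G} {q : ℕ} (hq : q.Prime) (hYq : IsPGroup q Y)
    (hY1 : Y ≠ ⊥) (hYM : Y ≤ sigmaCore M) : q ∈ sigma M := by
  have hfq : Fact q.Prime := ⟨hq⟩
  obtain ⟨n, hn⟩ := IsPGroup.iff_card.mp hYq
  have hn0 : n ≠ 0 := by
    intro h0
    rw [h0, pow_zero] at hn
    exact hY1 (Subgroup.card_eq_one.mp hn)
  have h1 : q ∣ Nat.card Y := by rw [hn]; exact dvd_pow_self q hn0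
  exact mem_of_dvd_card_piCoreOf (sigma M) M hq (h1.trans (Subgroup.card_dvd_of_le hYM))

/-- PIECE SG2: a prime of a complement `E` of `M_σ` is not in `σ(M)`. -/
theorem bg13_not_sigma (hG : IsMinSimpleOddOrder G) {M E R : Subgroup G} {r : ℕ} (hM : IsCoatom M)
    (hE : IsComplIn E (sigmaCore M) M) (hr : r.Prime) (hR : Nat.card R = r) (hRE : R ≤ E) :
    r ∉ sigma M := by
  intro hrM
  have hfr : Fact r.Prime := ⟨hr⟩
  have hRp : IsPGroup r R := IsPGroup.of_card (n := 1) (by rw [hR, pow_one])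
  have h1 : R ≤ sigmaCore M := Helper22.bg12_le_sigmaCore hG
    (fun K hK h1 h2 => Cfsg.Agent.S1403.result hG K hK h1 h2) hM hr hrM (hRE.trans hE.1) hRp
  have h2 : R ≤ E ⊓ sigmaCore M := le_inf hRE h1
  rw [hE.2.2.1] at h2
  have h3 : R = ⊥ := le_bot_iff.mp h2
  rw [h3, Subgroup.card_bot] at hR
  exact hr.ne_one hR.symm

/-- PIECE BN: for a prime of `β(M)`, normalizers of nontrivial subgroups of that prime power order
lie in `M` (S1423 + S1404). -/
theorem bg13_beta_norm_le (hG : IsMinSimpleOddOrder G) {M Y : Subgroup G} {s : ℕ} (hM : IsCoatom M)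
    (hs : s ∈ beta M) (hYs : IsPGroup s Y) (hY1 : Y ≠ ⊥) (hYM : Y ≤ M) :
    normalizer (Y : Set G) ≤ M := by
  have hsp : s.Prime := hs.1.1
  have hfs : Fact s.Prime := ⟨hsp⟩
  have hsσ : s ∈ sigma M := Helper22.bg10_alpha_sub_sigma hG
    (fun K hK h1 h2 => Cfsg.Agent.S1403.result hG K hK h1 h2) hM hs.1
  -- a subgroup of order `s` of `Y`
  have hY1' := hY1
  rw [Ne, Subgroup.eq_bot_iff_forall] at hY1'
  push Not at hY1'
  obtain ⟨y, hy, hy1⟩ := hY1'
  have hk : ∃ k : ℕ, y ^ (s ^ k) = 1 := by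
    obtain ⟨k, hk⟩ := hYs ⟨y, hy⟩
    exact ⟨k, by simpa only [Subgroup.coe_pow, Subgroup.coe_one] using congrArg Subtype.val hk⟩
  obtain ⟨n₀, hn₀1, hn₀2⟩ : ∃ n : ℕ, y ^ (s ^ n) ≠ 1 ∧ (y ^ (s ^ n)) ^ s = 1 :=
    bg13c_exists_pow (fun b : G => b = (1 : G)) rfl hk hy1
  have hord : orderOf (y ^ (s ^ n₀)) = s := orderOf_eq_prime hn₀2 hn₀1
  have hXY : zpowers (y ^ (s ^ n₀)) ≤ Y := by
    rw [zpowers_le]; exact Subgroup.pow_mem _ hy _
  have hXc : Nat.card ↥(zpowers (y ^ (s ^ n₀))) = s := by rw [Nat.card_zpowers, hord]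
  have hP : Nonempty (Sylow s ↥(sigmaCore M)) := inferInstance
  obtain ⟨P⟩ := hP
  have hC := (Cfsg.Agent.S1423.result hG M hM s hsσ (zpowers (y ^ (s ^ n₀))) (hXY.trans hYM) hXc P
    (Or.inl hs)).1.1
  have hN := (Cfsg.Agent.S1404.result hG M hM s hsσ Y hYs hY1 hYM).2
  rw [hN]
  exact sup_le inf_le_left ((Subgroup.centralizer_le hXY).trans hC)

end Cfsg.Agent.Helper54
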