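/-
helper54: B&G Theorem 14.4, first half (row S1374): for `x ≠ 1` in `M_σ`, `C_M(x)` is a Hall
subgroup of `C_G(x)` with a normal complement `R` acting regularly on the conjugates of `M`
containing `x`.  `bg14t_trans` is the transitivity statement for elements of any order,
`bg14t_core` the structure of `C_G(x)` when it is not inside `M`.
-/
import Cfsg.Agent.Helper24.BG14B1
import Cfsg.Agent.Helper49.BG1215
import Cfsg.Agent.Helper22.BG14Defs
import Cfsg.Agent.S1404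
import Cfsg.Agent.S1409
import Cfsg.Agent.S1378

set_option autoImplicit false

namespace Cfsg.Agent.Helper54

open Cfsg Subgroup Cfsg.Agent.Helper22 Cfsg.Agent.Helper23 Cfsg.Agent.Helper35

universe u

variable {G : Type u} [Group G]

/-- Membership in a conjugate subgroup. -/
theorem bg14t_mem_map_conj {M : Subgroup G} {g z : G} :
    z ∈ M.map (MulAut.conj g).toMonoidHom ↔ g⁻¹ * z * g ∈ M := by
  rw [Subgroup.mem_map]
  constructor
  · rintro ⟨y, hy, rfl⟩
    have e : g⁻¹ * (MulAut.conj g).toMonoidHom y * g = y := by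
      simp [MulAut.conj_apply, mul_assoc]
    rw [e]; exact hy
  · intro h
    refine ⟨g⁻¹ * z * g, h, ?_⟩
    simp [MulAut.conj_apply, mul_assoc]

/-- Conjugating by `r * m` with `m ∈ M` gives the same conjugate as conjugating by `r`. -/
theorem bg14t_map_conj_mul {M : Subgroup G} {r m : G} (hm : m ∈ M) :
    M.map (MulAut.conj (r * m)).toMonoidHom = M.map (MulAut.conj r).toMonoidHom := by
  ext z
  rw [bg14t_mem_map_conj, bg14t_mem_map_conj]
  have e : (r * m)⁻¹ * z * (r * m) = m⁻¹ * (r⁻¹ * z * r) * m := by group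
  rw [e]
  constructor
  · intro h
    have e2 : r⁻¹ * z * r = m * (m⁻¹ * (r⁻¹ * z * r) * m) * m⁻¹ := by group
    rw [e2]; exact M.mul_mem (M.mul_mem hm h) (M.inv_mem hm)
  · intro h
    exact M.mul_mem (M.mul_mem (M.inv_mem hm) h) hm

/-- Two elements giving the same conjugate of `M` differ by an element of `N_G(M)`. -/
theorem bg14t_mem_normalizer_of_map_eq {M : Subgroup G} {r s : G}
    (h : M.map (MulAut.conj r).toMonoidHom = M.map (MulAut.conj s).toMonoidHom) :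
    r⁻¹ * s ∈ normalizer (M : Set G) := by
  have key : ∀ z : G, r⁻¹ * z * r ∈ M ↔ s⁻¹ * z * s ∈ M := by
    intro z
    rw [← bg14t_mem_map_conj, ← bg14t_mem_map_conj, h]
  have h1 : ∀ w ∈ M, (r⁻¹ * s) * w * (r⁻¹ * s)⁻¹ ∈ M := by
    intro w hw
    have := (key (s * w * s⁻¹)).mpr (by
      have e : s⁻¹ * (s * w * s⁻¹) * s = w := by group
      rw [e]; exact hw)
    have e : (r⁻¹ * s) * w * (r⁻¹ * s)⁻¹ = r⁻¹ * (s * w * s⁻¹) * r := by group
    rw [e]; exact this
  have h2 : ∀ w ∈ M, (r⁻¹ * s)⁻¹ * w * (r⁻¹ * s) ∈ M := by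
    intro w hw
    have := (key (r * w * r⁻¹)).mp (by
      have e : r⁻¹ * (r * w * r⁻¹) * r = w := by group
      rw [e]; exact hw)
    have e : (r⁻¹ * s)⁻¹ * w * (r⁻¹ * s) = s⁻¹ * (r * w * r⁻¹) * s := by group
    rw [e]; exact this
  rw [mem_normalizer_iff]
  intro w
  constructor
  · exact fun hw => h1 w hw
  · intro hw
    have := h2 _ hw
    have e : (r⁻¹ * s)⁻¹ * ((r⁻¹ * s) * w * (r⁻¹ * s)⁻¹) * (r⁻¹ * s) = w := by group
    rwa [e] at this

/-- **Splitting**: if `M ∩ L` is a complement of `L_σ` in `L`, `x ∈ M ∩ L`, `c ∈ L` and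
`c x c⁻¹ ∈ M`, then `c = a b` with `a ∈ M ∩ L` and `b ∈ L_σ` centralizing `x`. -/
theorem bg14t_split {M L : Subgroup G} (hc : IsComplIn (M ⊓ L) (sigmaCore L) L) {x c : G}
    (hxM : x ∈ M) (hxL : x ∈ L) (hcL : c ∈ L) (hcx : c * x * c⁻¹ ∈ M) :
    ∃ a ∈ M ⊓ L, ∃ b ∈ sigmaCore L, c = a * b ∧ b * x = x * b := by
  obtain ⟨a, ha, b, hb, hcab⟩ := hc.2.2.2 c hcL
  refine ⟨a, ha, b, hb, hcab, ?_⟩
  have hn : L ≤ normalizer (sigmaCore L : Set G) := le_normalizer_piCoreOf (sigma L) L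
  have h1 : b * x * b⁻¹ * x⁻¹ ∈ sigmaCore L := by
    have h2 : x * b⁻¹ * x⁻¹ ∈ sigmaCore L :=
      (mem_normalizer_iff.mp (hn hxL) b⁻¹).mp (inv_mem hb)
    have e : b * x * b⁻¹ * x⁻¹ = b * (x * b⁻¹ * x⁻¹) := by group
    rw [e]; exact mul_mem hb h2
  have h3 : b * x * b⁻¹ * x⁻¹ ∈ M ⊓ L := by
    have h4 : b * x * b⁻¹ = a⁻¹ * (c * x * c⁻¹) * a := by rw [hcab]; group
    have h5 : c * x * c⁻¹ ∈ M ⊓ L := ⟨hcx, L.mul_mem (L.mul_mem hcL hxL) (L.inv_mem hcL)⟩
    have h6 : b * x * b⁻¹ ∈ M ⊓ L := by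
      rw [h4]; exact mul_mem (mul_mem (inv_mem ha) h5) ha
    exact mul_mem h6 (inv_mem ⟨hxM, hxL⟩)
  have h7 : b * x * b⁻¹ * x⁻¹ = 1 := by
    have h8 : b * x * b⁻¹ * x⁻¹ ∈ (M ⊓ L) ⊓ sigmaCore L := ⟨h3, h1⟩
    rw [hc.2.2.1] at h8
    exact mem_bot.mp h8
  calc b * x = (b * x * b⁻¹ * x⁻¹) * (x * b) := by group
    _ = x * b := by rw [h7, one_mul]

variable [Finite G]

/-- **Over a non-controlled subgroup of prime order**: `p ∈ σ(M)`, `Y ≤ M` of order `p` with
`N_G(Y) ≰ M`.  Then a maximal subgroup `L ⊇ N_G(Y)` is not conjugate to `M`, `p ∈ τ₂(L)`, and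
`M ∩ L` is a complement of `L_σ` in `L`. -/
theorem bg14t_over (hG : IsMinSimpleOddOrder G) {M Y : Subgroup G} (hM : IsCoatom M) {p : ℕ}
    [Fact p.Prime] (hp : p ∈ sigma M) (hYM : Y ≤ M) (hY : Nat.card Y = p)
    (hN : ¬ normalizer (Y : Set G) ≤ M) :
    ∃ L : Subgroup G, IsCoatom L ∧ normalizer (Y : Set G) ≤ L ∧ L ≠ M ∧
      (∀ g : G, L ≠ M.map (MulAut.conj g).toMonoidHom) ∧ p ∈ tau2 L ∧
      IsComplIn (M ⊓ L) (sigmaCore L) L := by
  have hpp : p.Prime := Fact.out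
  have hU : BGUniq G := fun K hK h1 h2 => Cfsg.Agent.S1403.result hG K hK h1 h2
  have hσp : BGSigmaPart G := (Cfsg.Agent.S1378.result hG).2
  have : IsSimpleGroup G := hG.2.1
  have hY1 : Y ≠ ⊥ := by
    intro h
    rw [h, Subgroup.card_bot] at hY
    exact hpp.one_lt.ne hY
  have hYtop : Y ≠ ⊤ := fun h => hM.1 (top_le_iff.mp (h ▸ hYM))
  obtain ⟨L, hL, hNL⟩ := uq_exists_coatom_ge (normalizer_ne_top_of_simple hY1 hYtop)
  have hLM : L ≠ M := fun h => hN (h ▸ hNL)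
  have hYp : IsPGroup p Y := IsPGroup.of_card (n := 1) (by rw [hY, pow_one])
  have hnc := Helper49.bg1215_not_conj hG hU hM hp hYp hY1 hYM hLM hNL
  have hpL : p ∉ sigma L := by
    intro h
    obtain ⟨g, hg⟩ := hσp M L hM hL ⟨p, hp, h⟩
    exact hnc g hg
  have hc := Helper24.bg14_compl_of_norm hG hM hL hLM hp hpL hYM hYp hY1 hNL
  have h9 := Cfsg.Agent.S1409.result hG L hL p hpL Y hY hNL
  exact ⟨L, hL, hNL, hLM, hnc, ⟨hpp, hpL, h9.1.1, h9.1.2⟩, hc⟩

/-- A subgroup of prime order inside `⟨x⟩`, for `x ≠ 1` in `M_σ`. -/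
theorem bg14t_exists_prime (_hG : IsMinSimpleOddOrder G) {M : Subgroup G} {x : G}
    (hx : x ∈ sigmaCore M) (hx1 : x ≠ 1) :
    ∃ (p : ℕ) (y : G), p.Prime ∧ p ∈ sigma M ∧ p ∣ orderOf x ∧ y ∈ zpowers x ∧ orderOf y = p ∧
      zpowers y ≤ M ∧ Nat.card (zpowers y) = p ∧ x ∈ centralizer ((zpowers y : Subgroup G) : Set G) ∧
      centralizer ({x} : Set G) ≤ centralizer ((zpowers y : Subgroup G) : Set G) := by
  have hn1 : orderOf x ≠ 1 := fun h => hx1 (orderOf_eq_one_iff.mp h)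
  have hp : (orderOf x).minFac.Prime := Nat.minFac_prime hn1
  have hpd : (orderOf x).minFac ∣ orderOf x := Nat.minFac_dvd _
  have hxM : x ∈ M := piCoreOf_le (sigma M) M hx
  have hpσ : (orderOf x).minFac ∈ sigma M := mem_of_dvd_card_piCoreOf (sigma M) M hp (hpd.trans (by
    have h := orderOf_dvd_natCard (⟨x, hx⟩ : sigmaCore M)
    rwa [Subgroup.orderOf_mk] at h))
  have hyo : orderOf (x ^ (orderOf x / (orderOf x).minFac)) = (orderOf x).minFac :=
    orderOf_pow_orderOf_div (orderOf_pos x).ne' hpd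
  have hyx : x ^ (orderOf x / (orderOf x).minFac) ∈ zpowers x := Subgroup.pow_mem _ (mem_zpowers x) _
  refine ⟨(orderOf x).minFac, x ^ (orderOf x / (orderOf x).minFac), hp, hpσ, hpd, hyx, hyo, ?_, ?_, ?_, ?_⟩
  · rw [zpowers_le]; exact M.pow_mem hxM _
  · rw [Nat.card_zpowers, hyo]
  · rw [mem_centralizer_iff]
    intro t ht
    obtain ⟨k, rfl⟩ := mem_zpowers_iff.mp ht
    have h1 : Commute (x ^ (orderOf x / (orderOf x).minFac)) x := (Commute.refl x).pow_left _
    exact (h1.zpow_left k).eq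
  · intro c hc
    rw [mem_centralizer_iff] at hc ⊢
    intro t ht
    obtain ⟨k, rfl⟩ := mem_zpowers_iff.mp ht
    have h0 : Commute x c := hc x (Set.mem_singleton x)
    have h1 : Commute (x ^ (orderOf x / (orderOf x).minFac)) c := h0.pow_left _
    exact (h1.zpow_left k).eq

/-- **Transitivity (T)**: for `x ≠ 1` in `M_σ` (of any order), if `g⁻¹ x g ∈ M` then
`g ∈ C_G(x) M`. -/
theorem bg14t_trans (hG : IsMinSimpleOddOrder G) {M : Subgroup G} (hM : IsCoatom M) {x g : G}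
    (hx : x ∈ sigmaCore M) (hx1 : x ≠ 1) (hg : g⁻¹ * x * g ∈ M) :
    ∃ c ∈ centralizer ({x} : Set G), ∃ m ∈ M, g = c * m := by
  obtain ⟨p, y, hp, hpσ, -, hyx, -, hYM, hYc, hxCY, -⟩ := bg14t_exists_prime hG hx hx1
  have := Fact.mk hp
  have hxM : x ∈ M := piCoreOf_le (sigma M) M hx
  have hYp : IsPGroup p (zpowers y) := IsPGroup.of_card (n := 1) (by rw [hYc, pow_one])
  have hY1 : zpowers y ≠ ⊥ := by
    intro h
    rw [h, Subgroup.card_bot] at hYc
    exact hp.one_lt.ne hYc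
  have hconj : (zpowers y).map (MulAut.conj g⁻¹).toMonoidHom ≤ M := by
    rintro _ ⟨t, ht, rfl⟩
    have ht' : t ∈ zpowers x := (zpowers_le.mpr hyx) ht
    obtain ⟨k, rfl⟩ := mem_zpowers_iff.mp ht'
    have e : (MulAut.conj g⁻¹).toMonoidHom (x ^ k) = (g⁻¹ * x * g) ^ k := by
      have h1 := map_zpow (MulAut.conj g⁻¹) x k
      simpa [MulAut.conj_apply] using h1
    rw [e]; exact M.zpow_mem hg k
  obtain ⟨m, hm, c, hc, hgmc⟩ :=
    (Cfsg.Agent.S1404.result hG M hM p hpσ (zpowers y) hYp hY1 hYM).1 g⁻¹ hconj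
  have hg' : g = c⁻¹ * m⁻¹ := by
    have : g = (g⁻¹)⁻¹ := (inv_inv g).symm
    rw [this, hgmc]; group
  have hcx : c * x * c⁻¹ ∈ M := by
    have e : c * x * c⁻¹ = m⁻¹ * (g⁻¹ * x * g) * m := by
      rw [hgmc, hg']; group
    rw [e]; exact M.mul_mem (M.mul_mem (M.inv_mem hm) hg) hm
  by_cases hCY : normalizer ((zpowers y : Subgroup G) : Set G) ≤ M
  · have hcM : c ∈ M := hCY (Subgroup.centralizer_le_normalizer _ hc)
    exact ⟨1, one_mem _, g, by rw [hg']; exact M.mul_mem (M.inv_mem hcM) (M.inv_mem hm),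
      (one_mul g).symm⟩
  · obtain ⟨L, -, hNL, -, -, -, hcomp⟩ := bg14t_over hG hM hpσ hYM hYc hCY
    have hcL : c ∈ L := hNL (Subgroup.centralizer_le_normalizer _ hc)
    have hxL : x ∈ L := hNL (Subgroup.centralizer_le_normalizer _ hxCY)
    obtain ⟨a, ha, b, -, hcab, hbx⟩ := bg14t_split hcomp hxM hxL hcL hcx
    refine ⟨b⁻¹, ?_, a⁻¹ * m⁻¹, M.mul_mem (M.inv_mem ha.1) (M.inv_mem hm), by
      rw [hg', hcab]; group⟩
    apply inv_mem
    rw [mem_centralizer_iff]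
    intro t ht
    rw [Set.mem_singleton_iff] at ht
    rw [ht]; exact hbx.symm

omit [Finite G] in
/-- Normalizing two subgroups normalizes their intersection. -/
theorem bg14t_mem_normalizer_inf {A B : Subgroup G} {z : G} (h1 : z ∈ normalizer (A : Set G))
    (h2 : z ∈ normalizer (B : Set G)) : z ∈ normalizer ((A ⊓ B : Subgroup G) : Set G) := by
  rw [mem_normalizer_iff]
  intro h
  rw [Subgroup.mem_inf, Subgroup.mem_inf]
  exact and_congr (mem_normalizer_iff.mp h1 h) (mem_normalizer_iff.mp h2 h)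

/-- **Core of B&G 14.4**: `x ≠ 1` in `M_σ` with `C_G(x) ≰ M`.  There is a maximal subgroup
`L ⊇ C_G(x)`, not conjugate to `M`, with `M ∩ L` a complement of `L_σ` in `L`, a prime
`p ∈ τ₂(L) ∩ σ(M)` dividing the order of `x`, a subgroup `Y ≤ ⟨x⟩` of order `p` with
`N_G(Y) ≤ L`, and `C_{L_σ}(x)` is a normal complement of `C_M(x)` in `C_G(x)`. -/
theorem bg14t_core (hG : IsMinSimpleOddOrder G) {M : Subgroup G} (hM : IsCoatom M) {x : G}
    (hx : x ∈ sigmaCore M) (hx1 : x ≠ 1) (hC : ¬ centralizer ({x} : Set G) ≤ M) :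
    ∃ (L : Subgroup G) (p : ℕ) (Y : Subgroup G), IsCoatom L ∧ L ≠ M ∧
      (∀ g : G, L ≠ M.map (MulAut.conj g).toMonoidHom) ∧ p ∈ sigma M ∧ p ∈ tau2 L ∧
      p ∣ orderOf x ∧ Y ≤ zpowers x ∧ Nat.card Y = p ∧ normalizer (Y : Set G) ≤ L ∧
      centralizer ({x} : Set G) ≤ L ∧ IsComplIn (M ⊓ L) (sigmaCore L) L ∧ x ∈ M ⊓ L ∧
      centralizer ({x} : Set G) ≤
        normalizer ((sigmaCore L ⊓ centralizer ({x} : Set G) : Subgroup G) : Set G) ∧
      IsComplIn (M ⊓ centralizer ({x} : Set G)) (sigmaCore L ⊓ centralizer ({x} : Set G))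
        (centralizer ({x} : Set G)) := by
  obtain ⟨p, y, hp, hpσ, hpd, hyx, -, hYM, hYc, -, hCCY⟩ := bg14t_exists_prime hG hx hx1
  have := Fact.mk hp
  have hxM : x ∈ M := piCoreOf_le (sigma M) M hx
  have hN : ¬ normalizer ((zpowers y : Subgroup G) : Set G) ≤ M :=
    fun h => hC (hCCY.trans ((Subgroup.centralizer_le_normalizer _).trans h))
  obtain ⟨L, hL, hNL, hLM, hnc, hτ, hcomp⟩ := bg14t_over hG hM hpσ hYM hYc hN
  have hCL : centralizer ({x} : Set G) ≤ L :=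
    hCCY.trans ((Subgroup.centralizer_le_normalizer _).trans hNL)
  have hxC : x ∈ centralizer ({x} : Set G) := by
    rw [mem_centralizer_iff]
    intro t ht
    rw [Set.mem_singleton_iff] at ht
    rw [ht]
  have hxL : x ∈ L := hCL hxC
  have hn : L ≤ normalizer (sigmaCore L : Set G) := le_normalizer_piCoreOf (sigma L) L
  refine ⟨L, p, zpowers y, hL, hLM, hnc, hpσ, hτ, hpd, zpowers_le.mpr hyx, hYc, hNL, hCL, hcomp,
    ⟨hxM, hxL⟩, ?_, inf_le_right, inf_le_right, ?_, ?_⟩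
  · intro c hc
    exact bg14t_mem_normalizer_inf (hn (hCL hc)) (le_normalizer hc)
  · rw [eq_bot_iff]
    rintro z ⟨⟨hzM, -⟩, hzσ, -⟩
    have h1 : z ∈ (M ⊓ L) ⊓ sigmaCore L := ⟨⟨hzM, piCoreOf_le (sigma L) L hzσ⟩, hzσ⟩
    rw [hcomp.2.2.1] at h1
    exact h1
  · intro c hc
    have hcx : c * x * c⁻¹ = x := by
      have h1 : x * c = c * x := (mem_centralizer_iff.mp hc) x (Set.mem_singleton x)
      rw [← h1]; group
    obtain ⟨a, ha, b, hb, hcab, hbx⟩ :=
      bg14t_split hcomp hxM hxL (hCL hc) (by rw [hcx]; exact hxM)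
    have hbC : b ∈ centralizer ({x} : Set G) := by
      rw [mem_centralizer_iff]
      intro t ht
      rw [Set.mem_singleton_iff] at ht
      rw [ht]; exact hbx.symm
    have haC : a ∈ centralizer ({x} : Set G) := by
      have e : a = c * b⁻¹ := by rw [hcab]; group
      rw [e]; exact mul_mem hc (inv_mem hbC)
    exact ⟨a, ⟨ha.1, haC⟩, b, ⟨hb, hbC⟩, hcab⟩

/-- **S1374** (B&G Theorem 14.4(b)). -/
theorem bg14t_1374 (hG : IsMinSimpleOddOrder G) (M : Subgroup G) (hM : IsCoatom M) (x : G)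
    (hx : x ∈ sigmaCore M) (hx1 : x ≠ 1) :
    (Nat.card ↥(M ⊓ centralizer ({x} : Set G))).Coprime
        ((M ⊓ centralizer ({x} : Set G)).relIndex (centralizer ({x} : Set G))) ∧
      ∃ R : Subgroup G, centralizer ({x} : Set G) ≤ normalizer (R : Set G) ∧
        IsComplIn (M ⊓ centralizer ({x} : Set G)) R (centralizer ({x} : Set G)) ∧
        ∀ g : G, x ∈ M.map (MulAut.conj g).toMonoidHom →
          ∃! r : G, r ∈ R ∧ M.map (MulAut.conj r).toMonoidHom = M.map (MulAut.conj g).toMonoidHom := by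
  have hU : BGUniq G := fun K hK h1 h2 => Cfsg.Agent.S1403.result hG K hK h1 h2
  have hxM : x ∈ M := piCoreOf_le (sigma M) M hx
  have hM1 : M ≠ ⊥ := by
    intro h
    rw [h, mem_bot] at hxM
    exact hx1 hxM
  have hNM : normalizer (M : Set G) = M := uq_normalizer_eq hG hM hM1 le_rfl le_normalizer
  by_cases hC : centralizer ({x} : Set G) ≤ M
  · refine ⟨?_, ⊥, ?_, ⟨inf_le_right, bot_le, inf_bot_eq _, ?_⟩, ?_⟩
    · have h1 : (M ⊓ centralizer ({x} : Set G)).relIndex (centralizer ({x} : Set G)) = 1 :=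
        Subgroup.relIndex_eq_one.mpr (le_inf hC le_rfl)
      rw [h1]; exact Nat.coprime_one_right _
    · intro c _
      rw [mem_normalizer_iff]
      intro h
      rw [mem_bot, mem_bot]
      constructor
      · rintro rfl; group
      · intro h2
        have e : h = c⁻¹ * (c * h * c⁻¹) * c := by group
        rw [e, h2]; group
    · intro c hc
      exact ⟨c, ⟨hC hc, hc⟩, 1, one_mem _, (mul_one c).symm⟩
    · intro g hg
      rw [bg14t_mem_map_conj] at hg
      obtain ⟨c, hc, m, hm, hgcm⟩ := bg14t_trans hG hM hx hx1 hg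
      have hgM : g ∈ M := by rw [hgcm]; exact M.mul_mem (hC hc) hm
      have e1 : M.map (MulAut.conj g).toMonoidHom = M.map (MulAut.conj (1 : G)).toMonoidHom := by
        have := bg14t_map_conj_mul (M := M) (r := 1) hgM
        rwa [one_mul] at this
      refine ⟨1, ⟨one_mem _, e1.symm⟩, ?_⟩
      rintro r ⟨hr, -⟩
      exact mem_bot.mp hr
  · obtain ⟨L, p, Y, hL, -, -, -, -, -, -, -, -, hCL, hcomp, -, hnorm, hcc⟩ :=
      bg14t_core hG hM hx hx1 hC
    refine ⟨?_, sigmaCore L ⊓ centralizer ({x} : Set G), hnorm, hcc, ?_⟩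
    · have h1 := card_of_isComplIn _ _ _ hcc
      have h2 : Nat.card ↥(M ⊓ centralizer ({x} : Set G)) *
          (M ⊓ centralizer ({x} : Set G)).relIndex (centralizer ({x} : Set G)) =
          Nat.card ↥(centralizer ({x} : Set G)) := by
        have h := Subgroup.card_mul_index
          ((M ⊓ centralizer ({x} : Set G)).subgroupOf (centralizer ({x} : Set G)))
        rwa [Helper35.card_subgroupOf_of_le inf_le_right] at h
      have h3 : (M ⊓ centralizer ({x} : Set G)).relIndex (centralizer ({x} : Set G)) =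
          Nat.card ↥(sigmaCore L ⊓ centralizer ({x} : Set G)) := by
        have h4 : Nat.card ↥(M ⊓ centralizer ({x} : Set G)) *
            (M ⊓ centralizer ({x} : Set G)).relIndex (centralizer ({x} : Set G)) =
            Nat.card ↥(M ⊓ centralizer ({x} : Set G)) *
              Nat.card ↥(sigmaCore L ⊓ centralizer ({x} : Set G)) := by rw [h2, h1]
        exact Nat.eq_of_mul_eq_mul_left Nat.card_pos h4
      rw [h3]
      apply Nat.coprime_of_dvd
      intro q hq hq1 hq2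
      have hq3 : q ∣ Nat.card ↥(M ⊓ L) :=
        hq1.trans (Subgroup.card_dvd_of_le (inf_le_inf_left M hCL))
      have hq4 : q ∣ Nat.card (sigmaCore L) := hq2.trans (Subgroup.card_dvd_of_le inf_le_left)
      exact bg12_not_sigma_of_dvd hG hU hL hcomp hq hq3
        (mem_of_dvd_card_piCoreOf (sigma L) L hq hq4)
    · intro g hg
      rw [bg14t_mem_map_conj] at hg
      obtain ⟨c, hc, m, hm, hgcm⟩ := bg14t_trans hG hM hx hx1 hg
      obtain ⟨a, ha, b, hb, hcab⟩ := hcc.2.2.2 c hc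
      have hr : a * b * a⁻¹ ∈ sigmaCore L ⊓ centralizer ({x} : Set G) :=
        (mem_normalizer_iff.mp (hnorm ha.2) b).mp hb
      have hgr : g = (a * b * a⁻¹) * (a * m) := by rw [hgcm, hcab]; group
      have e1 : M.map (MulAut.conj g).toMonoidHom =
          M.map (MulAut.conj (a * b * a⁻¹)).toMonoidHom := by
        rw [hgr]; exact bg14t_map_conj_mul (M.mul_mem ha.1 hm)
      refine ⟨a * b * a⁻¹, ⟨hr, e1.symm⟩, ?_⟩
      rintro r' ⟨hr', h'⟩
      have h5 : (a * b * a⁻¹)⁻¹ * r' ∈ normalizer (M : Set G) :=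
        bg14t_mem_normalizer_of_map_eq (by rw [h', e1])
      rw [hNM] at h5
      have h56 : (a * b * a⁻¹)⁻¹ * r' ∈ sigmaCore L ⊓ centralizer ({x} : Set G) :=
        mul_mem (inv_mem hr) hr'
      have h6 : (a * b * a⁻¹)⁻¹ * r' ∈
          (M ⊓ centralizer ({x} : Set G)) ⊓ (sigmaCore L ⊓ centralizer ({x} : Set G)) :=
        ⟨⟨h5, h56.2⟩, h56⟩
      rw [hcc.2.2.1, mem_bot] at h6
      have e : r' = (a * b * a⁻¹) * ((a * b * a⁻¹)⁻¹ * r') := by group
      rw [e, h6, mul_one]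

end Cfsg.Agent.Helper54
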