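/-
helper54: B&G Theorem 14.4, second half (row S1375): for `x ≠ 1` in `M_σ` with `C_G(x) ≰ M`,
the unique maximal subgroup `N ⊇ C_G(x)`, `N_σ = N_F`, the complements, and the clause on the
standard factorisations of `N`.
-/
import Cfsg.Agent.Helper54.BG14T
import Cfsg.Agent.Helper1.BGZMain
import Cfsg.Agent.Helper98.BG14SET3
import Cfsg.Agent.Helper4.BG127P2
import Cfsg.Agent.Helper47.BG14RK
import Cfsg.Agent.Helper23.FittingHall
import Cfsg.Agent.S1420
import Cfsg.Agent.S1352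

set_option autoImplicit false

namespace Cfsg.Agent.Helper54

open Cfsg Subgroup Cfsg.Agent.Helper22 Cfsg.Agent.Helper23 Cfsg.Agent.Helper35

universe u

variable {G : Type u} [Group G] [Finite G]

/-- For a maximal subgroup `L`, every normal nilpotent Hall subgroup of `L` lies in `L_σ`:
`L_F ≤ L_σ`. -/
theorem bg14t_fittingHall_le (hG : IsMinSimpleOddOrder G) {L : Subgroup G} (hL : IsCoatom L) :
    fittingHallOf L ≤ sigmaCore L := by
  unfold fittingHallOf sigmaCore
  apply Subgroup.map_mono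
  unfold fittingHall piCore
  apply sSup_le
  rintro W ⟨hWn, hWnil, hWc⟩
  apply le_sSup
  refine ⟨hWn, ?_⟩
  intro p hp hpd
  have hpF := Fact.mk hp
  obtain ⟨P⟩ : Nonempty (Sylow p ↥W) := inferInstance
  have h03 : Group.IsNilpotent ↥W ↔
      ∀ (p : ℕ) (_hp : Fact p.Prime) (P : Sylow p ↥W), (↑P : Subgroup ↥W).Normal :=
    (isNilpotent_of_finite_tfae (G := ↥W)).out 0 3
  have hPn : (P : Subgroup ↥W).Normal := h03.mp hWnil p hpF P
  have hPc : (P : Subgroup ↥W).Characteristic := Sylow.characteristic_of_normal P hPn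
  have hQn : ((P : Subgroup ↥W).map W.subtype).Normal :=
    ConjAct.normal_of_characteristic_of_normal
  have hW0 : Nat.card ↥W ≠ 0 := Nat.card_pos.ne'
  have hcP : Nat.card ↥(P : Subgroup ↥W) = p ^ (Nat.card ↥W).factorization p :=
    Sylow.card_eq_multiplicity P
  have hcS : Nat.card ↥(((P : Subgroup ↥W).map W.subtype).map L.subtype) =
      p ^ (Nat.card ↥W).factorization p := by
    rw [Subgroup.card_map_of_injective L.subtype_injective,
      Subgroup.card_map_of_injective W.subtype_injective, hcP]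
  have hSL : ((P : Subgroup ↥W).map W.subtype).map L.subtype ≤ L := Subgroup.map_subtype_le _
  have hWL : W.map L.subtype ≤ L := Subgroup.map_subtype_le _
  have hSW : ((P : Subgroup ↥W).map W.subtype).map L.subtype ≤ W.map L.subtype :=
    Subgroup.map_mono (Subgroup.map_subtype_le _)
  have hmem : ((P : Subgroup ↥W).map W.subtype).map L.subtype ∈ sylowSet p (W.map L.subtype) := by
    refine ⟨hSW, ?_⟩
    rw [hcS, Subgroup.card_map_of_injective L.subtype_injective]
  have hidx : ¬ p ∣ (W.map L.subtype).relIndex L := by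
    have e : (W.map L.subtype).relIndex L = W.index := by
      unfold Subgroup.relIndex Subgroup.subgroupOf
      rw [Subgroup.comap_map_eq_self_of_injective L.subtype_injective]
    rw [e]
    intro h
    exact hp.one_lt.ne' (Nat.eq_one_of_dvd_coprimes hWc hpd h)
  have hSyl : IsSylowOf p (((P : Subgroup ↥W).map W.subtype).map L.subtype) L :=
    bg10_isSylowOf_of_sylowSet hWL hidx hmem
  have hS1 : ((P : Subgroup ↥W).map W.subtype).map L.subtype ≠ ⊥ := by
    intro h
    have h1 : Nat.card ↥(((P : Subgroup ↥W).map W.subtype).map L.subtype) = 1 := by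
      rw [h, Subgroup.card_bot]
    rw [hcS] at h1
    rcases Nat.pow_eq_one.mp h1 with h2 | h2
    · exact hp.one_lt.ne' h2
    · exact (hp.factorization_pos_of_dvd hW0 hpd).ne' h2
  have hnorm : L ≤ normalizer ((((P : Subgroup ↥W).map W.subtype).map L.subtype : Subgroup G) : Set G) := by
    rw [Subgroup.le_normalizer_iff]
    rintro x hx _ ⟨y, hy, rfl⟩
    exact ⟨⟨x, hx⟩ * y * ⟨x, hx⟩⁻¹, hQn.conj_mem y hy ⟨x, hx⟩, rfl⟩
  have hN := uq_normalizer_eq hG hL hS1 hSL hnorm
  exact bg12_mem_sigma hSyl hS1 (le_of_eq hN)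

/-- Step (a) of B&G 14.4(c): every prime divisor of the order of `x` is in `τ₂(L)`. -/
theorem bg14t_tau2_of_dvd (hG : IsMinSimpleOddOrder G) {M L Y : Subgroup G} (hM : IsCoatom M)
    (hL : IsCoatom L) (hnc : ∀ g : G, L ≠ M.map (MulAut.conj g).toMonoidHom) {p : ℕ}
    (hτ : p ∈ tau2 L) (hcomp : IsComplIn (M ⊓ L) (sigmaCore L) L) {x : G}
    (hx : x ∈ sigmaCore M) (hxL : x ∈ L) (hYx : Y ≤ zpowers x) (hY : Nat.card Y = p)
    (hR : sigmaCore L ⊓ centralizer ({x} : Set G) ≠ ⊥) {r : ℕ} (hr : r.Prime)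
    (hrd : r ∣ orderOf x) : r ∈ tau2 L := by
  have hU : BGUniq G := fun K hK h1 h2 => Cfsg.Agent.S1403.result hG K hK h1 h2
  have hσp : BGSigmaPart G := (Cfsg.Agent.S1378.result hG).2
  have hxM : x ∈ M := piCoreOf_le (sigma M) M hx
  have hrσM : r ∈ sigma M := mem_of_dvd_card_piCoreOf (sigma M) M hr (hrd.trans (by
    have h := orderOf_dvd_natCard (⟨x, hx⟩ : sigmaCore M)
    rwa [Subgroup.orderOf_mk] at h))
  have hrL : r ∉ sigma L := by
    intro h
    obtain ⟨g, hg⟩ := hσp M L hM hL ⟨r, hrσM, h⟩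
    exact hnc g hg
  have h2 : PRankLE r 2 ↥L :=
    bg10_pRank_of_not_alpha L r hr (fun h => hrL (bg10_alpha_sub_sigma hG hU hL h))
  refine ⟨hr, hrL, h2, ?_⟩
  intro h1
  have hwo : orderOf (x ^ (orderOf x / r)) = r := orderOf_pow_orderOf_div (orderOf_pos x).ne' hrd
  have hXrc : Nat.card (zpowers (x ^ (orderOf x / r))) = r := by rw [Nat.card_zpowers, hwo]
  have hzx : zpowers x ≤ M ⊓ L := by
    rw [zpowers_le]; exact ⟨hxM, hxL⟩
  have hXrE : zpowers (x ^ (orderOf x / r)) ≤ M ⊓ L :=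
    (zpowers_le.mpr (Subgroup.pow_mem _ (mem_zpowers x) _)).trans hzx
  have hXrC : centralizer ({x} : Set G) ≤
      centralizer ((zpowers (x ^ (orderOf x / r)) : Subgroup G) : Set G) := by
    intro c hc
    rw [mem_centralizer_iff] at hc ⊢
    intro t ht
    obtain ⟨k, rfl⟩ := mem_zpowers_iff.mp ht
    have h0 : Commute x c := hc x (Set.mem_singleton x)
    have h1 : Commute (x ^ (orderOf x / r)) c := h0.pow_left _
    exact (h1.zpow_left k).eq
  have hzC : zpowers x ≤ centralizer ({x} : Set G) := by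
    rw [zpowers_le, mem_centralizer_iff]
    intro t ht
    rw [Set.mem_singleton_iff] at ht
    rw [ht]
  have hD : sigmaCore L ⊓ centralizer ((zpowers (x ^ (orderOf x / r)) : Subgroup G) : Set G) ≠ ⊥ := by
    intro h
    apply hR
    rw [eq_bot_iff, ← h]
    exact inf_le_inf_left _ hXrC
  have hrdL : r ∣ Nat.card L := by
    rw [← hXrc]; exact Subgroup.card_dvd_of_le (hXrE.trans inf_le_right)
  have hpF := Fact.mk hτ.1
  have hrF := Fact.mk hr
  by_cases h3 : r ∣ Nat.card ↥⁅L, L⁆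
  · have hr3 : r ∈ tau3 L := ⟨hr, hrL, h3, h1⟩
    have hXrp : IsPGroup r (zpowers (x ^ (orderOf x / r))) :=
      IsPGroup.of_card (n := 1) (by rw [hXrc, pow_one])
    obtain ⟨hEn, -, -⟩ := Helper98.bg14_normal_in_compl hG hL hcomp hr3 hXrE hXrp
    have hNL : ¬ normalizer ((zpowers (x ^ (orderOf x / r)) : Subgroup G) : Set G) ≤ L :=
      fun h => (Cfsg.Agent.S1409.result hG L hL r hrL _ hXrc h).1.2 h1
    have hXr1 : zpowers (x ^ (orderOf x / r)) ≠ ⊥ := by
      intro h
      rw [h, Subgroup.card_bot] at hXrc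
      exact hr.one_lt.ne hXrc
    have hXrtop : zpowers (x ^ (orderOf x / r)) ≠ ⊤ :=
      fun h => hL.1 (top_le_iff.mp (h ▸ hXrE.trans inf_le_right))
    have : IsSimpleGroup G := hG.2.1
    obtain ⟨H', hH', hNH'⟩ := uq_exists_coatom_ge (normalizer_ne_top_of_simple hXr1 hXrtop)
    have hH'L : H' ≠ L := fun h => hNL (h ▸ hNH')
    obtain ⟨A, hAE, hA, hAc⟩ := Helper4.bg127_exists_in_compl hcomp hτ
    obtain ⟨-, -, -, -, hTI, -⟩ :=
      Cfsg.Agent.S1417.result hG L hL p hτ A ⟨hAE.trans inf_le_right, hA, hAc⟩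
    have h0 : sigmaCore L ⊓ H' = ⊥ := hTI H' hH' hH'L (hAE.trans (hEn.trans hNH'))
    apply hD
    rw [eq_bot_iff, ← h0]
    exact inf_le_inf_left _ ((Subgroup.centralizer_le_normalizer _).trans hNH')
  · have hr1 : r ∈ tau1 L := ⟨hr, hrL, hrdL, h3, h1⟩
    exact Helper1.bg14_lemmaZ hG hL hcomp hr1 hXrE hXrc hD hτ (hYx.trans hzx) hY
      (hYx.trans (hzC.trans hXrC))

/-- **S1375** (B&G Theorem 14.4(a),(c)). -/
theorem bg14t_1375 (hG : IsMinSimpleOddOrder G) (M : Subgroup G) (hM : IsCoatom M) (x : G)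
    (hx : x ∈ sigmaCore M) (hx1 : x ≠ 1) (hxM : ¬ centralizer ({x} : Set G) ≤ M) :
    ∃ N : Subgroup G, (IsCoatom N ∧ centralizer ({x} : Set G) ≤ N) ∧
      (∀ L : Subgroup G, IsCoatom L → centralizer ({x} : Set G) ≤ L → L = N) ∧
      sigmaCore N = fittingHallOf N ∧
      centralizer ({x} : Set G) ≤
        normalizer ((sigmaCore N ⊓ centralizer ({x} : Set G) : Subgroup G) : Set G) ∧
      IsComplIn (M ⊓ centralizer ({x} : Set G)) (sigmaCore N ⊓ centralizer ({x} : Set G))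
        (centralizer ({x} : Set G)) ∧
      IsComplIn (M ⊓ N) (sigmaCore N) N ∧
      ∀ K' U' : Subgroup G, IsSigmaDecomposition N K' U' →
        U' ≠ ⊥ ∧ x ∈ sigmaA N U' ∧ x ∉ sigmaCore N := by
  have hU : BGUniq G := fun K hK h1 h2 => Cfsg.Agent.S1403.result hG K hK h1 h2
  obtain ⟨L, p, Y, hL, -, hnc, -, hτ, -, hYx, hYc, -, hCL, hcomp, hxE, hnorm, hcc⟩ :=
    bg14t_core hG hM hx hx1 hxM
  have hpp : p.Prime := hτ.1
  have hpF := Fact.mk hpp
  have hxL : x ∈ L := hxE.2
  have hR : sigmaCore L ⊓ centralizer ({x} : Set G) ≠ ⊥ := by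
    intro h
    apply hxM
    intro c hc
    obtain ⟨a, ha, b, hb, hcab⟩ := hcc.2.2.2 c hc
    rw [h, mem_bot] at hb
    rw [hcab, hb, mul_one]; exact ha.1
  have hall : ∀ r : ℕ, r.Prime → r ∣ orderOf x → r ∈ tau2 L :=
    fun r hr hrd => bg14t_tau2_of_dvd hG hM hL hnc hτ hcomp hx hxL hYx hYc hR hr hrd
  obtain ⟨y, hyR, hy1⟩ : ∃ y ∈ sigmaCore L ⊓ centralizer ({x} : Set G), y ≠ 1 := by
    by_contra hcon
    push Not at hcon
    exact hR (eq_bot_iff.mpr (fun z hz => mem_bot.mpr (hcon z hz)))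
  have hxy : x * y = y * x := (mem_centralizer_iff.mp hyR.2) x (Set.mem_singleton x)
  have hhat : x ∈ sigmaHat L := ⟨hxL, y, hyR.1, hy1, hxy⟩
  obtain ⟨-, -, -, h20⟩ := Cfsg.Agent.S1420.result hG L hL (M ⊓ L) hcomp
  obtain ⟨-, huniq⟩ := h20 x hxL hx1 hall hhat
  obtain ⟨A, hAE, hA, hAc⟩ := Helper4.bg127_exists_in_compl hcomp hτ
  obtain ⟨hnil, -⟩ := Cfsg.Agent.S1417.result hG L hL p hτ A ⟨hAE.trans inf_le_right, hA, hAc⟩
  refine ⟨L, ⟨hL, hCL⟩, huniq, ?_, hnorm, hcc, hcomp, ?_⟩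
  · apply le_antisymm
    · apply le_fittingHallOf L (sigmaCore L) (piCoreOf_le _ _) (le_normalizer_piCoreOf _ _) hnil
      obtain ⟨⟨-, h1, h2⟩, -, -⟩ := bg10_sigma_hall hG hU hL
      apply Nat.coprime_of_dvd
      intro q hq hq1 hq2
      exact h2 q hq (h1 q hq hq1) hq2
    · exact bg14t_fittingHall_le hG hL
  · intro K' U' hKU
    have hx_notσ : x ∉ sigmaCore L := by
      intro h
      have h1 : x ∈ (M ⊓ L) ⊓ sigmaCore L := ⟨hxE, h⟩
      rw [hcomp.2.2.1, mem_bot] at h1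
      exact hx1 h1
    have hWn : L ≤ normalizer ((U' ⊔ sigmaCore L : Subgroup G) : Set G) :=
      (Cfsg.Agent.S1352.result hG L hL K' hKU.cyclic hKU.hall).2 U' hKU
    have hKL : K' ≤ L := hKU.hall.1
    have hKn : K' ≤ normalizer (sigmaCore L : Set G) := hKL.trans (le_normalizer_piCoreOf _ _)
    have e2 : Nat.card ↥(K' ⊔ sigmaCore L) * Nat.card ↥(K' ⊓ sigmaCore L) =
        Nat.card K' * Nat.card (sigmaCore L) :=
      Helper51.card_sup_mul_card_inf_of_le_normalizer K' (sigmaCore L) hKn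
    refine ⟨?_, ⟨hhat, ?_⟩, hx_notσ⟩
    · intro hU'
      have hle : L ≤ K' ⊔ sigmaCore L := by
        intro m hm
        obtain ⟨a, ha, b, hb, hab⟩ := hKU.compl.2.2.2 m hm
        rw [hU', mem_bot] at ha
        rw [hab, ha, one_mul]; exact hb
      have hpL : p ∣ Nat.card L := by
        rw [← hYc]
        exact Subgroup.card_dvd_of_le (hYx.trans (zpowers_le.mpr hxL))
      have h1 : p ∣ Nat.card ↥(K' ⊔ sigmaCore L) := hpL.trans (Subgroup.card_dvd_of_le hle)
      have h2 : p ∣ Nat.card K' * Nat.card (sigmaCore L) := by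
        rw [← e2]; exact Dvd.dvd.mul_right h1 _
      rcases hpp.dvd_mul.mp h2 with h3 | h3
      · exact hτ.2.2.2 (Helper47.bg14_rank_of_kappa (hKU.hall.2.1 p hpp h3))
      · exact hτ.2.1 (mem_of_dvd_card_piCoreOf (sigma L) L hpp h3)
    · have e1 : Nat.card L = Nat.card U' * Nat.card ↥(K' ⊔ sigmaCore L) :=
        card_of_isComplIn _ _ _ hKU.compl
      have hUL : U' ≤ L := hKU.compl.1
      have hUn : U' ≤ normalizer (sigmaCore L : Set G) := hUL.trans (le_normalizer_piCoreOf _ _)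
      have e3 : Nat.card ↥(U' ⊔ sigmaCore L) * Nat.card ↥(U' ⊓ sigmaCore L) =
          Nat.card U' * Nat.card (sigmaCore L) :=
        Helper51.card_sup_mul_card_inf_of_le_normalizer U' (sigmaCore L) hUn
      have e4 : U' ⊓ sigmaCore L = ⊥ := by
        rw [eq_bot_iff, ← hKU.compl.2.2.1]
        exact inf_le_inf_left _ le_sup_right
      rw [e4, Subgroup.card_bot, mul_one] at e3
      have hWL : U' ⊔ sigmaCore L ≤ L := sup_le hUL (piCoreOf_le _ _)
      have e5 : Nat.card ↥(U' ⊔ sigmaCore L) * (U' ⊔ sigmaCore L).relIndex L = Nat.card L := by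
        have h := Subgroup.card_mul_index ((U' ⊔ sigmaCore L).subgroupOf L)
        rwa [Helper35.card_subgroupOf_of_le hWL] at h
      have e6 : (U' ⊔ sigmaCore L).relIndex L * Nat.card ↥(K' ⊓ sigmaCore L) = Nat.card K' := by
        have hpos1 : 0 < Nat.card U' := Nat.card_pos
        have hpos2 : 0 < Nat.card (sigmaCore L) := Nat.card_pos
        have h7 : Nat.card U' * Nat.card (sigmaCore L) *
            ((U' ⊔ sigmaCore L).relIndex L * Nat.card ↥(K' ⊓ sigmaCore L)) =
            Nat.card U' * Nat.card (sigmaCore L) * Nat.card K' := by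
          calc Nat.card U' * Nat.card (sigmaCore L) *
                ((U' ⊔ sigmaCore L).relIndex L * Nat.card ↥(K' ⊓ sigmaCore L))
              = (Nat.card ↥(U' ⊔ sigmaCore L) * (U' ⊔ sigmaCore L).relIndex L) *
                  Nat.card ↥(K' ⊓ sigmaCore L) := by rw [e3]; ring
            _ = Nat.card U' * (Nat.card ↥(K' ⊔ sigmaCore L) * Nat.card ↥(K' ⊓ sigmaCore L)) := by
                rw [e5, e1]; ring
            _ = Nat.card U' * Nat.card (sigmaCore L) * Nat.card K' := by rw [e2]; ring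
        exact Nat.eq_of_mul_eq_mul_left (Nat.mul_pos hpos1 hpos2) h7
      have hdvd : (U' ⊔ sigmaCore L).relIndex L ∣ Nat.card K' := Dvd.intro _ e6
      have hWnorm : ((U' ⊔ sigmaCore L).subgroupOf L).Normal :=
        Subgroup.normal_subgroupOf_of_le_normalizer hWn
      have hcop : (orderOf (⟨x, hxL⟩ : ↥L)).Coprime ((U' ⊔ sigmaCore L).subgroupOf L).index := by
        rw [Subgroup.orderOf_mk]
        apply Nat.coprime_of_dvd
        intro q hq hq1 hq2
        have hκ : q ∈ kappa L := hKU.hall.2.1 q hq (hq2.trans hdvd)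
        exact (hall q hq hq1).2.2.2 (Helper47.bg14_rank_of_kappa hκ)
      have h8 := mem_of_coprime_orderOf_index ((U' ⊔ sigmaCore L).subgroupOf L) ⟨x, hxL⟩ hcop
      exact Subgroup.mem_subgroupOf.mp h8

end Cfsg.Agent.Helper54
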