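/-
helper54: B&G Section 14, the signalizer `R(x)` (`supportR`) for `x ≠ 1` in `M_σ`, and the
disjointness of the cosets `x R(x)` (row S1433).
-/
import Cfsg.Agent.Helper54.BG14T2

set_option autoImplicit false

namespace Cfsg.Agent.Helper54

open Cfsg Subgroup Cfsg.Agent.Helper22 Cfsg.Agent.Helper23 Cfsg.Agent.Helper35

universe u

variable {G : Type u} [Group G]

/-- Conjugacy of subgroups is symmetric. -/
theorem bg14t_conj_symm {A B : Subgroup G} {g : G} (h : B = A.map (MulAut.conj g).toMonoidHom) :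
    A = B.map (MulAut.conj g⁻¹).toMonoidHom := by
  ext z
  rw [h, bg14t_mem_map_conj, bg14t_mem_map_conj]
  have e : g⁻¹ * (g⁻¹⁻¹ * z * g⁻¹) * g = z := by group
  rw [e]

/-- Conjugacy of subgroups is transitive. -/
theorem bg14t_conj_trans {A B C : Subgroup G} {g h : G}
    (h1 : B = A.map (MulAut.conj g).toMonoidHom) (h2 : C = B.map (MulAut.conj h).toMonoidHom) :
    C = A.map (MulAut.conj (h * g)).toMonoidHom := by
  ext z
  rw [h2, h1, bg14t_mem_map_conj, bg14t_mem_map_conj, bg14t_mem_map_conj]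
  have e : g⁻¹ * (h⁻¹ * z * h) * g = (h * g)⁻¹ * z * (h * g) := by group
  rw [e]

/-- For commuting elements of coprime orders, both lie in the cyclic group of the product. -/
theorem bg14t_mem_zpowers_mul {a b : G} (hab : Commute a b)
    (hcop : (orderOf a).Coprime (orderOf b)) : a ∈ zpowers (a * b) ∧ b ∈ zpowers (a * b) := by
  constructor
  · obtain ⟨m, hm⟩ := exists_pow_eq_self_of_coprime (x := a) (n := orderOf b) hcop.symm
    have e : (a * b) ^ orderOf b = a ^ orderOf b := by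
      rw [Commute.mul_pow hab (orderOf b), pow_orderOf_eq_one, mul_one]
    have h : ((a * b) ^ orderOf b) ^ m = a := by rw [e]; exact hm
    have hmem : ((a * b) ^ orderOf b) ^ m ∈ zpowers (a * b) :=
      Subgroup.pow_mem _ (Subgroup.pow_mem _ (mem_zpowers (a * b)) _) _
    rw [h] at hmem
    exact hmem
  · obtain ⟨m, hm⟩ := exists_pow_eq_self_of_coprime (x := b) (n := orderOf a) hcop
    have e : (a * b) ^ orderOf a = b ^ orderOf a := by
      rw [Commute.mul_pow hab (orderOf a), pow_orderOf_eq_one, one_mul]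
    have h : ((a * b) ^ orderOf a) ^ m = b := by rw [e]; exact hm
    have hmem : ((a * b) ^ orderOf a) ^ m ∈ zpowers (a * b) :=
      Subgroup.pow_mem _ (Subgroup.pow_mem _ (mem_zpowers (a * b)) _) _
    rw [h] at hmem
    exact hmem

/-- Two elements of a cyclic group commute. -/
theorem bg14t_commute_of_mem_zpowers {z a b : G} (ha : a ∈ zpowers z) (hb : b ∈ zpowers z) :
    Commute a b := by
  obtain ⟨i, rfl⟩ := mem_zpowers_iff.mp ha
  obtain ⟨j, rfl⟩ := mem_zpowers_iff.mp hb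
  exact ((Commute.refl z).zpow_left i).zpow_right j

/-- A prime dividing the order of `a⁻¹ b` (`a`, `b` commuting) divides the order of `a` or `b`. -/
theorem bg14t_prime_dvd_inv_mul {a b : G} (hab : Commute a b) {q : ℕ} (hq : q.Prime)
    (h : q ∣ orderOf (a⁻¹ * b)) : q ∣ orderOf a ∨ q ∣ orderOf b := by
  have h1 : orderOf (a⁻¹ * b) ∣ Nat.lcm (orderOf a⁻¹) (orderOf b) :=
    (hab.inv_left).orderOf_mul_dvd_lcm
  rw [orderOf_inv] at h1
  exact hq.dvd_mul.mp ((h.trans h1).trans (Nat.lcm_dvd_mul _ _))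

/-- A prime dividing the order of `a b⁻¹` (`a`, `b` commuting) divides the order of `a` or `b`. -/
theorem bg14t_prime_dvd_mul_inv {a b : G} (hab : Commute a b) {q : ℕ} (hq : q.Prime)
    (h : q ∣ orderOf (a * b⁻¹)) : q ∣ orderOf a ∨ q ∣ orderOf b := by
  have h1 : orderOf (a * b⁻¹) ∣ Nat.lcm (orderOf a) (orderOf b⁻¹) :=
    (hab.inv_right).orderOf_mul_dvd_lcm
  rw [orderOf_inv] at h1
  exact hq.dvd_mul.mp ((h.trans h1).trans (Nat.lcm_dvd_mul _ _))

/-- The data attached to a non-identity element `r` of `R(x)`: the unique maximal subgroup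
`L ⊇ C_G(x)`. -/
structure SuppData (M : Subgroup G) (x r : G) (L : Subgroup G) : Prop where
  coatom : IsCoatom L
  nconj : ∀ g : G, L ≠ M.map (MulAut.conj g).toMonoidHom
  cent : centralizer ({x} : Set G) ≤ L
  uniq : ∀ L' : Subgroup G, IsCoatom L' → centralizer ({x} : Set G) ≤ L' → L' = L
  mem : r ∈ sigmaCore L
  compl : IsComplIn (M ⊓ L) (sigmaCore L) L

variable [Finite G]

/-- **`R(x)` for `x ≠ 1` in `M_σ`**: it is trivial if `C_G(x) ≤ M`, and otherwise it is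
`C_{L_σ}(x)` for the unique maximal subgroup `L ⊇ C_G(x)`. -/
theorem bg14t_supportR (hG : IsMinSimpleOddOrder G) {M : Subgroup G} (hM : IsCoatom M) {x : G}
    (hx : x ∈ sigmaCore M) (hx1 : x ≠ 1) :
    (centralizer ({x} : Set G) ≤ M → supportR M x = ⊥) ∧
      (¬ centralizer ({x} : Set G) ≤ M → ∃ L : Subgroup G, IsCoatom L ∧
        (∀ g : G, L ≠ M.map (MulAut.conj g).toMonoidHom) ∧ centralizer ({x} : Set G) ≤ L ∧
        (∀ L' : Subgroup G, IsCoatom L' → centralizer ({x} : Set G) ≤ L' → L' = L) ∧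
        IsComplIn (M ⊓ L) (sigmaCore L) L ∧
        supportR M x = sigmaCore L ⊓ centralizer ({x} : Set G)) := by
  constructor
  · intro hC
    unfold supportR
    rw [dif_neg (fun h => h.1 hC)]
  · intro hC
    obtain ⟨N, ⟨hN, hCN⟩, huniq, hF, -, -, hcompN, -⟩ := bg14t_1375 hG M hM x hx hx1 hC
    obtain ⟨L₀, p, Y, hL₀, -, hnc, -, -, -, -, -, -, hCL₀, -⟩ := bg14t_core hG hM hx hx1 hC
    have e : L₀ = N := huniq L₀ hL₀ hCL₀
    have hcond : ¬ centralizer ({x} : Set G) ≤ M ∧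
        ∃! L : Subgroup G, IsCoatom L ∧ centralizer ({x} : Set G) ≤ L :=
      ⟨hC, N, ⟨hN, hCN⟩, fun L' hL' => huniq L' hL'.1 hL'.2⟩
    have hch : Classical.choose hcond.2.exists = N :=
      huniq _ (Classical.choose_spec hcond.2.exists).1 (Classical.choose_spec hcond.2.exists).2
    refine ⟨N, hN, e ▸ hnc, hCN, huniq, hcompN, ?_⟩
    unfold supportR
    rw [dif_pos hcond, hch, ← hF]

/-- Elements of `R(x)` commute with `x`. -/
theorem bg14t_supp_comm (hG : IsMinSimpleOddOrder G) {M : Subgroup G} (hM : IsCoatom M) {x r : G}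
    (hx : x ∈ sigmaCore M) (hx1 : x ≠ 1) (hr : r ∈ supportR M x) : Commute x r := by
  obtain ⟨h1, h2⟩ := bg14t_supportR hG hM hx hx1
  by_cases hC : centralizer ({x} : Set G) ≤ M
  · rw [h1 hC, mem_bot] at hr
    rw [hr]; exact Commute.one_right x
  · obtain ⟨L, -, -, -, -, -, hs⟩ := h2 hC
    rw [hs] at hr
    exact (mem_centralizer_iff.mp hr.2) x (Set.mem_singleton x)

/-- The data of a non-identity element of `R(x)`. -/
theorem bg14t_supp_data (hG : IsMinSimpleOddOrder G) {M : Subgroup G} (hM : IsCoatom M) {x r : G}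
    (hx : x ∈ sigmaCore M) (hx1 : x ≠ 1) (hr : r ∈ supportR M x) (hr1 : r ≠ 1) :
    ∃ L : Subgroup G, SuppData M x r L := by
  obtain ⟨h1, h2⟩ := bg14t_supportR hG hM hx hx1
  by_cases hC : centralizer ({x} : Set G) ≤ M
  · rw [h1 hC, mem_bot] at hr
    exact absurd hr hr1
  · obtain ⟨L, hL, hnc, hCL, huniq, hcomp, hs⟩ := h2 hC
    rw [hs] at hr
    exact ⟨L, hL, hnc, hCL, huniq, hr.1, hcomp⟩

/-- Primes of the order of an element of `M_σ` lie in `σ(M)`. -/
theorem bg14t_mem_sigma_of_dvd {M : Subgroup G} {x : G} (hx : x ∈ sigmaCore M) {q : ℕ}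
    (hq : q.Prime) (h : q ∣ orderOf x) : q ∈ sigma M :=
  mem_of_dvd_card_piCoreOf (sigma M) M hq (h.trans (by
    have h' := orderOf_dvd_natCard (⟨x, hx⟩ : sigmaCore M)
    rwa [Subgroup.orderOf_mk] at h'))

/-- `x` and `r ∈ R(x)` have coprime orders. -/
theorem bg14t_supp_coprime (hG : IsMinSimpleOddOrder G) {M : Subgroup G} (hM : IsCoatom M)
    {x r : G} (hx : x ∈ sigmaCore M) (hx1 : x ≠ 1) (hr : r ∈ supportR M x) :
    (orderOf x).Coprime (orderOf r) := by
  have hσp : BGSigmaPart G := (Cfsg.Agent.S1378.result hG).2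
  by_cases hr1 : r = 1
  · rw [hr1, orderOf_one]; exact Nat.coprime_one_right _
  · obtain ⟨L, hD⟩ := bg14t_supp_data hG hM hx hx1 hr hr1
    apply Nat.coprime_of_dvd
    intro q hq h1 h2
    obtain ⟨g, hg⟩ := hσp M L hM hD.coatom
      ⟨q, bg14t_mem_sigma_of_dvd hx hq h1, bg14t_mem_sigma_of_dvd hD.mem hq h2⟩
    exact hD.nconj g hg

/-- The asymmetric configuration is impossible: `x r = y s` with `s ≠ 1` in `R(y)` whose maximal
subgroup `L'` is conjugate to `M`. -/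
theorem bg14t_asym (hG : IsMinSimpleOddOrder G) {M N L' : Subgroup G} (hM : IsCoatom M)
    (hN : IsCoatom N) {x y r s : G} (hx : x ∈ sigmaCore M) (hx1 : x ≠ 1) (hy : y ∈ sigmaCore N)
    (hy1 : y ≠ 1) (hr : r ∈ supportR M x) (hD : SuppData N y s L') (heq : x * r = y * s)
    (hys : Commute y s) (hxs : Commute x s) (hry : Commute r y)
    (hconj : ∃ g : G, L' = M.map (MulAut.conj g).toMonoidHom) : False := by
  have hσp : BGSigmaPart G := (Cfsg.Agent.S1378.result hG).2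
  obtain ⟨g, hg⟩ := hconj
  have hw : x⁻¹ * s = r * y⁻¹ := by
    have e1 : x⁻¹ * s = x⁻¹ * (y * s) * y⁻¹ := by rw [hys.eq]; group
    rw [e1, ← heq]; group
  have hxs1 : x⁻¹ * s = 1 := by
    by_contra hne
    have hn1 : orderOf (x⁻¹ * s) ≠ 1 := fun h => hne (orderOf_eq_one_iff.mp h)
    have hq := Nat.minFac_prime hn1
    have hqd := Nat.minFac_dvd (orderOf (x⁻¹ * s))
    have hqd' : (orderOf (x⁻¹ * s)).minFac ∣ orderOf (r * y⁻¹) := hw ▸ hqd
    rcases bg14t_prime_dvd_mul_inv hry hq hqd' with h2 | h2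
    · -- q ∣ orderOf r
      have hr1 : r ≠ 1 := by
        rintro rfl
        rw [orderOf_one] at h2
        exact hq.one_lt.ne' (Nat.dvd_one.mp h2)
      obtain ⟨L, hDx⟩ := bg14t_supp_data hG hM hx hx1 hr hr1
      have hqL := bg14t_mem_sigma_of_dvd hDx.mem hq h2
      rcases bg14t_prime_dvd_inv_mul hxs hq hqd with h1 | h1
      · obtain ⟨k, hk⟩ := hσp M L hM hDx.coatom ⟨_, bg14t_mem_sigma_of_dvd hx hq h1, hqL⟩
        exact hDx.nconj k hk
      · obtain ⟨k, hk⟩ := hσp L' L hD.coatom hDx.coatom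
          ⟨_, bg14t_mem_sigma_of_dvd hD.mem hq h1, hqL⟩
        exact hDx.nconj (k * g) (bg14t_conj_trans hg hk)
    · -- q ∣ orderOf y
      have hqN := bg14t_mem_sigma_of_dvd hy hq h2
      rcases bg14t_prime_dvd_inv_mul hxs hq hqd with h1 | h1
      · obtain ⟨k, hk⟩ := hσp M N hM hN ⟨_, bg14t_mem_sigma_of_dvd hx hq h1, hqN⟩
        exact hD.nconj (g * k⁻¹) (bg14t_conj_trans (bg14t_conj_symm hk) hg)
      · obtain ⟨k, hk⟩ := hσp L' N hD.coatom hN ⟨_, bg14t_mem_sigma_of_dvd hD.mem hq h1, hqN⟩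
        exact hD.nconj k⁻¹ (bg14t_conj_symm hk)
  have hsx : s = x := by
    have e : s = x * (x⁻¹ * s) := by group
    rw [e, hxs1, mul_one]
  have hry1 : r = y := by
    have e : r = (r * y⁻¹) * y := by group
    rw [e, ← hw, hxs1, one_mul]
  have hr1 : r ≠ 1 := hry1 ▸ hy1
  obtain ⟨L, hDx⟩ := bg14t_supp_data hG hM hx hx1 hr hr1
  have hLL' : L ≠ L' := fun h => hDx.nconj g (h ▸ hg)
  have hyL : y ∈ sigmaCore L := hry1 ▸ hDx.mem
  have hCy : ¬ centralizer ({y} : Set G) ≤ L := fun h => hLL' (hD.uniq L hDx.coatom h)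
  obtain ⟨N₂, ⟨hN₂, hCN₂⟩, -, -, -, -, hcompl, -⟩ := bg14t_1375 hG L hDx.coatom y hyL hy1 hCy
  have e2 : N₂ = L' := hD.uniq N₂ hN₂ hCN₂
  rw [e2] at hcompl
  have hxC : x ∈ centralizer ({x} : Set G) := by
    rw [mem_centralizer_iff]
    intro t ht
    rw [Set.mem_singleton_iff] at ht
    rw [ht]
  have hxL : x ∈ L := hDx.cent hxC
  have hxσ : x ∈ sigmaCore L' := hsx ▸ hD.mem
  have hxL' : x ∈ L' := piCoreOf_le (sigma L') L' hxσ
  have h3 : x ∈ (L ⊓ L') ⊓ sigmaCore L' := ⟨⟨hxL, hxL'⟩, hxσ⟩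
  rw [hcompl.2.2.1, mem_bot] at h3
  exact hx1 h3

/-- **S1433**: the cosets `x R(x)` are pairwise disjoint. -/
theorem bg14t_1433 (hG : IsMinSimpleOddOrder G) (M N : Subgroup G) (hM : IsCoatom M)
    (hN : IsCoatom N) (x y : G) (hx : x ∈ sigmaCore M) (hy : y ∈ sigmaCore N) (hx1 : x ≠ 1)
    (hy1 : y ≠ 1) (hxy : x ≠ y) :
    ∀ r ∈ supportR M x, ∀ s ∈ supportR N y, x * r ≠ y * s := by
  intro r hr s hs heq
  have hσp : BGSigmaPart G := (Cfsg.Agent.S1378.result hG).2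
  have hcxr := bg14t_supp_comm hG hM hx hx1 hr
  have hcys := bg14t_supp_comm hG hN hy hy1 hs
  obtain ⟨hxz, hrz⟩ := bg14t_mem_zpowers_mul hcxr (bg14t_supp_coprime hG hM hx hx1 hr)
  obtain ⟨hyz, hsz⟩ := bg14t_mem_zpowers_mul hcys (bg14t_supp_coprime hG hN hy hy1 hs)
  rw [← heq] at hyz hsz
  have hcxy : Commute x y := bg14t_commute_of_mem_zpowers hxz hyz
  have hcrs : Commute r s := bg14t_commute_of_mem_zpowers hrz hsz
  have hcxs : Commute x s := bg14t_commute_of_mem_zpowers hxz hsz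
  have hcry : Commute r y := bg14t_commute_of_mem_zpowers hrz hyz
  have hw : x⁻¹ * y = r * s⁻¹ := by
    have e1 : x⁻¹ * y = x⁻¹ * (y * s) * s⁻¹ := by group
    rw [e1, ← heq]; group
  have hne : x⁻¹ * y ≠ 1 := by
    intro h
    apply hxy
    have e : y = x * (x⁻¹ * y) := by group
    rw [e, h, mul_one]
  have hn1 : orderOf (x⁻¹ * y) ≠ 1 := fun h => hne (orderOf_eq_one_iff.mp h)
  have hq := Nat.minFac_prime hn1
  have hqd := Nat.minFac_dvd (orderOf (x⁻¹ * y))
  have hqd' : (orderOf (x⁻¹ * y)).minFac ∣ orderOf (r * s⁻¹) := hw ▸ hqd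
  rcases bg14t_prime_dvd_mul_inv hcrs hq hqd' with h2 | h2
  · -- q ∣ orderOf r
    have hr1 : r ≠ 1 := by
      rintro rfl
      rw [orderOf_one] at h2
      exact hq.one_lt.ne' (Nat.dvd_one.mp h2)
    obtain ⟨L, hDx⟩ := bg14t_supp_data hG hM hx hx1 hr hr1
    have hqL := bg14t_mem_sigma_of_dvd hDx.mem hq h2
    rcases bg14t_prime_dvd_inv_mul hcxy hq hqd with h1 | h1
    · obtain ⟨k, hk⟩ := hσp M L hM hDx.coatom ⟨_, bg14t_mem_sigma_of_dvd hx hq h1, hqL⟩
      exact hDx.nconj k hk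
    · obtain ⟨k, hk⟩ := hσp N L hN hDx.coatom ⟨_, bg14t_mem_sigma_of_dvd hy hq h1, hqL⟩
      exact bg14t_asym hG hN hM hy hy1 hx hx1 hs hDx heq.symm hcxr hcry.symm hcxs.symm ⟨k, hk⟩
  · -- q ∣ orderOf s
    have hs1 : s ≠ 1 := by
      rintro rfl
      rw [orderOf_one] at h2
      exact hq.one_lt.ne' (Nat.dvd_one.mp h2)
    obtain ⟨L', hDy⟩ := bg14t_supp_data hG hN hy hy1 hs hs1
    have hqL := bg14t_mem_sigma_of_dvd hDy.mem hq h2
    rcases bg14t_prime_dvd_inv_mul hcxy hq hqd with h1 | h1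
    · obtain ⟨k, hk⟩ := hσp M L' hM hDy.coatom ⟨_, bg14t_mem_sigma_of_dvd hx hq h1, hqL⟩
      exact bg14t_asym hG hM hN hx hx1 hy hy1 hr hDy heq hcys hcxs hcry ⟨k, hk⟩
    · obtain ⟨k, hk⟩ := hσp N L' hN hDy.coatom ⟨_, bg14t_mem_sigma_of_dvd hy hq h1, hqL⟩
      exact hDy.nconj k hk

end Cfsg.Agent.Helper54
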