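/-
helper54: B&G Section 14, conjugation equivariance of `sigmaCore` and `supportR`, the regular
action of `R(x)` on the conjugates of `M` containing `x`, and the count of row S1377.
-/
import Cfsg.Agent.Helper54.BG14T3
import Cfsg.Agent.Helper41.BG13P1
import Cfsg.Agent.Helper47.Syl

set_option autoImplicit false

namespace Cfsg.Agent.Helper54

open Cfsg Subgroup Cfsg.Agent.Helper22 Cfsg.Agent.Helper23 Cfsg.Agent.Helper35
open scoped Pointwise

universe u

variable {G : Type u} [Group G]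

/-- Conjugating back. -/
theorem bg14t_map_conj_inv (M : Subgroup G) (g : G) :
    (M.map (MulAut.conj g).toMonoidHom).map (MulAut.conj g⁻¹).toMonoidHom = M := by
  ext z
  rw [bg14t_mem_map_conj, bg14t_mem_map_conj]
  have e : g⁻¹ * (g⁻¹⁻¹ * z * g⁻¹) * g = z := by group
  rw [e]

/-- Conjugating by a product. -/
theorem bg14t_map_conj_comp (M : Subgroup G) (a b : G) :
    M.map (MulAut.conj (a * b)).toMonoidHom =
      (M.map (MulAut.conj b).toMonoidHom).map (MulAut.conj a).toMonoidHom :=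
  (bg14t_conj_trans rfl rfl).symm

/-- Membership in the centralizer of a singleton. -/
theorem bg14t_mem_cent {x z : G} : z ∈ centralizer ({x} : Set G) ↔ x * z = z * x := by
  rw [mem_centralizer_iff]
  constructor
  · intro h; exact h x (Set.mem_singleton x)
  · intro h t ht
    rw [Set.mem_singleton_iff] at ht
    rw [ht]; exact h

/-- The centralizer of a conjugate element. -/
theorem bg14t_mem_cent_conj {g x z : G} :
    z ∈ centralizer ({g * x * g⁻¹} : Set G) ↔ g⁻¹ * z * g ∈ centralizer ({x} : Set G) := by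
  rw [bg14t_mem_cent, bg14t_mem_cent]
  constructor
  · intro h
    have e1 : x * (g⁻¹ * z * g) = g⁻¹ * (g * x * g⁻¹ * z) * g := by group
    have e2 : g⁻¹ * z * g * x = g⁻¹ * (z * (g * x * g⁻¹)) * g := by group
    rw [e1, e2, h]
  · intro h
    have e1 : g * x * g⁻¹ * z = g * (x * (g⁻¹ * z * g)) * g⁻¹ := by group
    have e2 : z * (g * x * g⁻¹) = g * (g⁻¹ * z * g * x) * g⁻¹ := by group
    rw [e1, e2, h]

/-- The cardinality of a conjugate. -/
theorem bg14t_card_map_conj (M : Subgroup G) (g : G) :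
    Nat.card (M.map (MulAut.conj g).toMonoidHom) = Nat.card M :=
  Subgroup.card_map_of_injective (MulAut.conj g).injective

/-- One inclusion of the equivariance of `O_π`. -/
theorem bg14t_piCoreOf_conj_le [Finite G] (π : Set ℕ) (M : Subgroup G) (g : G) :
    (piCoreOf π M).map (MulAut.conj g).toMonoidHom ≤
      piCoreOf π (M.map (MulAut.conj g).toMonoidHom) := by
  apply le_piCoreOf (Subgroup.map_mono (piCoreOf_le π M))
  · intro z hz
    rw [bg14t_mem_map_conj] at hz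
    have hn := le_normalizer_piCoreOf π M hz
    rw [mem_normalizer_iff]
    intro h
    rw [bg14t_mem_map_conj, bg14t_mem_map_conj]
    have e : g⁻¹ * (z * h * z⁻¹) * g = (g⁻¹ * z * g) * (g⁻¹ * h * g) * (g⁻¹ * z * g)⁻¹ := by group
    rw [e]
    exact mem_normalizer_iff.mp hn _
  · intro p hp hd
    rw [bg14t_card_map_conj] at hd
    exact mem_of_dvd_card_piCoreOf π M hp hd

/-- Equivariance of `O_π`. -/
theorem bg14t_piCoreOf_conj [Finite G] (π : Set ℕ) (M : Subgroup G) (g : G) :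
    piCoreOf π (M.map (MulAut.conj g).toMonoidHom) =
      (piCoreOf π M).map (MulAut.conj g).toMonoidHom := by
  apply le_antisymm _ (bg14t_piCoreOf_conj_le π M g)
  intro z hz
  have h1 := bg14t_piCoreOf_conj_le π (M.map (MulAut.conj g).toMonoidHom) g⁻¹
  rw [bg14t_map_conj_inv] at h1
  rw [bg14t_mem_map_conj]
  apply h1
  rw [bg14t_mem_map_conj]
  have e : g⁻¹⁻¹ * (g⁻¹ * z * g) * g⁻¹ = z := by group
  rw [e]; exact hz

variable [Finite G]

/-- `σ` is conjugation invariant. -/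
theorem bg14t_sigma_conj (M : Subgroup G) (g : G) :
    sigma (M.map (MulAut.conj g).toMonoidHom) = sigma M := by
  ext p
  constructor
  · intro hp
    have h := Cfsg.Agent.Helper41.bg13_sigma_conj hp g⁻¹
    have e : MulAut.conj g⁻¹ • (M.map (MulAut.conj g).toMonoidHom) = M := bg14t_map_conj_inv M g
    rwa [e] at h
  · intro hp
    exact Cfsg.Agent.Helper41.bg13_sigma_conj hp g

/-- Equivariance of `M_σ`. -/
theorem bg14t_sigmaCore_conj (M : Subgroup G) (g : G) :
    sigmaCore (M.map (MulAut.conj g).toMonoidHom) =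
      (sigmaCore M).map (MulAut.conj g).toMonoidHom := by
  have h := bg14t_piCoreOf_conj (sigma M) M g
  have e : sigmaCore (M.map (MulAut.conj g).toMonoidHom) =
      piCoreOf (sigma M) (M.map (MulAut.conj g).toMonoidHom) := by
    show piCoreOf (sigma (M.map (MulAut.conj g).toMonoidHom)) _ = _
    rw [bg14t_sigma_conj]
  rw [e, h]
  rfl

/-- Membership form of the equivariance of `M_σ`. -/
theorem bg14t_mem_sigmaCore_conj {M : Subgroup G} {g z : G} :
    z ∈ sigmaCore (M.map (MulAut.conj g).toMonoidHom) ↔ g⁻¹ * z * g ∈ sigmaCore M := by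
  rw [bg14t_sigmaCore_conj, bg14t_mem_map_conj]

/-- `R(x)` is normalized by `C_G(x)` and complements `C_M(x)` in `C_G(x)`. -/
theorem bg14t_supp_compl (hG : IsMinSimpleOddOrder G) {M : Subgroup G} (hM : IsCoatom M) {x : G}
    (hx : x ∈ sigmaCore M) (hx1 : x ≠ 1) :
    centralizer ({x} : Set G) ≤ normalizer (supportR M x : Set G) ∧
      IsComplIn (M ⊓ centralizer ({x} : Set G)) (supportR M x) (centralizer ({x} : Set G)) := by
  obtain ⟨h1, h2⟩ := bg14t_supportR hG hM hx hx1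
  by_cases hC : centralizer ({x} : Set G) ≤ M
  · rw [h1 hC]
    refine ⟨?_, inf_le_right, bot_le, inf_bot_eq _, ?_⟩
    · intro c _
      rw [mem_normalizer_iff]
      intro h
      rw [mem_bot, mem_bot]
      constructor
      · rintro rfl; group
      · intro h2
        have e : h = c⁻¹ * (c * h * c⁻¹) * c := by group
        rw [e, h2]; group
    · intro c hc
      exact ⟨c, ⟨hC hc, hc⟩, 1, one_mem _, (mul_one c).symm⟩
  · obtain ⟨L, hL, -, hCL, -, -, hs⟩ := h2 hC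
    obtain ⟨N, -, huniq, -, hnorm, hcomp, -, -⟩ := bg14t_1375 hG M hM x hx hx1 hC
    have e : L = N := huniq L hL hCL
    rw [hs, e]
    exact ⟨hnorm, hcomp⟩

/-- **Regular action**: for every conjugate `M^g` containing `x` there is exactly one
`r ∈ R(x)` with `M^r = M^g`. -/
theorem bg14t_regular (hG : IsMinSimpleOddOrder G) {M : Subgroup G} (hM : IsCoatom M) {x : G}
    (hx : x ∈ sigmaCore M) (hx1 : x ≠ 1) (g : G)
    (hg : x ∈ M.map (MulAut.conj g).toMonoidHom) :
    ∃! r : G, r ∈ supportR M x ∧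
      M.map (MulAut.conj r).toMonoidHom = M.map (MulAut.conj g).toMonoidHom := by
  obtain ⟨hnorm, hcc⟩ := bg14t_supp_compl hG hM hx hx1
  have hxM : x ∈ M := piCoreOf_le (sigma M) M hx
  have hM1 : M ≠ ⊥ := by
    intro h
    rw [h, mem_bot] at hxM
    exact hx1 hxM
  have hNM : normalizer (M : Set G) = M := uq_normalizer_eq hG hM hM1 le_rfl le_normalizer
  rw [bg14t_mem_map_conj] at hg
  obtain ⟨c, hc, m, hm, hgcm⟩ := bg14t_trans hG hM hx hx1 hg
  obtain ⟨a, ha, b, hb, hcab⟩ := hcc.2.2.2 c hc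
  have hr : a * b * a⁻¹ ∈ supportR M x := (mem_normalizer_iff.mp (hnorm ha.2) b).mp hb
  have hgr : g = (a * b * a⁻¹) * (a * m) := by rw [hgcm, hcab]; group
  have e1 : M.map (MulAut.conj g).toMonoidHom =
      M.map (MulAut.conj (a * b * a⁻¹)).toMonoidHom := by
    rw [hgr]; exact bg14t_map_conj_mul (M.mul_mem ha.1 hm)
  refine ⟨a * b * a⁻¹, ⟨hr, e1.symm⟩, ?_⟩
  rintro r' ⟨hr', h'⟩
  have h5 : (a * b * a⁻¹)⁻¹ * r' ∈ normalizer (M : Set G) :=
    bg14t_mem_normalizer_of_map_eq (by rw [h', e1])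
  rw [hNM] at h5
  have hr'C : r' ∈ centralizer ({x} : Set G) := hcc.2.1 hr'
  have hrC : a * b * a⁻¹ ∈ centralizer ({x} : Set G) := hcc.2.1 hr
  have h56 : (a * b * a⁻¹)⁻¹ * r' ∈ supportR M x := mul_mem (inv_mem hr) hr'
  have h57 : (a * b * a⁻¹)⁻¹ * r' ∈ centralizer ({x} : Set G) := mul_mem (inv_mem hrC) hr'C
  have h6 : (a * b * a⁻¹)⁻¹ * r' ∈ (M ⊓ centralizer ({x} : Set G)) ⊓ supportR M x :=
    ⟨⟨h5, h57⟩, h56⟩
  rw [hcc.2.2.1, mem_bot] at h6
  have e : r' = (a * b * a⁻¹) * ((a * b * a⁻¹)⁻¹ * r') := by group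
  rw [e, h6, mul_one]

/-- Equivariance of `R(x)`. -/
theorem bg14t_supportR_conj (hG : IsMinSimpleOddOrder G) {M : Subgroup G} (hM : IsCoatom M)
    {x : G} (hx : x ∈ sigmaCore M) (hx1 : x ≠ 1) (g : G) :
    supportR (M.map (MulAut.conj g).toMonoidHom) (g * x * g⁻¹) =
      (supportR M x).map (MulAut.conj g).toMonoidHom := by
  have hM' : IsCoatom (M.map (MulAut.conj g).toMonoidHom) :=
    Cfsg.Agent.Helper47.isCoatom_map_conj hM g
  have hx' : g * x * g⁻¹ ∈ sigmaCore (M.map (MulAut.conj g).toMonoidHom) := by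
    rw [bg14t_mem_sigmaCore_conj]
    have e : g⁻¹ * (g * x * g⁻¹) * g = x := by group
    rw [e]; exact hx
  have hx1' : g * x * g⁻¹ ≠ 1 := by
    intro h
    apply hx1
    have e : x = g⁻¹ * (g * x * g⁻¹) * g := by group
    rw [e, h]; group
  obtain ⟨h1, h2⟩ := bg14t_supportR hG hM hx hx1
  obtain ⟨h1', h2'⟩ := bg14t_supportR hG hM' hx' hx1'
  by_cases hC : centralizer ({x} : Set G) ≤ M
  · have hC' : centralizer ({g * x * g⁻¹} : Set G) ≤ M.map (MulAut.conj g).toMonoidHom := by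
      intro z hz
      rw [bg14t_mem_cent_conj] at hz
      rw [bg14t_mem_map_conj]
      exact hC hz
    rw [h1 hC, h1' hC', Subgroup.map_bot]
  · have hC' : ¬ centralizer ({g * x * g⁻¹} : Set G) ≤ M.map (MulAut.conj g).toMonoidHom := by
      intro h
      apply hC
      intro z hz
      have h3 : g * z * g⁻¹ ∈ centralizer ({g * x * g⁻¹} : Set G) := by
        rw [bg14t_mem_cent_conj]
        have e : g⁻¹ * (g * z * g⁻¹) * g = z := by group
        rw [e]; exact hz
      have h4 := h h3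
      rw [bg14t_mem_map_conj] at h4
      have e : g⁻¹ * (g * z * g⁻¹) * g = z := by group
      rwa [e] at h4
    obtain ⟨L, hL, -, hCL, -, -, hs⟩ := h2 hC
    obtain ⟨L', -, -, -, huniq', -, hs'⟩ := h2' hC'
    have hLg : L.map (MulAut.conj g).toMonoidHom = L' := by
      apply huniq' _ (Cfsg.Agent.Helper47.isCoatom_map_conj hL g)
      intro z hz
      rw [bg14t_mem_cent_conj] at hz
      rw [bg14t_mem_map_conj]
      exact hCL hz
    rw [hs, hs', ← hLg]
    ext z
    rw [mem_inf, bg14t_mem_sigmaCore_conj, bg14t_mem_cent_conj, bg14t_mem_map_conj, mem_inf]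

/-- `R(x)` does not depend on the conjugate of `M` whose `σ`-core contains `x`. -/
theorem bg14t_supportR_indep (hG : IsMinSimpleOddOrder G) {M : Subgroup G} (hM : IsCoatom M)
    {x : G} (hx : x ∈ sigmaCore M) (hx1 : x ≠ 1) (g : G)
    (hxg : x ∈ sigmaCore (M.map (MulAut.conj g).toMonoidHom)) :
    supportR (M.map (MulAut.conj g).toMonoidHom) x = supportR M x := by
  have hxg' : g⁻¹ * x * g ∈ M := piCoreOf_le (sigma M) M (bg14t_mem_sigmaCore_conj.mp hxg)
  obtain ⟨c, hc, m, hm, hgcm⟩ := bg14t_trans hG hM hx hx1 hxg'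
  have e1 : M.map (MulAut.conj g).toMonoidHom = M.map (MulAut.conj c).toMonoidHom := by
    rw [hgcm]; exact bg14t_map_conj_mul hm
  have e2 : c * x * c⁻¹ = x := by
    have h := bg14t_mem_cent.mp hc
    rw [← h]; group
  have h3 := bg14t_supportR_conj hG hM hx hx1 c
  rw [e2] at h3
  rw [e1, h3]
  have hn := (bg14t_supp_compl hG hM hx hx1).1 hc
  ext z
  rw [bg14t_mem_map_conj]
  have h4 := mem_normalizer_iff.mp hn (c⁻¹ * z * c)
  have e : c * (c⁻¹ * z * c) * c⁻¹ = z := by group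
  rw [e] at h4
  exact h4

/-- The conjugate of `M` indexed by a coset of `M`. -/
noncomputable def bg14t_cj (M : Subgroup G) (q : G ⧸ M) : Subgroup G :=
  M.map (MulAut.conj (Quotient.out q)).toMonoidHom

omit [Finite G] in
theorem bg14t_cj_mk (M : Subgroup G) (y : G) :
    bg14t_cj M (QuotientGroup.mk y) = M.map (MulAut.conj y).toMonoidHom := by
  unfold bg14t_cj
  have h : (QuotientGroup.mk y : G ⧸ M) =
      QuotientGroup.mk (Quotient.out (QuotientGroup.mk y : G ⧸ M)) :=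
    (QuotientGroup.out_eq' _).symm
  have hm : y⁻¹ * Quotient.out (QuotientGroup.mk y : G ⧸ M) ∈ M := QuotientGroup.eq.mp h
  have h2 := bg14t_map_conj_mul (M := M) (r := y) hm
  rwa [mul_inv_cancel_left] at h2

theorem bg14t_cj_coatom {M : Subgroup G} (hM : IsCoatom M) (q : G ⧸ M) :
    IsCoatom (bg14t_cj M q) :=
  Cfsg.Agent.Helper47.isCoatom_map_conj hM _

omit [Finite G] in
theorem bg14t_cj_inj {M : Subgroup G} (hNM : normalizer (M : Set G) = M) {q q' : G ⧸ M}
    (h : bg14t_cj M q = bg14t_cj M q') : q = q' := by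
  have h1 := bg14t_mem_normalizer_of_map_eq h
  rw [hNM] at h1
  calc q = QuotientGroup.mk (Quotient.out q) := (QuotientGroup.out_eq' q).symm
    _ = QuotientGroup.mk (Quotient.out q') := QuotientGroup.eq.mpr h1
    _ = q' := QuotientGroup.out_eq' q'

omit [Finite G] in
theorem bg14t_cj_rel (M : Subgroup G) (q₀ q : G ⧸ M) :
    bg14t_cj M q =
      (bg14t_cj M q₀).map (MulAut.conj (Quotient.out q * (Quotient.out q₀)⁻¹)).toMonoidHom := by
  unfold bg14t_cj
  rw [← bg14t_map_conj_comp, inv_mul_cancel_right]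

/-- The pairs `(x, ρ)` with `x ≠ 1` in the `σ`-core of a conjugate of `M` and `ρ ∈ R(x)`. -/
def bg14t_P1 (M : Subgroup G) (x ρ : G) : Prop :=
  x ≠ 1 ∧ ∃ q : G ⧸ M, x ∈ sigmaCore (bg14t_cj M q) ∧ ρ ∈ supportR (bg14t_cj M q) x

/-- The pairs `(x, q)` with `x ≠ 1` in the `σ`-core of the conjugate of `M` indexed by `q`. -/
def bg14t_P2 (M : Subgroup G) (x : G) (q : G ⧸ M) : Prop :=
  x ≠ 1 ∧ x ∈ sigmaCore (bg14t_cj M q)

/-- Description of `M̃`. -/
theorem bg14t_tilde_iff (hG : IsMinSimpleOddOrder G) {M : Subgroup G} (hM : IsCoatom M) (t : G) :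
    t ∈ tildeOf M ((sigmaCore M : Set G) \ {1}) ↔ ∃ x ρ : G, bg14t_P1 M x ρ ∧ t = x * ρ := by
  constructor
  · rintro ⟨a, ⟨ha, ha1⟩, r, hr, y, rfl⟩
    have ha' : a ∈ sigmaCore M := ha
    have ha1' : a ≠ 1 := fun h => ha1 (Set.mem_singleton_iff.mpr h)
    refine ⟨y * a * y⁻¹, y * r * y⁻¹, ⟨?_, QuotientGroup.mk y, ?_, ?_⟩, by group⟩
    · intro h
      apply ha1'
      have e : a = y⁻¹ * (y * a * y⁻¹) * y := by group
      rw [e, h]; group
    · rw [bg14t_cj_mk, bg14t_mem_sigmaCore_conj]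
      have e : y⁻¹ * (y * a * y⁻¹) * y = a := by group
      rw [e]; exact ha'
    · rw [bg14t_cj_mk, bg14t_supportR_conj hG hM ha' ha1' y, bg14t_mem_map_conj]
      have e : y⁻¹ * (y * r * y⁻¹) * y = r := by group
      rw [e]; exact hr
  · rintro ⟨x, ρ, ⟨hx1, q, hxq, hρ⟩, rfl⟩
    unfold bg14t_cj at hxq hρ
    have ha : (Quotient.out q)⁻¹ * x * Quotient.out q ∈ sigmaCore M :=
      bg14t_mem_sigmaCore_conj.mp hxq
    have ha1 : (Quotient.out q)⁻¹ * x * Quotient.out q ≠ 1 := by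
      intro h
      apply hx1
      have e : x = Quotient.out q * ((Quotient.out q)⁻¹ * x * Quotient.out q) *
          (Quotient.out q)⁻¹ := by group
      rw [e, h]; group
    have h3 := bg14t_supportR_conj hG hM ha ha1 (Quotient.out q)
    have e : Quotient.out q * ((Quotient.out q)⁻¹ * x * Quotient.out q) * (Quotient.out q)⁻¹ =
        x := by group
    rw [e] at h3
    rw [h3, bg14t_mem_map_conj] at hρ
    refine ⟨(Quotient.out q)⁻¹ * x * Quotient.out q,
      ⟨ha, fun h => ha1 (Set.mem_singleton_iff.mp h)⟩,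
      (Quotient.out q)⁻¹ * ρ * Quotient.out q, hρ, Quotient.out q, by group⟩

/-- The decomposition `t = x ρ` is unique. -/
theorem bg14t_P1_inj (hG : IsMinSimpleOddOrder G) {M : Subgroup G} (hM : IsCoatom M)
    {x ρ x' ρ' : G} (h : bg14t_P1 M x ρ) (h' : bg14t_P1 M x' ρ') (e : x * ρ = x' * ρ') :
    x = x' ∧ ρ = ρ' := by
  by_cases hxx : x = x'
  · subst hxx
    exact ⟨rfl, mul_left_cancel e⟩
  · obtain ⟨hx1, q, hxq, hρ⟩ := h
    obtain ⟨hx1', q', hxq', hρ'⟩ := h'
    exact absurd e (bg14t_1433 hG _ _ (bg14t_cj_coatom hM q) (bg14t_cj_coatom hM q') x x' hxq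
      hxq' hx1 hx1' hxx ρ hρ ρ' hρ')

/-- `|M̃|` is the number of pairs `(x, ρ)`. -/
theorem bg14t_count1 (hG : IsMinSimpleOddOrder G) {M : Subgroup G} (hM : IsCoatom M) :
    Set.ncard (tildeOf M ((sigmaCore M : Set G) \ {1})) =
      Nat.card {p : G × G // bg14t_P1 M p.1 p.2} := by
  rw [← Nat.card_coe_set_eq]
  symm
  apply Nat.card_congr
  refine Equiv.ofBijective
    (fun p => ⟨p.1.1 * p.1.2, (bg14t_tilde_iff hG hM _).mpr ⟨p.1.1, p.1.2, p.2, rfl⟩⟩) ⟨?_, ?_⟩
  · rintro ⟨⟨x, ρ⟩, h⟩ ⟨⟨x', ρ'⟩, h'⟩ e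
    have e' : x * ρ = x' * ρ' := congrArg Subtype.val e
    obtain ⟨rfl, rfl⟩ := bg14t_P1_inj hG hM h h' e'
    rfl
  · rintro ⟨t, ht⟩
    obtain ⟨x, ρ, h, rfl⟩ := (bg14t_tilde_iff hG hM t).mp ht
    exact ⟨⟨(x, ρ), h⟩, rfl⟩

/-- The fibres over `x` of the two sets of pairs have the same size (regular action). -/
theorem bg14t_fiber (hG : IsMinSimpleOddOrder G) {M : Subgroup G} (hM : IsCoatom M) (x : G) :
    Nat.card {ρ : G // bg14t_P1 M x ρ} = Nat.card {q : G ⧸ M // bg14t_P2 M x q} := by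
  by_cases h : ∃ q₀ : G ⧸ M, bg14t_P2 M x q₀
  · obtain ⟨q₀, hx1, hxq₀⟩ := h
    have hM₀ := bg14t_cj_coatom hM q₀
    have hxM₀ : x ∈ bg14t_cj M q₀ := piCoreOf_le (sigma (bg14t_cj M q₀)) _ hxq₀
    have hM1 : M ≠ ⊥ := by
      intro hb
      have h0 : (Quotient.out q₀)⁻¹ * x * Quotient.out q₀ ∈ M := bg14t_mem_map_conj.mp hxM₀
      have h1 := (Subgroup.eq_bot_iff_forall M).mp hb _ h0
      apply hx1
      have e : x = Quotient.out q₀ * ((Quotient.out q₀)⁻¹ * x * Quotient.out q₀) *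
          (Quotient.out q₀)⁻¹ := by group
      rw [e, h1]; group
    have hNM : normalizer (M : Set G) = M := uq_normalizer_eq hG hM hM1 le_rfl le_normalizer
    -- independence of the conjugate
    have hind : ∀ q : G ⧸ M, x ∈ sigmaCore (bg14t_cj M q) →
        supportR (bg14t_cj M q) x = supportR (bg14t_cj M q₀) x := by
      intro q hq
      rw [bg14t_cj_rel M q₀ q] at hq ⊢
      exact bg14t_supportR_indep hG hM₀ hxq₀ hx1 _ hq
    have hmem : ∀ ρ : G, bg14t_P1 M x ρ → ρ ∈ supportR (bg14t_cj M q₀) x := by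
      rintro ρ ⟨-, q, hq, hρ⟩
      rw [← hind q hq]; exact hρ
    have hcomm : ∀ ρ : G, bg14t_P1 M x ρ → ρ⁻¹ * x * ρ = x := by
      intro ρ hρ
      have hc := bg14t_supp_comm hG hM₀ hxq₀ hx1 (hmem ρ hρ)
      rw [mul_assoc, hc.eq, inv_mul_cancel_left]
    have hcjρ : ∀ ρ : G, bg14t_cj M (QuotientGroup.mk (ρ * Quotient.out q₀)) =
        (bg14t_cj M q₀).map (MulAut.conj ρ).toMonoidHom := by
      intro ρ
      rw [bg14t_cj_mk, bg14t_map_conj_comp]
      rfl
    have hF : ∀ ρ : G, bg14t_P1 M x ρ →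
        bg14t_P2 M x (QuotientGroup.mk (ρ * Quotient.out q₀)) := by
      intro ρ hρ
      refine ⟨hx1, ?_⟩
      rw [hcjρ, bg14t_mem_sigmaCore_conj, hcomm ρ hρ]
      exact hxq₀
    apply Nat.card_congr
    refine Equiv.ofBijective
      (fun ρ => ⟨QuotientGroup.mk (ρ.1 * Quotient.out q₀), hF ρ.1 ρ.2⟩) ⟨?_, ?_⟩
    · rintro ⟨ρ₁, h₁⟩ ⟨ρ₂, h₂⟩ e
      have e' : (QuotientGroup.mk (ρ₁ * Quotient.out q₀) : G ⧸ M) =
          QuotientGroup.mk (ρ₂ * Quotient.out q₀) := congrArg Subtype.val e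
      have e2 : (bg14t_cj M q₀).map (MulAut.conj ρ₁).toMonoidHom =
          (bg14t_cj M q₀).map (MulAut.conj ρ₂).toMonoidHom := by
        rw [← hcjρ, ← hcjρ, e']
      have hin : x ∈ (bg14t_cj M q₀).map (MulAut.conj ρ₁).toMonoidHom := by
        rw [bg14t_mem_map_conj, hcomm ρ₁ h₁]; exact hxM₀
      obtain ⟨r, -, hr⟩ := bg14t_regular hG hM₀ hxq₀ hx1 ρ₁ hin
      have h1 := hr ρ₁ ⟨hmem ρ₁ h₁, rfl⟩
      have h2 := hr ρ₂ ⟨hmem ρ₂ h₂, e2.symm⟩
      apply Subtype.ext
      show ρ₁ = ρ₂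
      rw [h1, h2]
    · rintro ⟨q, hq1, hq⟩
      have hrel := bg14t_cj_rel M q₀ q
      have hin : x ∈ (bg14t_cj M q₀).map
          (MulAut.conj (Quotient.out q * (Quotient.out q₀)⁻¹)).toMonoidHom := by
        rw [← hrel]; exact piCoreOf_le (sigma (bg14t_cj M q)) _ hq
      obtain ⟨r, ⟨hr, hrg⟩, -⟩ := bg14t_regular hG hM₀ hxq₀ hx1 _ hin
      refine ⟨⟨r, hx1, q₀, hxq₀, hr⟩, ?_⟩
      apply Subtype.ext
      show (QuotientGroup.mk (r * Quotient.out q₀) : G ⧸ M) = q
      apply bg14t_cj_inj hNM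
      rw [hcjρ, hrg, ← hrel]
  · have h1 : IsEmpty {ρ : G // bg14t_P1 M x ρ} :=
      ⟨fun ⟨_, hx1, q, hxq, _⟩ => h ⟨q, hx1, hxq⟩⟩
    have h2 : IsEmpty {q : G ⧸ M // bg14t_P2 M x q} := ⟨fun ⟨q, hq⟩ => h ⟨q, hq⟩⟩
    rw [Nat.card_of_isEmpty, Nat.card_of_isEmpty]

/-- The number of pairs `(x, q)`. -/
theorem bg14t_count2 (M : Subgroup G) :
    Nat.card {p : G × (G ⧸ M) // bg14t_P2 M p.1 p.2} =
      (Nat.card (sigmaCore M) - 1) * M.index := by
  have := Fintype.ofFinite (G ⧸ M)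
  have e1 : {p : G × (G ⧸ M) // bg14t_P2 M p.1 p.2} ≃ Σ q : G ⧸ M, {x : G // bg14t_P2 M x q} :=
    ((Equiv.prodComm G (G ⧸ M)).subtypeEquiv (p := fun p => bg14t_P2 M p.1 p.2)
      (q := fun p => bg14t_P2 M p.2 p.1) (by intro a; rfl)).trans
      (Equiv.subtypeProdEquivSigmaSubtype (fun (q : G ⧸ M) (x : G) => bg14t_P2 M x q))
  rw [Nat.card_congr e1, Nat.card_sigma]
  have hfib : ∀ q : G ⧸ M, Nat.card {x : G // bg14t_P2 M x q} = Nat.card (sigmaCore M) - 1 := by
    intro q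
    have hset : {x : G | bg14t_P2 M x q} = (sigmaCore (bg14t_cj M q) : Set G) \ {1} := by
      ext z
      simp only [bg14t_P2, Set.mem_ofPred_eq, Set.mem_sdiff, SetLike.mem_coe,
        Set.mem_singleton_iff]
      exact and_comm
    have h1 : Nat.card {x : G // bg14t_P2 M x q} = Set.ncard {x : G | bg14t_P2 M x q} :=
      Nat.card_coe_set_eq _
    rw [h1, hset, Set.ncard_sdiff_singleton_of_mem (SetLike.mem_coe.mpr (one_mem _))]
    have h2 : Set.ncard (sigmaCore (bg14t_cj M q) : Set G) = Nat.card (sigmaCore (bg14t_cj M q)) :=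
      (Nat.card_coe_set_eq _).symm
    rw [h2]
    unfold bg14t_cj
    rw [bg14t_sigmaCore_conj, bg14t_card_map_conj]
  rw [Finset.sum_congr rfl (fun q _ => hfib q), Finset.sum_const, Finset.card_univ, smul_eq_mul,
    mul_comm, ← Nat.card_eq_fintype_card]
  rfl

/-- **S1377**: `|M̃| = (|M_σ| - 1) |G : M|`. -/
theorem bg14t_1377 (hG : IsMinSimpleOddOrder G) (M : Subgroup G) (hM : IsCoatom M) :
    Set.ncard (tildeOf M ((sigmaCore M : Set G) \ {1})) =
      (Nat.card (sigmaCore M) - 1) * M.index := by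
  have := Fintype.ofFinite G
  rw [bg14t_count1 hG hM, ← bg14t_count2 M,
    Nat.card_congr (Equiv.subtypeProdEquivSigmaSubtype (bg14t_P1 M)),
    Nat.card_congr (Equiv.subtypeProdEquivSigmaSubtype (bg14t_P2 M)), Nat.card_sigma,
    Nat.card_sigma]
  exact Finset.sum_congr rfl (fun x _ => bg14t_fiber hG hM x)

end Cfsg.Agent.Helper54
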