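/-
helper54: B&G Section 14, further facts on the sets `M̃` (`tildeOf M (M_σ \ {1})`): they are
disjoint for non-conjugate maximal subgroups, and the decomposition `t = x ρ` of their elements.
-/
import Cfsg.Agent.Helper54.BG14T4

set_option autoImplicit false

namespace Cfsg.Agent.Helper54

open Cfsg Subgroup Cfsg.Agent.Helper22 Cfsg.Agent.Helper23 Cfsg.Agent.Helper35

universe u

variable {G : Type u} [Group G] [Finite G]

/-- The primes of `|R(x)|` lie outside `σ(M)`. -/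
theorem bg14t_supp_sigma' (hG : IsMinSimpleOddOrder G) {M : Subgroup G} (hM : IsCoatom M) {x : G}
    (hx : x ∈ sigmaCore M) (hx1 : x ≠ 1) {q : ℕ} (hq : q.Prime)
    (hd : q ∣ Nat.card (supportR M x)) : q ∉ sigma M := by
  have hσp : BGSigmaPart G := (Cfsg.Agent.S1378.result hG).2
  obtain ⟨h1, h2⟩ := bg14t_supportR hG hM hx hx1
  by_cases hC : centralizer ({x} : Set G) ≤ M
  · rw [h1 hC, Subgroup.card_bot] at hd
    exact absurd (Nat.dvd_one.mp hd) hq.one_lt.ne'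
  · obtain ⟨L, hL, hnc, -, -, -, hs⟩ := h2 hC
    rw [hs] at hd
    have hqL : q ∈ sigma L :=
      mem_of_dvd_card_piCoreOf (sigma L) L hq (hd.trans (Subgroup.card_dvd_of_le inf_le_left))
    intro hqM
    obtain ⟨g, hg⟩ := hσp M L hM hL ⟨q, hqM, hqL⟩
    exact hnc g hg

/-- The primes of the order of an element of `R(x)` lie outside `σ(M)`. -/
theorem bg14t_supp_order_sigma' (hG : IsMinSimpleOddOrder G) {M : Subgroup G} (hM : IsCoatom M)
    {x ρ : G} (hx : x ∈ sigmaCore M) (hx1 : x ≠ 1) (hρ : ρ ∈ supportR M x) {q : ℕ}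
    (hq : q.Prime) (hd : q ∣ orderOf ρ) : q ∉ sigma M := by
  apply bg14t_supp_sigma' hG hM hx hx1 hq
  have h' := orderOf_dvd_natCard (⟨ρ, hρ⟩ : supportR M x)
  rw [Subgroup.orderOf_mk] at h'
  exact hd.trans h'

/-- The decomposition of the elements of `M̃`: `t = x ρ` with `x ≠ 1` in the `σ`-core of a
conjugate of `M` (a `σ(M)`-element) and `ρ ∈ R(x)` (a `σ(M)'`-element); `x` and `ρ` commute,
have coprime orders and are powers of `t`. -/
theorem bg14t_tilde_parts (hG : IsMinSimpleOddOrder G) {M : Subgroup G} (hM : IsCoatom M) {t : G}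
    (ht : t ∈ tildeOf M ((sigmaCore M : Set G) \ {1})) :
    ∃ x ρ g : G, x ≠ 1 ∧ x ∈ sigmaCore (M.map (MulAut.conj g).toMonoidHom) ∧
      ρ ∈ supportR (M.map (MulAut.conj g).toMonoidHom) x ∧ t = x * ρ ∧ Commute x ρ ∧
      (orderOf x).Coprime (orderOf ρ) ∧ x ∈ zpowers t ∧ ρ ∈ zpowers t ∧
      (∀ q : ℕ, q.Prime → q ∣ orderOf x → q ∈ sigma M) ∧
      (∀ q : ℕ, q.Prime → q ∣ orderOf ρ → q ∉ sigma M) := by
  obtain ⟨x, ρ, ⟨hx1, q, hxq, hρ⟩, rfl⟩ := (bg14t_tilde_iff hG hM t).mp ht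
  have hMq := bg14t_cj_coatom hM q
  have hc := bg14t_supp_comm hG hMq hxq hx1 hρ
  have hcop := bg14t_supp_coprime hG hMq hxq hx1 hρ
  obtain ⟨hxz, hρz⟩ := bg14t_mem_zpowers_mul hc hcop
  have hσ : sigma (bg14t_cj M q) = sigma M := bg14t_sigma_conj M _
  refine ⟨x, ρ, Quotient.out q, hx1, hxq, hρ, rfl, hc, hcop, hxz, hρz, ?_, ?_⟩
  · intro s hs hd
    rw [← hσ]
    exact bg14t_mem_sigma_of_dvd hxq hs hd
  · intro s hs hd
    rw [← hσ]
    exact bg14t_supp_order_sigma' hG hMq hxq hx1 hρ hs hd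

/-- `M̃ ∩ Ñ = ∅` for non-conjugate maximal subgroups `M`, `N`. -/
theorem bg14t_tilde_disjoint (hG : IsMinSimpleOddOrder G) {M N : Subgroup G} (hM : IsCoatom M)
    (hN : IsCoatom N) (hnc : ∀ g : G, N ≠ M.map (MulAut.conj g).toMonoidHom) :
    tildeOf M ((sigmaCore M : Set G) \ {1}) ∩ tildeOf N ((sigmaCore N : Set G) \ {1}) = ∅ := by
  have hσp : BGSigmaPart G := (Cfsg.Agent.S1378.result hG).2
  rw [Set.eq_empty_iff_forall_notMem]
  rintro t ⟨ht, ht'⟩
  obtain ⟨x, ρ, ⟨hx1, q, hxq, hρ⟩, rfl⟩ := (bg14t_tilde_iff hG hM t).mp ht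
  obtain ⟨x', ρ', ⟨hx1', q', hxq', hρ'⟩, e⟩ := (bg14t_tilde_iff hG hN _).mp ht'
  by_cases hxx : x = x'
  · subst hxx
    have hn1 : orderOf x ≠ 1 := fun h => hx1 (orderOf_eq_one_iff.mp h)
    have hs := Nat.minFac_prime hn1
    have hsd := Nat.minFac_dvd (orderOf x)
    have h1 : (orderOf x).minFac ∈ sigma M := by
      rw [← bg14t_sigma_conj M (Quotient.out q)]
      exact bg14t_mem_sigma_of_dvd hxq hs hsd
    have h2 : (orderOf x).minFac ∈ sigma N := by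
      rw [← bg14t_sigma_conj N (Quotient.out q')]
      exact bg14t_mem_sigma_of_dvd hxq' hs hsd
    obtain ⟨g, hg⟩ := hσp M N hM hN ⟨_, h1, h2⟩
    exact hnc g hg
  · exact bg14t_1433 hG _ _ (bg14t_cj_coatom hM q) (bg14t_cj_coatom hN q') x x' hxq hxq' hx1 hx1'
      hxx ρ hρ ρ' hρ' e

end Cfsg.Agent.Helper54
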