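/-
helper54: B&G Section 14, "Lemma S": for a maximal subgroup `M` of a minimal simple group of odd
order, the number of elements of `G` with non-trivial `σ(M)`-part is `|G : M|` times the number of
such elements of `M`.
-/
import Cfsg.Agent.Helper54.BG14T5
import Cfsg.Agent.S1425

set_option autoImplicit false

namespace Cfsg.Agent.Helper54

open Cfsg Subgroup Cfsg.Agent.Helper22 Cfsg.Agent.Helper23 Cfsg.Agent.Helper35

universe u

variable {G : Type u} [Group G]

/-- `g` is a `π`-element. -/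
def bg14s_isPi (π : Set ℕ) (g : G) : Prop := ∀ q : ℕ, q.Prime → q ∣ orderOf g → q ∈ π

/-- `g` is a `π'`-element. -/
def bg14s_isPi' (π : Set ℕ) (g : G) : Prop := ∀ q : ℕ, q.Prime → q ∣ orderOf g → q ∉ π

/-- The pairs `(x, y)` in `H`: `x ≠ 1` a `π`-element, `y` a `π'`-element commuting with `x`. -/
def bg14s_PP (π : Set ℕ) (H : Subgroup G) (x y : G) : Prop :=
  x ∈ H ∧ y ∈ H ∧ x ≠ 1 ∧ bg14s_isPi π x ∧ bg14s_isPi' π y ∧ Commute x y

/-- Splitting a positive integer into its `π`-part and its `π'`-part. -/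
theorem bg14s_split (π : Set ℕ) (n : ℕ) (hn : n ≠ 0) :
    ∃ a b : ℕ, n = a * b ∧ (∀ q : ℕ, q.Prime → q ∣ a → q ∈ π) ∧
      (∀ q : ℕ, q.Prime → q ∣ b → q ∉ π) := by
  induction n using Nat.strong_induction_on with
  | _ n ih =>
    by_cases h1 : n = 1
    · refine ⟨1, 1, by rw [h1], fun q hq h => absurd (Nat.dvd_one.mp h) hq.one_lt.ne',
        fun q hq h => absurd (Nat.dvd_one.mp h) hq.one_lt.ne'⟩
    · have hp := Nat.minFac_prime h1
      have hpd := Nat.minFac_dvd n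
      have hn' : n = n.minFac * (n / n.minFac) := (Nat.mul_div_cancel' hpd).symm
      have hm0 : n / n.minFac ≠ 0 := by
        intro h0
        rw [h0, mul_zero] at hn'
        exact hn hn'
      have hlt : n / n.minFac < n := Nat.div_lt_self (Nat.pos_of_ne_zero hn) hp.one_lt
      obtain ⟨a, b, hm, ha, hb⟩ := ih (n / n.minFac) hlt hm0
      by_cases hpπ : n.minFac ∈ π
      · refine ⟨n.minFac * a, b, ?_, ?_, hb⟩
        · rw [mul_assoc, ← hm]; exact hn'
        · intro q hq hd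
          rcases hq.dvd_mul.mp hd with h | h
          · rw [(Nat.prime_dvd_prime_iff_eq hq hp).mp h]; exact hpπ
          · exact ha q hq h
      · refine ⟨a, n.minFac * b, ?_, ha, ?_⟩
        · rw [mul_left_comm, ← hm]; exact hn'
        · intro q hq hd
          rcases hq.dvd_mul.mp hd with h | h
          · rw [(Nat.prime_dvd_prime_iff_eq hq hp).mp h]; exact hpπ
          · exact hb q hq h

/-- Uniqueness of the decomposition into commuting `π`- and `π'`-parts. -/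
theorem bg14s_unique {π : Set ℕ} {x y x' y' : G} (hxy : Commute x y) (hxy' : Commute x' y')
    (hx : bg14s_isPi π x) (hy : bg14s_isPi' π y) (hx' : bg14s_isPi π x')
    (hy' : bg14s_isPi' π y') (e : x * y = x' * y') : x = x' ∧ y = y' := by
  have hcop : (orderOf x).Coprime (orderOf y) :=
    Nat.coprime_of_dvd (fun q hq h1 h2 => hy q hq h2 (hx q hq h1))
  have hcop' : (orderOf x').Coprime (orderOf y') :=
    Nat.coprime_of_dvd (fun q hq h1 h2 => hy' q hq h2 (hx' q hq h1))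
  obtain ⟨hxz, hyz⟩ := bg14t_mem_zpowers_mul hxy hcop
  obtain ⟨hxz', hyz'⟩ := bg14t_mem_zpowers_mul hxy' hcop'
  rw [← e] at hxz' hyz'
  have c1 : Commute x x' := bg14t_commute_of_mem_zpowers hxz hxz'
  have c2 : Commute y y' := bg14t_commute_of_mem_zpowers hyz hyz'
  have hw : x⁻¹ * x' = y * y'⁻¹ := by
    have e1 : x⁻¹ * x' = x⁻¹ * (x' * y') * y'⁻¹ := by group
    rw [e1, ← e]; group
  have h1 : x⁻¹ * x' = 1 := by
    by_contra hne
    have hn1 : orderOf (x⁻¹ * x') ≠ 1 := fun h => hne (orderOf_eq_one_iff.mp h)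
    have hq := Nat.minFac_prime hn1
    have hqd := Nat.minFac_dvd (orderOf (x⁻¹ * x'))
    have hqd' : (orderOf (x⁻¹ * x')).minFac ∣ orderOf (y * y'⁻¹) := hw ▸ hqd
    have hin : (orderOf (x⁻¹ * x')).minFac ∈ π := by
      rcases bg14t_prime_dvd_inv_mul c1 hq hqd with h | h
      · exact hx _ hq h
      · exact hx' _ hq h
    rcases bg14t_prime_dvd_mul_inv c2 hq hqd' with h | h
    · exact hy _ hq h hin
    · exact hy' _ hq h hin
  have hxx : x' = x := by
    have e2 : x' = x * (x⁻¹ * x') := by group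
    rw [e2, h1, mul_one]
  refine ⟨hxx.symm, ?_⟩
  rw [hxx] at e
  exact mul_left_cancel e

/-- A conjugation transports the pairs. -/
theorem bg14s_PP_conj (π : Set ℕ) (M : Subgroup G) (g x y : G) :
    bg14s_PP π (M.map (MulAut.conj g).toMonoidHom) (MulAut.conj g x) (MulAut.conj g y) ↔
      bg14s_PP π M x y := by
  unfold bg14s_PP bg14s_isPi bg14s_isPi'
  rw [Subgroup.mem_map_equiv, Subgroup.mem_map_equiv, MulEquiv.symm_apply_apply,
    MulEquiv.symm_apply_apply, MulEquiv.orderOf_eq, MulEquiv.orderOf_eq, commute_iff_eq,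
    commute_iff_eq, ← map_mul, ← map_mul, (MulAut.conj g).injective.eq_iff, Ne,
    EmbeddingLike.map_eq_one_iff]

variable [Finite G]

/-- Existence of the decomposition into `π`- and `π'`-parts. -/
theorem bg14s_decomp (π : Set ℕ) (g : G) :
    ∃ x y : G, x ∈ zpowers g ∧ y ∈ zpowers g ∧ g = x * y ∧ bg14s_isPi π x ∧
      bg14s_isPi' π y := by
  obtain ⟨a, b, hab, ha, hb⟩ := bg14s_split π (orderOf g) (orderOf_pos g).ne'
  have hcop : Nat.Coprime a b := Nat.coprime_of_dvd (fun q hq h1 h2 => hb q hq h2 (ha q hq h1))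
  have hbez := Nat.gcd_eq_gcd_ab a b
  rw [hcop.gcd_eq_one] at hbez
  have hxm : (g ^ b) ^ (Nat.gcdB a b) ∈ zpowers g := zpow_mem (pow_mem (mem_zpowers g) b) _
  have hym : (g ^ a) ^ (Nat.gcdA a b) ∈ zpowers g := zpow_mem (pow_mem (mem_zpowers g) a) _
  refine ⟨(g ^ b) ^ (Nat.gcdB a b), (g ^ a) ^ (Nat.gcdA a b), hxm, hym, ?_, ?_, ?_⟩
  · have h1 : g = g ^ ((a : ℤ) * Nat.gcdA a b + (b : ℤ) * Nat.gcdB a b) := by
      rw [← hbez]; simp
    have h2 : g ^ ((a : ℤ) * Nat.gcdA a b + (b : ℤ) * Nat.gcdB a b) =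
        (g ^ a) ^ (Nat.gcdA a b) * (g ^ b) ^ (Nat.gcdB a b) := by
      rw [zpow_add, zpow_mul, zpow_mul, zpow_natCast, zpow_natCast]
    rw [(bg14t_commute_of_mem_zpowers hxm hym).eq, ← h2]
    exact h1
  · intro q hq hd
    apply ha q hq
    apply hd.trans
    apply orderOf_dvd_of_pow_eq_one
    have h0 : (g ^ b) ^ a = 1 := by rw [← pow_mul, mul_comm, ← hab, pow_orderOf_eq_one]
    rw [← zpow_natCast ((g ^ b) ^ (Nat.gcdB a b)) a, ← zpow_mul, mul_comm, zpow_mul, zpow_natCast,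
      h0, one_zpow]
  · intro q hq hd
    apply hb q hq
    apply hd.trans
    apply orderOf_dvd_of_pow_eq_one
    have h0 : (g ^ a) ^ b = 1 := by rw [← pow_mul, ← hab, pow_orderOf_eq_one]
    rw [← zpow_natCast ((g ^ a) ^ (Nat.gcdA a b)) b, ← zpow_mul, mul_comm, zpow_mul, zpow_natCast,
      h0, one_zpow]

/-- The elements of `H` with non-trivial `π`-part correspond to the pairs. -/
theorem bg14s_card_pairs (π : Set ℕ) (H : Subgroup G) :
    Set.ncard {g : G | g ∈ H ∧ ¬ bg14s_isPi' π g} =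
      Nat.card {p : G × G // bg14s_PP π H p.1 p.2} := by
  have hmap : ∀ p : G × G, bg14s_PP π H p.1 p.2 →
      p.1 * p.2 ∈ {g : G | g ∈ H ∧ ¬ bg14s_isPi' π g} := by
    rintro ⟨x, y⟩ ⟨hxH, hyH, hx1, hx, hy, hc⟩
    refine ⟨H.mul_mem hxH hyH, fun h => ?_⟩
    have hcop : (orderOf x).Coprime (orderOf y) :=
      Nat.coprime_of_dvd (fun q hq h1 h2 => hy q hq h2 (hx q hq h1))
    obtain ⟨hxz, -⟩ := bg14t_mem_zpowers_mul hc hcop
    have hn1 : orderOf x ≠ 1 := fun h => hx1 (orderOf_eq_one_iff.mp h)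
    have hq := Nat.minFac_prime hn1
    have hqd := Nat.minFac_dvd (orderOf x)
    exact h _ hq (hqd.trans (orderOf_dvd_of_mem_zpowers hxz)) (hx _ hq hqd)
  rw [← Nat.card_coe_set_eq]
  symm
  apply Nat.card_congr
  refine Equiv.ofBijective (fun p => ⟨p.1.1 * p.1.2, hmap p.1 p.2⟩) ⟨?_, ?_⟩
  · rintro ⟨⟨x, y⟩, h⟩ ⟨⟨x', y'⟩, h'⟩ e
    have e' : x * y = x' * y' := congrArg Subtype.val e
    obtain ⟨rfl, rfl⟩ := bg14s_unique h.2.2.2.2.2 h'.2.2.2.2.2 h.2.2.2.1 h.2.2.2.2.1 h'.2.2.2.1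
      h'.2.2.2.2.1 e'
    rfl
  · rintro ⟨g, hgH, hg⟩
    obtain ⟨x, y, hxz, hyz, hgxy, hx, hy⟩ := bg14s_decomp π g
    have hzH : zpowers g ≤ H := zpowers_le.mpr hgH
    have hx1 : x ≠ 1 := by
      rintro rfl
      apply hg
      rw [hgxy, one_mul]; exact hy
    exact ⟨⟨(x, y), hzH hxz, hzH hyz, hx1, hx, hy, bg14t_commute_of_mem_zpowers hxz hyz⟩,
      Subtype.ext hgxy.symm⟩

omit [Finite G] in
/-- Elements of a product `H R` (with `H` normalizing `R`) of two `π'`-groups are `π'`-elements. -/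
theorem bg14s_isPi'_of_mem_sup {π : Set ℕ} {H R : Subgroup G} (hn : H ≤ normalizer (R : Set G))
    (hH : ∀ q : ℕ, q.Prime → q ∣ Nat.card H → q ∉ π)
    (hR : ∀ q : ℕ, q.Prime → q ∣ Nat.card R → q ∉ π) {z : G} (hz : z ∈ H ⊔ R) :
    bg14s_isPi' π z := by
  intro q hq hd
  have h1 := Helper51.card_sup_mul_card_inf_of_le_normalizer H R hn
  have h2 : q ∣ Nat.card ↥(H ⊔ R) := by
    apply hd.trans
    have h' := orderOf_dvd_natCard (⟨z, hz⟩ : ↥(H ⊔ R))
    rwa [Subgroup.orderOf_mk] at h'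
  have h3 : q ∣ Nat.card H * Nat.card R := by
    rw [← h1]; exact Dvd.dvd.mul_right h2 _
  rcases hq.dvd_mul.mp h3 with h | h
  · exact hH q hq h
  · exact hR q hq h

/-- The `σ(M)'`-elements of `C_G(x)`: there are `|R(x)|` times as many as in `C_M(x)`. -/
theorem bg14s_cent_count (hG : IsMinSimpleOddOrder G) {M : Subgroup G} (hM : IsCoatom M) {x : G}
    (hx : x ∈ sigmaCore M) (hx1 : x ≠ 1) :
    Nat.card {y : G // bg14s_isPi' (sigma M) y ∧ Commute x y} =
      Nat.card (supportR M x) *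
        Nat.card {c : G // c ∈ M ∧ bg14s_isPi' (sigma M) c ∧ Commute x c} := by
  obtain ⟨hnorm, hcc⟩ := bg14t_supp_compl hG hM hx hx1
  have hRπ : ∀ q : ℕ, q.Prime → q ∣ Nat.card (supportR M x) → q ∉ sigma M :=
    fun q hq hd => bg14t_supp_sigma' hG hM hx hx1 hq hd
  have hcm : ∀ z : G, Commute x z → z ∈ centralizer ({x} : Set G) := fun z h =>
    bg14t_mem_cent.mpr h.eq
  have key : ∀ c r : G, c ∈ centralizer ({x} : Set G) → bg14s_isPi' (sigma M) c →
      r ∈ supportR M x → bg14s_isPi' (sigma M) (c * r) := by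
    intro c r hc hcπ hr
    apply bg14s_isPi'_of_mem_sup (H := zpowers c) (R := supportR M x)
    · exact (zpowers_le.mpr hc).trans hnorm
    · intro q hq hd
      rw [Nat.card_zpowers] at hd
      exact hcπ q hq hd
    · exact hRπ
    · exact mul_mem (mem_sup_left (mem_zpowers c)) (mem_sup_right hr)
  have hwd : ∀ p : ↥(supportR M x) × {c : G // c ∈ M ∧ bg14s_isPi' (sigma M) c ∧ Commute x c},
      bg14s_isPi' (sigma M) (p.2.1 * p.1.1) ∧ Commute x (p.2.1 * p.1.1) := fun p =>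
    ⟨key _ _ (hcm _ p.2.2.2.2) p.2.2.2.1 p.1.2,
      p.2.2.2.2.mul_right (bg14t_supp_comm hG hM hx hx1 p.1.2)⟩
  rw [← Nat.card_prod]
  symm
  apply Nat.card_congr
  refine Equiv.ofBijective (fun p => ⟨p.2.1 * p.1.1, hwd p⟩) ⟨?_, ?_⟩
  · rintro ⟨⟨r, hr⟩, ⟨c, hcM, hcπ, hcx⟩⟩ ⟨⟨r', hr'⟩, ⟨c', hcM', hcπ', hcx'⟩⟩ e
    have e' : c * r = c' * r' := congrArg Subtype.val e
    have h1 : c'⁻¹ * c = r' * r⁻¹ := by
      have e2 : c'⁻¹ * c = c'⁻¹ * (c * r) * r⁻¹ := by group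
      rw [e2, e']; group
    have h2 : c'⁻¹ * c ∈ M := M.mul_mem (M.inv_mem hcM') hcM
    have h3 : c'⁻¹ * c ∈ centralizer ({x} : Set G) :=
      mul_mem (inv_mem (hcm c' hcx')) (hcm c hcx)
    have h4 : c'⁻¹ * c ∈ supportR M x := by
      rw [h1]; exact mul_mem hr' (inv_mem hr)
    have h5 : c'⁻¹ * c ∈ (M ⊓ centralizer ({x} : Set G)) ⊓ supportR M x := ⟨⟨h2, h3⟩, h4⟩
    rw [hcc.2.2.1, mem_bot] at h5
    have hc : c = c' := by
      have e3 : c = c' * (c'⁻¹ * c) := by group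
      rw [e3, h5, mul_one]
    subst hc
    have hrr : r = r' := mul_left_cancel e'
    subst hrr
    rfl
  · rintro ⟨y, hyπ, hyx⟩
    have hyC := hcm y hyx
    obtain ⟨a, ha, b, hb, hyab⟩ := hcc.2.2.2 y hyC
    have haπ : bg14s_isPi' (sigma M) a := by
      apply bg14s_isPi'_of_mem_sup (H := zpowers y) (R := supportR M x)
      · exact (zpowers_le.mpr hyC).trans hnorm
      · intro q hq hd
        rw [Nat.card_zpowers] at hd
        exact hyπ q hq hd
      · exact hRπ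
      · have e : a = y * b⁻¹ := by rw [hyab]; group
        rw [e]
        exact mul_mem (mem_sup_left (mem_zpowers y)) (mem_sup_right (inv_mem hb))
    have hxa : Commute x a := bg14t_mem_cent.mp ha.2
    exact ⟨⟨⟨b, hb⟩, ⟨a, ha.1, haπ, hxa⟩⟩, Subtype.ext hyab.symm⟩

/-- `R(x)` is the same for all conjugates (indexed by cosets) whose `σ`-core contains `x`. -/
theorem bg14s_cj_supp_indep (hG : IsMinSimpleOddOrder G) {M : Subgroup G} (hM : IsCoatom M)
    {x : G} (hx1 : x ≠ 1) {q₀ q : G ⧸ M} (h₀ : x ∈ sigmaCore (bg14t_cj M q₀))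
    (h : x ∈ sigmaCore (bg14t_cj M q)) :
    supportR (bg14t_cj M q) x = supportR (bg14t_cj M q₀) x := by
  rw [bg14t_cj_rel M q₀ q] at h ⊢
  exact bg14t_supportR_indep hG (bg14t_cj_coatom hM q₀) h₀ hx1 _ h

/-- `|R(x)|` is the number of conjugates of `M` whose `σ`-core contains `x`. -/
theorem bg14s_card_supp (hG : IsMinSimpleOddOrder G) {M : Subgroup G} (hM : IsCoatom M) {x : G}
    {q₀ : G ⧸ M} (h₀ : bg14t_P2 M x q₀) :
    Nat.card (supportR (bg14t_cj M q₀) x) = Nat.card {q : G ⧸ M // bg14t_P2 M x q} := by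
  rw [← bg14t_fiber hG hM x]
  apply Nat.card_congr
  refine Equiv.subtypeEquivRight ?_
  intro ρ
  constructor
  · intro hρ
    exact ⟨h₀.1, q₀, h₀.2, hρ⟩
  · rintro ⟨-, q, hq, hρ⟩
    rw [← bg14s_cj_supp_indep hG hM h₀.1 h₀.2 hq]
    exact hρ

/-- A non-identity `σ(M)`-element lies in the `σ`-core of a conjugate of `M`. -/
theorem bg14s_exists_cj (hG : IsMinSimpleOddOrder G) {M : Subgroup G} (hM : IsCoatom M) {x : G}
    (hx1 : x ≠ 1) (hx : bg14s_isPi (sigma M) x) : ∃ q : G ⧸ M, bg14t_P2 M x q := by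
  have hY1 : zpowers x ≠ ⊥ := by
    rw [Ne, zpowers_eq_bot]; exact hx1
  obtain ⟨g, hg⟩ := Cfsg.Agent.S1425.result hG M hM (zpowers x) hY1
    (fun p hp hd => hx p hp (by rwa [Nat.card_zpowers] at hd))
  refine ⟨QuotientGroup.mk g⁻¹, hx1, ?_⟩
  rw [bg14t_cj_mk, bg14t_mem_sigmaCore_conj]
  apply hg
  rw [bg14t_mem_map_conj]
  have e : g⁻¹ * (g⁻¹⁻¹ * x * g⁻¹) * g = x := by group
  rw [e]; exact mem_zpowers x

/-- A `σ(M)`-element of `M` lies in `M_σ`. -/
theorem bg14s_mem_sigmaCore (hG : IsMinSimpleOddOrder G) {M : Subgroup G} (hM : IsCoatom M)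
    {x : G} (hxM : x ∈ M) (hx : bg14s_isPi (sigma M) x) : x ∈ sigmaCore M := by
  have hU : BGUniq G := fun K hK h1 h2 => Cfsg.Agent.S1403.result hG K hK h1 h2
  obtain ⟨hσhall, -, -⟩ := bg10_sigma_hall hG hU hM
  have h : zpowers x ≤ sigmaCore M := by
    refine bg12_le_of_coprime_relIndex (piCoreOf_le _ _) (zpowers_le.mpr hxM)
      ((zpowers_le.mpr hxM).trans (le_normalizer_piCoreOf _ _)) ?_
    rw [Nat.card_zpowers]
    apply Nat.coprime_of_dvd
    intro q hq h1 h2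
    exact hσhall.2.2 q hq (hx q hq h1) h2
  exact h (mem_zpowers x)

/-- Membership in the `σ`-core of a conjugate, for non-identity elements. -/
theorem bg14s_P2_iff (hG : IsMinSimpleOddOrder G) {M : Subgroup G} (hM : IsCoatom M) (x : G)
    (q : G ⧸ M) :
    bg14t_P2 M x q ↔ (x ∈ bg14t_cj M q ∧ x ≠ 1 ∧ bg14s_isPi (sigma M) x) := by
  have hσ : sigma (bg14t_cj M q) = sigma M := bg14t_sigma_conj M _
  constructor
  · rintro ⟨hx1, hxq⟩
    refine ⟨piCoreOf_le (sigma (bg14t_cj M q)) _ hxq, hx1, fun s hs hd => ?_⟩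
    rw [← hσ]
    exact bg14t_mem_sigma_of_dvd hxq hs hd
  · rintro ⟨hxq, hx1, hx⟩
    refine ⟨hx1, bg14s_mem_sigmaCore hG (bg14t_cj_coatom hM q) hxq ?_⟩
    rw [hσ]; exact hx

/-- The fibre count: for every `x`, the number of `σ(M)'`-elements commuting with `x` (when `x ≠ 1`
is a `σ(M)`-element) is the sum over the conjugates of `M` of the corresponding numbers. -/
theorem bg14s_fiber (hG : IsMinSimpleOddOrder G) {M : Subgroup G} (hM : IsCoatom M)
    [Fintype (G ⧸ M)] (x : G) :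
    Nat.card {y : G // bg14s_PP (sigma M) ⊤ x y} =
      ∑ q : G ⧸ M, Nat.card {y : G // bg14s_PP (sigma M) (bg14t_cj M q) x y} := by
  classical
  by_cases hx : x ≠ 1 ∧ bg14s_isPi (sigma M) x
  · obtain ⟨hx1, hxπ⟩ := hx
    obtain ⟨q₀, h₀⟩ := bg14s_exists_cj hG hM hx1 hxπ
    have hq : ∀ q : G ⧸ M, Nat.card (supportR (bg14t_cj M q₀) x) *
        Nat.card {y : G // bg14s_PP (sigma M) (bg14t_cj M q) x y} =
        if bg14t_P2 M x q then Nat.card {y : G // bg14s_PP (sigma M) ⊤ x y} else 0 := by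
      intro q
      by_cases h : bg14t_P2 M x q
      · rw [if_pos h]
        have hσ : sigma (bg14t_cj M q) = sigma M := bg14t_sigma_conj M _
        have hcnt := bg14s_cent_count hG (bg14t_cj_coatom hM q) h.2 hx1
        rw [hσ, bg14s_cj_supp_indep hG hM hx1 h₀.2 h.2] at hcnt
        have e1 : Nat.card {y : G // bg14s_PP (sigma M) ⊤ x y} =
            Nat.card {y : G // bg14s_isPi' (sigma M) y ∧ Commute x y} := by
          apply Nat.card_congr
          refine Equiv.subtypeEquivRight ?_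
          intro y
          constructor
          · rintro ⟨-, -, -, -, hy, hc⟩; exact ⟨hy, hc⟩
          · rintro ⟨hy, hc⟩; exact ⟨mem_top x, mem_top y, hx1, hxπ, hy, hc⟩
        have e2 : Nat.card {y : G // bg14s_PP (sigma M) (bg14t_cj M q) x y} =
            Nat.card {c : G // c ∈ bg14t_cj M q ∧ bg14s_isPi' (sigma M) c ∧ Commute x c} := by
          apply Nat.card_congr
          refine Equiv.subtypeEquivRight ?_
          intro y
          constructor
          · rintro ⟨-, hyq, -, -, hy, hc⟩; exact ⟨hyq, hy, hc⟩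
          · rintro ⟨hyq, hy, hc⟩
            exact ⟨piCoreOf_le (sigma (bg14t_cj M q)) _ h.2, hyq, hx1, hxπ, hy, hc⟩
        rw [e1, e2, hcnt]
      · rw [if_neg h]
        have hemp : IsEmpty {y : G // bg14s_PP (sigma M) (bg14t_cj M q) x y} :=
          ⟨fun ⟨y, hxq, _, _, _, _, _⟩ => h ((bg14s_P2_iff hG hM x q).mpr ⟨hxq, hx1, hxπ⟩)⟩
        have h0 : Nat.card {y : G // bg14s_PP (sigma M) (bg14t_cj M q) x y} = 0 :=
          Nat.card_of_isEmpty
        rw [h0, mul_zero]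
    have hc : Nat.card {q : G ⧸ M // bg14t_P2 M x q} =
        (Finset.univ.filter (fun q : G ⧸ M => bg14t_P2 M x q)).card := by
      rw [Nat.card_eq_fintype_card, Fintype.card_subtype]
    have hsum : Nat.card (supportR (bg14t_cj M q₀) x) *
        ∑ q : G ⧸ M, Nat.card {y : G // bg14s_PP (sigma M) (bg14t_cj M q) x y} =
        Nat.card (supportR (bg14t_cj M q₀) x) * Nat.card {y : G // bg14s_PP (sigma M) ⊤ x y} := by
      rw [Finset.mul_sum, Finset.sum_congr rfl (fun q _ => hq q), Finset.sum_ite,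
        Finset.sum_const, Finset.sum_const_zero, add_zero, smul_eq_mul,
        bg14s_card_supp hG hM h₀, hc]
    exact (Nat.eq_of_mul_eq_mul_left Nat.card_pos hsum).symm
  · have h1 : IsEmpty {y : G // bg14s_PP (sigma M) ⊤ x y} :=
      ⟨fun ⟨y, _, _, hx1, hxπ, _, _⟩ => hx ⟨hx1, hxπ⟩⟩
    rw [Nat.card_of_isEmpty]
    symm
    apply Finset.sum_eq_zero
    intro q _
    have h2 : IsEmpty {y : G // bg14s_PP (sigma M) (bg14t_cj M q) x y} :=
      ⟨fun ⟨y, _, _, hx1, hxπ, _, _⟩ => hx ⟨hx1, hxπ⟩⟩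
    exact Nat.card_of_isEmpty

/-- The count of pairs. -/
theorem bg14s_pairs_count (hG : IsMinSimpleOddOrder G) {M : Subgroup G} (hM : IsCoatom M) :
    Nat.card {p : G × G // bg14s_PP (sigma M) ⊤ p.1 p.2} =
      M.index * Nat.card {p : G × G // bg14s_PP (sigma M) M p.1 p.2} := by
  have := Fintype.ofFinite G
  have := Fintype.ofFinite (G ⧸ M)
  have hconj : ∀ q : G ⧸ M, Nat.card {p : G × G // bg14s_PP (sigma M) (bg14t_cj M q) p.1 p.2} =
      Nat.card {p : G × G // bg14s_PP (sigma M) M p.1 p.2} := by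
    intro q
    symm
    apply Nat.card_congr
    refine Equiv.subtypeEquiv ((MulAut.conj (Quotient.out q)).toEquiv.prodCongr
      (MulAut.conj (Quotient.out q)).toEquiv) ?_
    intro a
    exact (bg14s_PP_conj (sigma M) M (Quotient.out q) a.1 a.2).symm
  rw [Nat.card_congr (Equiv.subtypeProdEquivSigmaSubtype (bg14s_PP (sigma M) ⊤)), Nat.card_sigma,
    Finset.sum_congr rfl (fun x _ => bg14s_fiber hG hM x), Finset.sum_comm]
  have hq : ∀ q : G ⧸ M, ∑ x : G, Nat.card {y : G // bg14s_PP (sigma M) (bg14t_cj M q) x y} =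
      Nat.card {p : G × G // bg14s_PP (sigma M) M p.1 p.2} := by
    intro q
    rw [← hconj q,
      Nat.card_congr (Equiv.subtypeProdEquivSigmaSubtype (bg14s_PP (sigma M) (bg14t_cj M q))),
      Nat.card_sigma]
  rw [Finset.sum_congr rfl (fun q _ => hq q), Finset.sum_const, Finset.card_univ, smul_eq_mul,
    ← Nat.card_eq_fintype_card]
  rfl

/-- **Lemma S**: the number of elements of `G` with non-trivial `σ(M)`-part is `|G : M|` times
the number of such elements of `M`. -/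
theorem bg14t_lemmaS (hG : IsMinSimpleOddOrder G) {M : Subgroup G} (hM : IsCoatom M) :
    Set.ncard {g : G | ∃ q ∈ sigma M, q ∣ orderOf g} =
      M.index * Set.ncard {m : G | m ∈ M ∧ ∃ q ∈ sigma M, q ∣ orderOf m} := by
  have key : ∀ g : G, (∃ q ∈ sigma M, q ∣ orderOf g) ↔ ¬ bg14s_isPi' (sigma M) g := by
    intro g
    unfold bg14s_isPi'
    constructor
    · rintro ⟨q, hq, hd⟩ h
      exact h q hq.1 hd hq
    · intro h
      push Not at h
      obtain ⟨q, -, hd, hqπ⟩ := h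
      exact ⟨q, hqπ, hd⟩
  have e1 : {g : G | ∃ q ∈ sigma M, q ∣ orderOf g} =
      {g : G | g ∈ (⊤ : Subgroup G) ∧ ¬ bg14s_isPi' (sigma M) g} := by
    ext g
    exact ⟨fun h => ⟨mem_top g, (key g).mp h⟩, fun h => (key g).mpr h.2⟩
  have e2 : {m : G | m ∈ M ∧ ∃ q ∈ sigma M, q ∣ orderOf m} =
      {g : G | g ∈ M ∧ ¬ bg14s_isPi' (sigma M) g} := by
    ext g
    exact ⟨fun h => ⟨h.1, (key g).mp h.2⟩, fun h => ⟨h.1, (key g).mpr h.2⟩⟩
  rw [e1, e2, bg14s_card_pairs, bg14s_card_pairs, bg14s_pairs_count hG hM]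

/-- **Lemma S**, complement form: the number of `σ(M)'`-elements of `G` is `|G : M|` times the
number of `σ(M)'`-elements of `M`. -/
theorem bg14t_lemmaS' (hG : IsMinSimpleOddOrder G) {M : Subgroup G} (hM : IsCoatom M) :
    Set.ncard {g : G | ∀ q ∈ sigma M, ¬ q ∣ orderOf g} =
      M.index * Set.ncard {m : G | m ∈ M ∧ ∀ q ∈ sigma M, ¬ q ∣ orderOf m} := by
  have hS := bg14t_lemmaS hG hM
  have e1 : {g : G | ∀ q ∈ sigma M, ¬ q ∣ orderOf g} =
      {g : G | ∃ q ∈ sigma M, q ∣ orderOf g}ᶜ := by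
    ext g
    exact ⟨fun h ⟨q, hq, hd⟩ => h q hq hd, fun h q hq hd => h ⟨q, hq, hd⟩⟩
  have e2 : {m : G | m ∈ M ∧ ∀ q ∈ sigma M, ¬ q ∣ orderOf m} =
      (M : Set G) \ {m : G | m ∈ M ∧ ∃ q ∈ sigma M, q ∣ orderOf m} := by
    ext g
    constructor
    · rintro ⟨hg, h⟩
      exact ⟨hg, fun ⟨_, q, hq, hd⟩ => h q hq hd⟩
    · rintro ⟨hg, h⟩
      exact ⟨hg, fun q hq hd => h ⟨hg, q, hq, hd⟩⟩
  have hM' : (M : Set G).ncard = Nat.card M := (Nat.card_coe_set_eq (M : Set G)).symm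
  rw [e1, e2, Set.ncard_compl, Set.ncard_sdiff (fun g hg => hg.1), hS, hM', Nat.mul_sub,
    Subgroup.index_mul_card]

end Cfsg.Agent.Helper54
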