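/-
helper54: piece DJ of CALL BGP (helper23).
-/
import Cfsg.Agent.Helper54.BG14S

set_option autoImplicit false

namespace Cfsg.Agent.Helper54

open Cfsg Subgroup

universe u

variable {G : Type u} [Group G] [Finite G]

/-- DJ. A conjugate of `x₀ * w` (`x₀ ∈ N_σ#` with `C_G(x₀) ≤ N`, `w ≠ 1` a `σ(N)'`-element commuting
with `x₀`) is not in the support `Ñ` of `N_σ#`. -/
theorem bgp_tilde_disj (hG : IsMinSimpleOddOrder G) {N : Subgroup G} (hN : IsCoatom N)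
    {x₀ w g : G} (hx₀ : x₀ ∈ sigmaCore N) (hx₀1 : x₀ ≠ 1)
    (hC : centralizer ({x₀} : Set G) ≤ N) (hcomm : Commute x₀ w) (hw1 : w ≠ 1)
    (hw : ∀ q : ℕ, q.Prime → q ∣ orderOf w → q ∉ sigma N) :
    g * (x₀ * w) * g⁻¹ ∉ tildeOf N ((sigmaCore N : Set G) \ {1}) := by
  intro ht
  obtain ⟨x, ρ, g₀, hx1, hxg, hρ, hteq, hc, -, -, -, hxσ, hρσ⟩ := bg14t_tilde_parts hG hN ht
  -- the two decompositions coincide
  have e0 : g * (x₀ * w) * g⁻¹ = (MulAut.conj g x₀) * (MulAut.conj g w) := by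
    rw [MulAut.conj_apply, MulAut.conj_apply]; group
  have hc' : Commute (MulAut.conj g x₀) (MulAut.conj g w) := hcomm.map (MulAut.conj g)
  have h1 : bg14s_isPi (sigma N) (MulAut.conj g x₀) := by
    intro q hq hd
    rw [MulEquiv.orderOf_eq] at hd
    exact bg14t_mem_sigma_of_dvd hx₀ hq hd
  have h2 : bg14s_isPi' (sigma N) (MulAut.conj g w) := by
    intro q hq hd
    rw [MulEquiv.orderOf_eq] at hd
    exact hw q hq hd
  obtain ⟨ex, eρ⟩ := bg14s_unique (π := sigma N) hc' hc h1 h2 hxσ hρσ (e0.symm.trans hteq)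
  -- `g⁻¹ * g₀ ∈ N`
  have hxN : g₀⁻¹ * x * g₀ ∈ N :=
    Cfsg.Agent.Helper23.piCoreOf_le (sigma N) N (bg14t_mem_sigmaCore_conj.mp hxg)
  have hxN' : (g⁻¹ * g₀)⁻¹ * x₀ * (g⁻¹ * g₀) ∈ N := by
    have e : (g⁻¹ * g₀)⁻¹ * x₀ * (g⁻¹ * g₀) = g₀⁻¹ * x * g₀ := by
      rw [← ex, MulAut.conj_apply]; group
    rw [e]; exact hxN
  obtain ⟨c, hcC, m, hm, hgcm⟩ := bg14t_trans hG hN hx₀ hx₀1 hxN'
  have hgN : g⁻¹ * g₀ ∈ N := by
    rw [hgcm]; exact N.mul_mem (hC hcC) hm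
  have hmap : N.map (MulAut.conj g₀).toMonoidHom = N.map (MulAut.conj g).toMonoidHom := by
    have h := bg14t_map_conj_mul (M := N) (r := g) hgN
    rwa [mul_inv_cancel_left] at h
  -- `C_G(x) ≤ N^g₀`
  have hCx : centralizer ({x} : Set G) ≤ N.map (MulAut.conj g₀).toMonoidHom := by
    intro z hz
    rw [hmap, bg14t_mem_map_conj]
    apply hC
    have hz' : z ∈ centralizer ({g * x₀ * g⁻¹} : Set G) := by
      have e : g * x₀ * g⁻¹ = x := by rw [← ex, MulAut.conj_apply]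
      rw [e]; exact hz
    exact bg14t_mem_cent_conj.mp hz'
  have hbot := (bg14t_supportR hG (Cfsg.Agent.Helper47.isCoatom_map_conj hN g₀) hxg hx1).1 hCx
  rw [hbot, mem_bot] at hρ
  apply hw1
  have e : MulAut.conj g w = 1 := by rw [eρ, hρ]
  exact (EmbeddingLike.map_eq_one_iff (f := MulAut.conj g)).mp e

end Cfsg.Agent.Helper54
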