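/-
helper54: piece HS of CALL BGP (helper23).
-/
import Cfsg.Agent.Helper54.BG14S
import Cfsg.Agent.Helper72.BG13NB8
import Cfsg.Agent.S1425

set_option autoImplicit false

namespace Cfsg.Agent.Helper54

open Cfsg Subgroup Cfsg.Agent.Helper22 Cfsg.Agent.Helper23 Cfsg.Agent.Helper35

universe u

variable {G : Type u} [Group G] [Finite G]

/-- HS. `Ks` is a Hall `σ(M)`-subgroup of `M*`. -/
theorem bgp_sigma_hall (hG : IsMinSimpleOddOrder G) {M Mstar K Ks : Subgroup G}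
    (hM : IsCoatom M) (hMstar : IsCoatom Mstar) (hinter : M ⊓ Mstar = K ⊔ Ks)
    (hKsσ : Ks ≤ sigmaCore M) (hKσ : K ⊓ sigmaCore M = ⊥)
    (hKsC : Ks ≤ centralizer (K : Set G)) (hKs1 : Ks ≠ ⊥)
    (hu : ∀ y ∈ Ks, y ≠ 1 → centralizer ({y} : Set G) ≤ M) :
    IsPiHallOf (sigma M) Ks Mstar := by
  have hKsMs : Ks ≤ Mstar := (le_sup_right.trans hinter.ge).trans inf_le_right
  have hKsπ : ∀ p : ℕ, p.Prime → p ∣ Nat.card Ks → p ∈ sigma M := fun p hp hd =>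
    mem_of_dvd_card_piCoreOf (sigma M) M hp (hd.trans (Subgroup.card_dvd_of_le hKsσ))
  have hsolv : Group.IsSolvable ↥Mstar := uq_isSolvable hG hMstar.1
  obtain ⟨Y, hY, hKsY⟩ := Cfsg.Agent.Helper72.bg13nb_exists_hall_ge hsolv (sigma M) hKsMs hKsπ
  have hY1 : Y ≠ ⊥ := fun h => hKs1 (le_bot_iff.mp (h ▸ hKsY))
  obtain ⟨g, hg⟩ := Cfsg.Agent.S1425.result hG M hM Y hY1 hY.2.1
  -- a non-identity element of `Ks`
  obtain ⟨y, hy, hy1⟩ := (Subgroup.ne_bot_iff_exists_ne_one (H := Ks)).mp hKs1 |>.imp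
    (fun y h => h) |> fun ⟨y, h⟩ => (⟨(y : G), y.2, fun e => h (Subtype.ext e)⟩ :
      ∃ y : G, y ∈ Ks ∧ y ≠ 1)
  have hgy : g * y * g⁻¹ ∈ M := by
    apply piCoreOf_le (sigma M) M
    apply hg
    exact ⟨y, hKsY hy, by simp [MulAut.conj_apply]⟩
  have hgM : g ∈ M := by
    have h1 : (g⁻¹)⁻¹ * y * g⁻¹ ∈ M := by rw [inv_inv]; exact hgy
    obtain ⟨c, hc, m, hm, hgcm⟩ := bg14t_trans hG hM (hKsσ hy) hy1 h1
    have h2 : g⁻¹ ∈ M := by rw [hgcm]; exact M.mul_mem (hu y hy hy1 hc) hm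
    have h3 := M.inv_mem h2
    rwa [inv_inv] at h3
  have hYσ : Y ≤ sigmaCore M := by
    intro z hz
    have h1 : g * z * g⁻¹ ∈ sigmaCore M := hg ⟨z, hz, by simp [MulAut.conj_apply]⟩
    have hn := le_normalizer_piCoreOf (sigma M) M (M.inv_mem hgM)
    have h2 := (mem_normalizer_iff.mp hn (g * z * g⁻¹)).mp h1
    have e : g⁻¹ * (g * z * g⁻¹) * g⁻¹⁻¹ = z := by group
    rwa [e] at h2
  have hYKs : Y ≤ Ks := by
    intro z hz
    have hzσ := hYσ hz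
    have hzM : z ∈ M := piCoreOf_le (sigma M) M hzσ
    have hz2 : z ∈ K ⊔ Ks := by
      rw [← hinter]; exact ⟨hzM, hY.1 hz⟩
    have hn : Ks ≤ normalizer (K : Set G) := hKsC.trans (Subgroup.centralizer_le_normalizer _)
    obtain ⟨k, hk, s, hs, hzks⟩ := exists_mul_of_mem_sup_of_le_normalizer hn hz2
    have hkσ : k ∈ sigmaCore M := by
      have e : k = z * s⁻¹ := by rw [hzks]; group
      rw [e]; exact mul_mem hzσ (inv_mem (hKsσ hs))
    have hk1 : k = 1 := by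
      have h : k ∈ K ⊓ sigmaCore M := ⟨hk, hkσ⟩
      rw [hKσ, mem_bot] at h
      exact h
    rw [hzks, hk1, one_mul]; exact hs
  have hYeq : Y = Ks := le_antisymm hYKs hKsY
  rw [← hYeq]
  exact hY

end Cfsg.Agent.Helper54
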