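/-
helper54: piece ZM of CALL BGP (helper23).
-/
import Cfsg.Agent.Helper23.BG14Zhat
import Cfsg.Agent.Helper54.BG14T5

set_option autoImplicit false

namespace Cfsg.Agent.Helper54

open Cfsg Subgroup

universe u

variable {G : Type u} [Group G] [Finite G]

/-- ZM. `Zhat` meets no conjugate `M^g`, `g ∉ M`. -/
theorem bgp_zhat_not_mem (hG : IsMinSimpleOddOrder G) {M K Ks : Subgroup G} (hM : IsCoatom M)
    (hKsσ : Ks ≤ sigmaCore M) (hKsC : Ks ≤ centralizer (K : Set G))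
    (hcop : (Nat.card K).Coprime (Nat.card Ks))
    (hu : ∀ y ∈ Ks, y ≠ 1 → centralizer ({y} : Set G) ≤ M) :
    ∀ g : G, g ∉ M → ∀ z ∈ ((↑(K ⊔ Ks) : Set G) \ ((K : Set G) ∪ ↑Ks)),
      z ∉ M.map (MulAut.conj g).toMonoidHom := by
  intro g hg z hz hzg
  obtain ⟨-, -, hy, hy1⟩ := Cfsg.Agent.Helper23.bg14_zhat_pow hKsC hcop hz
  have hyg : z ^ Nat.card K ∈ M.map (MulAut.conj g).toMonoidHom := pow_mem hzg _
  rw [bg14t_mem_map_conj] at hyg
  obtain ⟨c, hc, m, hm, hgcm⟩ := bg14t_trans hG hM (hKsσ hy) hy1 hyg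
  apply hg
  rw [hgcm]
  exact M.mul_mem (hu _ hy hy1 hc) hm

end Cfsg.Agent.Helper54
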