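/-
helper54: piece E2 (double) of CALL BG15: if `M_σ` is not nilpotent then `K ≠ 1` and `U = 1`
in a standard factorisation.
-/
import Cfsg.Agent.Helper58.BG15NILU
import Cfsg.Agent.Helper68.BG14R30
import Cfsg.Agent.S1351
import Cfsg.Agent.S1352
import Cfsg.Agent.S1372
import Cfsg.Agent.S1426
import Cfsg.Agent.S1429

set_option autoImplicit false

namespace Cfsg.Agent.Helper54

open Cfsg Subgroup

universe u

section App

variable {G : Type u} [Group G] [Finite G]

/-- E2. If `M_σ` is not nilpotent then `K ≠ 1` and `U = 1` in a standard factorisation. -/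
theorem bg15_chain_KU (hG : IsMinSimpleOddOrder G) (M : Subgroup G) (hM : IsCoatom M)
    (hnn : ¬ Group.IsNilpotent ↥(sigmaCore M)) :
    ∃ K U : Subgroup G, IsSigmaDecomposition M K U ∧ K ≠ ⊥ ∧ U = ⊥ := by
  obtain ⟨⟨K, hK⟩, hcyc⟩ := Cfsg.Agent.S1351.result hG M hM
  obtain ⟨⟨U, hKU⟩, -⟩ := Cfsg.Agent.S1352.result hG M hM K (hcyc K hK) hK
  have hU : U = ⊥ := by
    by_contra hU1
    by_cases hK1 : K = ⊥
    · obtain ⟨p, hp, hpU⟩ : ∃ p : ℕ, p.Prime ∧ p ∣ Nat.card U := by
        have h1 : Nat.card U ≠ 1 := by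
          intro h
          exact hU1 (Subgroup.eq_bot_of_card_eq U h)
        exact ⟨_, Nat.minFac_prime h1, Nat.minFac_dvd _⟩
      haveI := Fact.mk hp
      have hπ := (Cfsg.Agent.Helper68.bg14r_U_hall hG hM hKU).2.1 p hp hpU
      have hpM : p ∣ Nat.card M := hpU.trans (Subgroup.card_dvd_of_le hKU.compl.1)
      have hP1 : ¬ (∀ q : ℕ, q.Prime → q ∣ Nat.card M → q ∉ sigma M → q ∈ kappa M) := by
        intro h
        exact hπ.2.1 (h p hp hpM hπ.2.2)
      have hp' : p ∉ sigma M ∪ kappa M := by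
        rintro (h | h)
        · exact hπ.2.2 h
        · exact hπ.2.1 h
      obtain ⟨S⟩ := (inferInstance : Nonempty (Sylow p ↥M))
      exact hnn (Cfsg.Agent.S1429.result hG M hM hP1 p hpM hp' S).2.2
    · have h := (Cfsg.Agent.S1372.result hG M hM K U hKU hK1 hU1).2.2
      exact hnn (Cfsg.Agent.Helper58.bg15_sigma_nilpotent_of_le_fitting M h)
  refine ⟨K, U, hKU, ?_, hU⟩
  intro hK1
  have hcompl := hKU.compl
  rw [hU, hK1, bot_sup_eq] at hcompl
  have h2 := (Cfsg.Agent.S1426.result hG M hM ⊥ hcompl).2.1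
  have h3 : sigmaCore M = ⊥ := by
    rw [← h2]
    exact Subgroup.commutator_bot_right _
  apply hnn
  apply Cfsg.Agent.Helper58.bg15_sigma_nilpotent_of_le_fitting M
  rw [h3]
  exact bot_le

end App

end Cfsg.Agent.Helper54
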