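/-
helper54: piece KSIG (double) of CALL S1356: K ∩ M_σ = 1 for a Hall κ(M)-subgroup K.
-/
import Mathlib
import Cfsg.Prelude.Def_OddOrderLocal
import Cfsg.Agent.Helper54.BG14T3

set_option autoImplicit false

namespace Cfsg.Agent.Helper54

open Cfsg Subgroup

universe u

variable {G : Type u} [Group G] [Finite G]

/-- KSIG. `K ∩ M_σ = 1` for a Hall `κ(M)`-subgroup. -/
theorem bg56_K_inf_sigma {M K : Subgroup G} (hK : IsPiHallOf (kappa M) K M) :
    K ⊓ sigmaCore M = ⊥ := by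
  rw [Subgroup.eq_bot_iff_forall]
  intro x hx
  obtain ⟨hxK, hxS⟩ := Subgroup.mem_inf.mp hx
  by_contra hx1
  have ho : orderOf x ≠ 1 := fun h => hx1 (orderOf_eq_one_iff.mp h)
  have hq : (orderOf x).minFac.Prime := Nat.minFac_prime ho
  have hd : (orderOf x).minFac ∣ orderOf x := Nat.minFac_dvd _
  have hdK : (orderOf x).minFac ∣ Nat.card K := by
    have h' := orderOf_dvd_natCard (⟨x, hxK⟩ : K)
    rw [Subgroup.orderOf_mk] at h'
    exact hd.trans h'
  exact (hK.2.1 _ hq hdK).2.2.1 (bg14t_mem_sigma_of_dvd hxS hq hd)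

end Cfsg.Agent.Helper54
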