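/-
helper54: piece MFB (double) of CALL S1356 (B&G Theorem 15.2): basic facts on `M_F`.
-/
import Mathlib
import Cfsg.Prelude.Def_OddOrderLocal
import Cfsg.Agent.Helper1.CNOdd2
import Cfsg.Agent.Helper23.FittingHall

set_option autoImplicit false

namespace Cfsg.Agent.Helper54

open Cfsg Subgroup

universe u

variable {G : Type u} [Group G] [Finite G]

/-- MFB. Basic facts on `M_F = (fittingHall ↥M).map M.subtype`: inside `M`, normalized by
`M`, nilpotent, Hall, and Hall in every `S` between. -/
theorem bg56_MF_basic (M : Subgroup G) :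
    fittingHallOf M ≤ M ∧ M ≤ normalizer (fittingHallOf M : Set G) ∧
      Group.IsNilpotent ↥(fittingHallOf M) ∧
      (Nat.card (fittingHallOf M)).Coprime ((fittingHallOf M).relIndex M) ∧
      ∀ S : Subgroup G, S ≤ M → fittingHallOf M ≤ S →
        (Nat.card (fittingHallOf M)).Coprime ((fittingHallOf M).relIndex S) := by
  have h1 : fittingHallOf M ≤ M := Subgroup.map_subtype_le _
  have h2 : M ≤ normalizer (fittingHallOf M : Set G) := by
    rw [Subgroup.le_normalizer_iff]
    rintro x hx _ ⟨y, hy, rfl⟩
    exact ⟨⟨x, hx⟩ * y * ⟨x, hx⟩⁻¹, (Cfsg.fittingHall_normal ↥M).conj_mem y hy ⟨x, hx⟩, rfl⟩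
  have h3 : Group.IsNilpotent ↥(fittingHallOf M) := by
    haveI := Cfsg.Agent.Helper1.cnodd_fittingHall_isNilpotent ↥M
    exact Group.nilpotent_of_mulEquiv
      ((fittingHall ↥M).equivMapOfInjective M.subtype (Subgroup.subtype_injective M))
  have h4 : (Nat.card (fittingHallOf M)).Coprime ((fittingHallOf M).relIndex M) := by
    have h5 := Cfsg.Agent.Helper23.fittingHall_coprime ↥M
    have h6 : Nat.card (fittingHallOf M) = Nat.card (fittingHall ↥M) :=
      Subgroup.card_map_of_injective M.subtype_injective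
    have h7 : (fittingHallOf M).relIndex M = (fittingHall ↥M).index := by
      unfold fittingHallOf Subgroup.relIndex Subgroup.subgroupOf
      rw [Subgroup.comap_map_eq_self_of_injective M.subtype_injective]
    rw [h6, h7]
    exact h5
  refine ⟨h1, h2, h3, h4, ?_⟩
  intro S hSM hFS
  have h8 := Subgroup.relIndex_mul_relIndex (fittingHallOf M) S M hFS hSM
  exact Nat.Coprime.coprime_dvd_right (Dvd.intro _ h8) h4

end Cfsg.Agent.Helper54
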