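/-
helper54: piece MFEQ (double) of CALL S1356: if M_σ is nilpotent then M_F = M_σ.
-/
import Mathlib
import Cfsg.Prelude.Def_OddOrderLocal
import Cfsg.Agent.Helper31.BGCFHb
import Cfsg.Agent.Helper54.BG14T2

set_option autoImplicit false

namespace Cfsg.Agent.Helper54

open Cfsg Subgroup

universe u

variable {G : Type u} [Group G] [Finite G]

/-- MFEQ. If `M_σ` is nilpotent then `M_F = M_σ`. -/
theorem bg56_MF_eq (hG : IsMinSimpleOddOrder G) {M : Subgroup G} (hM : IsCoatom M)
    (hnil : Group.IsNilpotent ↥(sigmaCore M)) : fittingHallOf M = sigmaCore M :=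
  le_antisymm (bg14t_fittingHall_le hG hM)
    (Cfsg.Agent.Helper31.bgc_sigmaCore_le_fittingHall hG hM hnil)

end Cfsg.Agent.Helper54
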