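/-
helper54: piece T2K (double) of CALL S1356: τ₂(M) ∩ κ(M) = ∅.
-/
import Mathlib
import Cfsg.Prelude.Def_OddOrderLocal
import Cfsg.Agent.Helper47.BG14RK

set_option autoImplicit false

namespace Cfsg.Agent.Helper54

open Cfsg Subgroup

universe u

variable {G : Type u} [Group G] [Finite G]

/-- T2K. `τ₂(M) ∩ κ(M) = ∅`. -/
theorem bg56_tau2_not_kappa {M : Subgroup G} {p : ℕ} (hp : p ∈ tau2 M) : p ∉ kappa M :=
  fun h => hp.2.2.2 (Cfsg.Agent.Helper47.bg14_rank_of_kappa h)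

end Cfsg.Agent.Helper54
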