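/-
helper54: piece TAU2A of CALL S1435 (helper23, prefix bg65_).
-/
import Cfsg.Agent.Helper23.BG65Defs
import Cfsg.Agent.Helper23.Trans
import Cfsg.Agent.Helper23.FittingHall
import Cfsg.Agent.Helper22.BG10c
import Cfsg.Agent.Helper22.BG12a
import Cfsg.Agent.Helper78.BG157HC
import Cfsg.Agent.S1403
import Cfsg.Agent.S1417
import Cfsg.Agent.S1418

set_option autoImplicit false

namespace Cfsg.Agent.Helper54

open Cfsg Subgroup Cfsg.Agent.Helper23

universe u

variable {G : Type u} [Group G] [Finite G] {M K U Mstar H : Subgroup G}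

/-- TAU2A. For `r ∈ τ₂(H)` and a complement `E` of `H_σ`: the elementary abelian subgroup
`A ≤ E` of order `r²`, with its properties from S1417 and S1418. -/
theorem bg65_tau2_A (hG : IsMinSimpleOddOrder G) {H E : Subgroup G} (hH : IsCoatom H)
    (hE : IsComplIn E (sigmaCore H) H) {r : ℕ} (hr : r ∈ tau2 H) :
    ∃ A : Subgroup G, A ≤ E ∧ Nat.card A = r ^ 2 ∧ E ≤ normalizer (A : Set G) ∧
      (∀ a ∈ A, ∀ b ∈ A, a * b = b * a) ∧ (∀ a ∈ A, a ^ r = 1) ∧
      (∀ x ∈ E, orderOf x = r → x ∈ A) ∧ sigmaCore H ⊓ centralizer (A : Set G) = ⊥ := by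
  have hU : Cfsg.Agent.Helper22.BGUniq G :=
    fun K hK h1 h2 => Cfsg.Agent.S1403.result hG K hK h1 h2
  have hrp : r.Prime := hr.1
  haveI := Fact.mk hrp
  -- E is a Hall subgroup of H for the primes outside σ(H)
  have hrel : E.relIndex H = Nat.card (sigmaCore H) := by
    have h1 := Cfsg.Agent.Helper23.card_of_isComplIn E _ H hE
    have h2 := Subgroup.relIndex_mul_relIndex ⊥ E H bot_le hE.1
    rw [Subgroup.relIndex_bot_left, Subgroup.relIndex_bot_left] at h2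
    exact Nat.eq_of_mul_eq_mul_left Nat.card_pos (h2.trans h1)
  have hEhall : IsPiHallOf {q | q ∉ sigma H} E H := by
    refine ⟨hE.1, ?_, ?_⟩
    · intro p hp hpd
      exact Cfsg.Agent.Helper22.bg12_not_sigma_of_dvd hG hU hH hE hp hpd
    · intro p hp hpσ hpd
      rw [hrel] at hpd
      exact hpσ (mem_of_dvd_card_piCoreOf (sigma H) H hp hpd)
  obtain ⟨A₀, hA₀H, hA₀c, hA₀e, hA₀card⟩ :=
    Cfsg.Agent.Helper22.bg10_exists_elemAb_sq hrp hr.2.2.2
  obtain ⟨m, hm, hmE⟩ := Cfsg.Agent.Helper78.bg157_hall_conj hG hH hEhall hA₀H (by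
    intro p hp hpd
    rw [hA₀card] at hpd
    have h3 := hp.dvd_of_dvd_pow hpd
    rw [(Nat.prime_dvd_prime_iff_eq hp hrp).mp h3]
    exact hr.2.1)
  have hAcard : Nat.card (A₀.map (MulAut.conj m).toMonoidHom) = r ^ 2 := by
    rw [← hA₀card]
    exact Subgroup.card_map_of_injective (MulAut.conj m).injective
  have hAc : ∀ a ∈ A₀.map (MulAut.conj m).toMonoidHom,
      ∀ b ∈ A₀.map (MulAut.conj m).toMonoidHom, a * b = b * a := by
    rintro _ ⟨a, ha, rfl⟩ _ ⟨b, hb, rfl⟩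
    rw [← map_mul, ← map_mul, hA₀c a ha b hb]
  have hAe : ∀ a ∈ A₀.map (MulAut.conj m).toMonoidHom, a ^ r = 1 := by
    rintro _ ⟨a, ha, rfl⟩
    rw [← map_pow, hA₀e a ha, map_one]
  have hAel : IsElementaryAbelian r (A₀.map (MulAut.conj m).toMonoidHom) :=
    ⟨⟨⟨fun x y => Subtype.ext (hAc x x.2 y y.2)⟩⟩, hAe⟩
  have h18 := (Cfsg.Agent.S1418.result hG H hH E hE r hr (A₀.map (MulAut.conj m).toMonoidHom)
    ⟨hmE, hAel, hAcard⟩).1
  have h17 := (Cfsg.Agent.S1417.result hG H hH r hr (A₀.map (MulAut.conj m).toMonoidHom)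
    ⟨hmE.trans hE.1, hAel, hAcard⟩).2.2.2.1
  refine ⟨A₀.map (MulAut.conj m).toMonoidHom, hmE, hAcard, h18.1, hAc, hAe, ?_, h17⟩
  intro x hx hxr
  have h4 := h18.2 (zpowers x) (zpowers_le.mpr hx) (by rw [Nat.card_zpowers, hxr])
  exact h4 (mem_zpowers x)

end Cfsg.Agent.Helper54
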