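/-
helper54: piece FIX of CALL S1435 (helper23, prefix bg65_).
-/
import Cfsg.Agent.Helper23.BG65Defs
import Cfsg.Agent.Helper23.Trans
import Cfsg.Agent.Helper68.BG14R30
import Cfsg.Agent.S1367
import Cfsg.Agent.S1368
import Cfsg.Agent.S1372
import Cfsg.Agent.S1432

set_option autoImplicit false

namespace Cfsg.Agent.Helper54

open Cfsg Subgroup Cfsg.Agent.Helper23

universe u

variable {G : Type u} [Group G] [Finite G] {M K U Mstar H : Subgroup G}

/-- FIX. An element `a` of order `r ∉ σ(M*)` centralizing `k ∈ K#` cannot commute with an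
element `x ∈ U` of order `r`. -/
theorem bg65_fix_false (c : BG65Ctx M K U Mstar) {r : ℕ} (hr : r.Prime) (hrσ : r ∉ sigma Mstar)
    {k a x : G} (hk : k ∈ K) (hk1 : k ≠ 1) (ha : orderOf a = r) (hka : k * a = a * k)
    (hxU : x ∈ U) (hxr : orderOf x = r) (hax : a * x = x * a) : False := by
  have hKp : (Nat.card K).Prime :=
    (Cfsg.Agent.S1372.result c.hG M c.hM K U c.hKU c.hK1 c.hU1).1
  have hKσ : K ≤ sigmaCore Mstar := by
    have h1 := c.hKst
    intro y hy
    rw [h1] at hy
    exact hy.1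
  -- the subgroup generated by k has prime order
  have hok : orderOf k = Nat.card K := by
    have h' := orderOf_dvd_natCard (⟨k, hk⟩ : K)
    rw [Subgroup.orderOf_mk] at h'
    rcases (Nat.dvd_prime hKp).mp h' with h2 | h2
    · exact absurd (orderOf_eq_one_iff.mp h2) hk1
    · exact h2
  have hZp : (Nat.card (zpowers k)).Prime := by
    rw [Nat.card_zpowers, hok]
    exact hKp
  have h67 := ((Cfsg.Agent.S1367.result c.hG M c.hM K U c.hKU c.hK1 Mstar c.hMstar c.hKst
    c.hKstH).2 (zpowers k) (zpowers_le.mpr hk) hZp).1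
  have haC : a ∈ centralizer ((zpowers k : Subgroup G) : Set G) := by
    rw [mem_centralizer_iff]
    rintro h ⟨n, rfl⟩
    exact ((show Commute k a from hka).zpow_left n).eq
  have haMs : a ∈ Mstar := h67 haC
  have ha1 : a ≠ 1 := by
    intro h
    rw [h, orderOf_one] at ha
    exact hr.one_lt.ne ha
  have hx1 : x ≠ 1 := by
    intro h
    rw [h, orderOf_one] at hxr
    exact hr.one_lt.ne hxr
  have hak : a ∈ Mstar ⊓ centralizer ({k} : Set G) := by
    refine Subgroup.mem_inf.mpr ⟨haMs, ?_⟩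
    rw [mem_centralizer_iff]
    intro h hh
    rw [Set.mem_singleton_iff] at hh
    rw [hh]
    exact hka
  have hσa : ∀ p : ℕ, p.Prime → p ∣ orderOf a → p ∉ sigma Mstar := by
    intro p hp hpd
    rw [ha] at hpd
    rw [(Nat.prime_dvd_prime_iff_eq hp hr).mp hpd]
    exact hrσ
  have h68 := (Cfsg.Agent.S1368.result c.hG M c.hM K U c.hKU c.hK1 Mstar c.hMstar c.hKst
    c.hKstH).1
  rcases Cfsg.Agent.S1432.result c.hG Mstar c.hMstar k (hKσ hk) hk1 a hak ha1 hσa with
    ⟨h1, -⟩ | ⟨-, -, h3, -⟩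
  · -- r ∈ κ(M*)
    have hrκ : r ∈ kappa Mstar := h1 r hr (by rw [ha])
    have hnd := c.hKstH.2.2 r hr hrκ
    have hmul := Subgroup.relIndex_mul_relIndex ⊥ (sigmaCore M ⊓ centralizer (K : Set G)) Mstar
      bot_le c.hKstH.1
    rw [Subgroup.relIndex_bot_left, Subgroup.relIndex_bot_left] at hmul
    have hd : r ∣ Nat.card ↥(sigmaCore M ⊓ centralizer (K : Set G)) := by
      have h4 : r ∣ Nat.card ↥(sigmaCore M ⊓ centralizer (K : Set G)) *
          (sigmaCore M ⊓ centralizer (K : Set G)).relIndex Mstar := by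
        rw [hmul]
        exact hrκ.2.1
      rcases hr.dvd_mul.mp h4 with h5 | h5
      · exact h5
      · exact absurd h5 hnd
    have hrσM : r ∈ sigma M := mem_of_dvd_card_piCoreOf (sigma M) M hr
      (hd.trans (Subgroup.card_dvd_of_le inf_le_left))
    have hrU : r ∣ Nat.card U := by
      have h' := orderOf_dvd_natCard (⟨x, hxU⟩ : U)
      rw [Subgroup.orderOf_mk, hxr] at h'
      exact h'
    exact ((Cfsg.Agent.Helper68.bg14r_U_hall c.hG c.hM c.hKU).2.1 r hr hrU).2.2 hrσM
  · -- C_G(a) ≤ M*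
    have hxC : x ∈ centralizer ({a} : Set G) := by
      rw [mem_centralizer_iff]
      intro h hh
      rw [Set.mem_singleton_iff] at hh
      rw [hh]
      exact hax
    have hxMs : x ∈ Mstar := h3 hxC
    have h6 : x ∈ M ⊓ Mstar := Subgroup.mem_inf.mpr ⟨c.hKU.compl.1 hxU, hxMs⟩
    rw [h68] at h6
    have h7 : x ∈ U ⊓ (K ⊔ sigmaCore M) :=
      Subgroup.mem_inf.mpr ⟨hxU, (sup_le_sup_left inf_le_left K) h6⟩
    rw [c.hKU.compl.2.2.1] at h7
    exact hx1 (Subgroup.mem_bot.mp h7)

end Cfsg.Agent.Helper54
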