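/-
helper54: piece FPFA of CALL S1435 (helper23, prefix bg65_).
-/
import Cfsg.Agent.Helper23.BG65Defs
import Cfsg.Agent.Helper23.BG139D1
import Cfsg.Agent.Helper23.Trans

set_option autoImplicit false

namespace Cfsg.Agent.Helper54

open Cfsg Subgroup Cfsg.Agent.Helper23

universe u

variable {G : Type u} [Group G] [Finite G] {M K U Mstar H : Subgroup G}

/-- FPFA. If `k ∈ K#` acts fixed-point-freely on `A` (of order `r²`, `r ≠ p`, `r ∉ σ(H)`), then
`H_σ` centralizes `A`. -/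
theorem bg65_fpf_A (h : BG65H M K U Mstar H) {r : ℕ} (hr : r.Prime) (hrK : r ≠ Nat.card K)
    (hrσ : r ∉ sigma H) {A : Subgroup G} (hAH : A ≤ H) (hA : Nat.card A = r ^ 2) {k : G}
    (hk : k ∈ K) (hk1 : k ≠ 1) (hkA : k ∈ normalizer (A : Set G))
    (hfix : ∀ a ∈ A, k * a = a * k → a = 1) : sigmaCore H ≤ centralizer (A : Set G) := by
  refine bg139_frob_cent h.hG.1 h.hKp (S := A) (T := sigmaCore H) (x := k) h.hnil
    ?_ ?_ hkA ?_ ?_ ?_ ?_ (h.hfpf k hk hk1) hfix
  · exact hAH.trans (le_normalizer_piCoreOf (sigma H) H)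
  · exact le_normalizer_piCoreOf (sigma H) H (h.hKH hk)
  · have h' := orderOf_dvd_natCard (⟨k, hk⟩ : K)
    rw [Subgroup.orderOf_mk] at h'
    exact orderOf_dvd_iff_pow_eq_one.mp h'
  · intro hd
    exact h.hpσ (mem_of_dvd_card_piCoreOf (sigma H) H h.hKp hd)
  · intro hd
    rw [hA] at hd
    have h1 := h.hKp.dvd_of_dvd_pow hd
    exact hrK ((Nat.prime_dvd_prime_iff_eq h.hKp hr).mp h1).symm
  · apply Nat.coprime_of_dvd
    intro q hq h1 h2
    rw [hA] at h2
    have h3 := hq.dvd_of_dvd_pow h2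
    have h4 := (Nat.prime_dvd_prime_iff_eq hq hr).mp h3
    rw [h4] at h1
    exact hrσ (mem_of_dvd_card_piCoreOf (sigma H) H hr h1)

end Cfsg.Agent.Helper54
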