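/-
helper54: piece NSIG of CALL S1435 (helper23, prefix bg65_).
-/
import Cfsg.Agent.Helper23.BG65Defs
import Cfsg.Agent.Helper22.Transitivity
import Cfsg.Agent.Helper23.Trans
import Cfsg.Agent.S1364
import Cfsg.Agent.S1368
import Cfsg.Agent.S1431

set_option autoImplicit false

namespace Cfsg.Agent.Helper54

open Cfsg Subgroup Cfsg.Agent.Helper23

universe u

variable {G : Type u} [Group G] [Finite G] {M K U Mstar H : Subgroup G}

/-- NSIG. `r ∉ σ(M*)` for a prime `r` of `U`. -/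
theorem bg65_not_sigma_Ms (c : BG65Ctx M K U Mstar) {r : ℕ} (hr : r.Prime) {R : Subgroup G}
    (hRU : R ≤ U) (hR1 : R ≠ ⊥) (hRr : IsPGroup r R) (hKR : K ≤ normalizer (R : Set G)) :
    r ∉ sigma Mstar := by
  intro hrσ
  haveI := Fact.mk hr
  have hKs1 : sigmaCore M ⊓ centralizer (K : Set G) ≠ ⊥ :=
    (Cfsg.Agent.S1364.result c.hG M c.hM K U c.hKU c.hK1).2.1
  have h31 := (Cfsg.Agent.S1431.result c.hG Mstar c.hMstar
    (sigmaCore M ⊓ centralizer (K : Set G)) c.hKstH hKs1).2.2.2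
  have hKσ : K ≤ sigmaCore Mstar := by
    have h1 := c.hKst
    intro x hx
    rw [h1] at hx
    exact hx.1
  have hY : K ⊔ R ≤ sigmaCore Mstar := by
    apply h31 (K ⊔ R)
    · intro q hq hqd
      have h2 := hqd.trans (Cfsg.Agent.Helper22.card_sup_dvd_of_le_normalizer hKR)
      rcases hq.dvd_mul.mp h2 with h3 | h3
      · exact mem_of_dvd_card_piCoreOf (sigma Mstar) Mstar hq
          (h3.trans (Subgroup.card_dvd_of_le hKσ))
      · obtain ⟨n, hn⟩ := IsPGroup.iff_card.mp hRr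
        rw [hn] at h3
        have h4 := hq.dvd_of_dvd_pow h3
        rw [(Nat.prime_dvd_prime_iff_eq hq hr).mp h4]
        exact hrσ
    · rw [← c.hKst]
      intro hbot
      apply c.hK1
      rw [eq_bot_iff, ← hbot]
      exact le_inf le_sup_left le_rfl
  have hRMs : R ≤ Mstar := fun x hx => by
    have h5 : x ∈ sigmaCore Mstar := hY (mem_sup_right hx)
    obtain ⟨y, -, rfl⟩ := Subgroup.mem_map.mp h5
    exact y.2
  have h68 := (Cfsg.Agent.S1368.result c.hG M c.hM K U c.hKU c.hK1 Mstar c.hMstar c.hKst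
    c.hKstH).1
  have hRle : R ≤ U ⊓ (K ⊔ sigmaCore M) := by
    intro x hx
    refine Subgroup.mem_inf.mpr ⟨hRU hx, ?_⟩
    have h6 : x ∈ M ⊓ Mstar := Subgroup.mem_inf.mpr ⟨c.hKU.compl.1 (hRU hx), hRMs hx⟩
    rw [h68] at h6
    exact (sup_le_sup_left inf_le_left K) h6
  rw [c.hKU.compl.2.2.1] at hRle
  exact hR1 (le_bot_iff.mp hRle)

end Cfsg.Agent.Helper54
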