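/-
helper54: B&G Section 14, "Theorem I" (row S1379): the partition of the non-identity elements
of a minimal simple group of odd order.  `bg14p_core` is the unconditional covering statement;
`bg14p_1379` is row S1379 given the existence of the partner `M*` (row S1366) and the two-classes
statement (second half of row S1369).
-/
import Cfsg.Agent.Helper54.BG14S
import Cfsg.Agent.Helper1.Hall
import Cfsg.Agent.Helper61.BG139B1
import Cfsg.Agent.S1432
import Cfsg.Agent.S1354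
import Cfsg.Agent.S1367
import Cfsg.Agent.S1368
import Cfsg.Agent.S1434

set_option autoImplicit false

namespace Cfsg.Agent.Helper54

open Cfsg Subgroup Cfsg.Agent.Helper22 Cfsg.Agent.Helper23 Cfsg.Agent.Helper35
open scoped Pointwise

universe u

variable {G : Type u} [Group G]

/-- `Ã` is closed under conjugation. -/
theorem bg14p_tilde_conj {M : Subgroup G} {A : Set G} {t : G} (ht : t ∈ tildeOf M A) (w : G) :
    w * t * w⁻¹ ∈ tildeOf M A := by
  obtain ⟨a, ha, r, hr, y, rfl⟩ := ht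
  exact ⟨a, ha, r, hr, w * y, by group⟩

/-- Conjugating by an element of `M` fixes `M`. -/
theorem bg14p_map_conj_of_mem {M : Subgroup G} {c : G} (hc : c ∈ M) :
    M.map (MulAut.conj c).toMonoidHom = M := by
  ext z
  rw [bg14t_mem_map_conj]
  constructor
  · intro h
    have e : z = c * (c⁻¹ * z * c) * c⁻¹ := by group
    rw [e]; exact mul_mem (mul_mem hc h) (inv_mem hc)
  · intro h
    exact mul_mem (mul_mem (inv_mem hc) h) hc

/-- Elements of a cyclic subgroup commute. -/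
theorem bg14p_comm_of_cyclic {Z : Subgroup G} (h : IsCyclic ↥Z) {u v : G} (hu : u ∈ Z)
    (hv : v ∈ Z) : u * v = v * u := by
  obtain ⟨g, hg⟩ := IsCyclic.exists_generator (α := ↥Z)
  have h1 := (bg14t_commute_of_mem_zpowers (hg ⟨u, hu⟩) (hg ⟨v, hv⟩)).eq
  exact congrArg Subtype.val h1

/-- The order of a conjugate. -/
theorem bg14p_orderOf_conj (g c : G) : orderOf (g * c * g⁻¹) = orderOf c := by
  have h := (MulAut.conj g).orderOf_eq c
  rwa [MulAut.conj_apply] at h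

/-- A conjugate of a non-identity element is not the identity. -/
theorem bg14p_conj_ne_one {g c : G} (hc : c ≠ 1) : g * c * g⁻¹ ≠ 1 := by
  intro h
  apply hc
  have e : c = g⁻¹ * (g * c * g⁻¹) * g := by group
  rw [e, h]; group

/-- Hall: in a solvable group `C`, an element of order coprime to the index of a Hall subgroup
`A` is conjugate into `A`. -/
theorem bg14p_hall_conj [Finite G] {C A : Subgroup G} (hsol : Group.IsSolvable ↥C) (hAC : A ≤ C)
    (hcop : (Nat.card A).Coprime (A.relIndex C)) {c : G} (hc : c ∈ C)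
    (hco : (orderOf c).Coprime (A.relIndex C)) : ∃ g ∈ C, g * c * g⁻¹ ∈ A := by
  have hA' : Nat.card (A.subgroupOf C) = Nat.card A :=
    Nat.card_congr (Subgroup.subgroupOfEquivOfLe hAC).toEquiv
  have hcard : Nat.card ↥C = Nat.card A * A.relIndex C := by
    rw [← hA']
    exact (Subgroup.card_mul_index (A.subgroupOf C)).symm
  have hK : (Nat.card (zpowers (⟨c, hc⟩ : ↥C))).Coprime (A.relIndex C) := by
    rw [Nat.card_zpowers, Subgroup.orderOf_mk]
    exact hco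
  obtain ⟨H, hHcard, hKH⟩ := Cfsg.Agent.Helper1.hall_le_aux (Nat.card ↥C) ↥C (Nat.card A)
    (A.relIndex C) rfl hcard hcop (zpowers (⟨c, hc⟩ : ↥C)) hK
  obtain ⟨g, hg⟩ := Cfsg.Agent.Helper1.hall_conj_aux (Nat.card ↥C) ↥C (Nat.card A)
    (A.relIndex C) rfl hcard hcop H (A.subgroupOf C) hHcard hA'
  refine ⟨(g : G), g.2, ?_⟩
  have h1 : MulAut.conj g • (⟨c, hc⟩ : ↥C) ∈ MulAut.conj g • H :=
    Subgroup.smul_mem_pointwise_smul _ _ _ (hKH (mem_zpowers _))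
  rw [hg] at h1
  have h2 := Subgroup.mem_subgroupOf.mp h1
  simpa [MulAut.smul_def] using h2

/-- In a solvable group `C = A R` with `R` normal, `A ∩ R = 1` and `(|A|, |R|) = 1`, every element
is conjugate to a commuting product `r c` with `r ∈ R`, `c ∈ A`. -/
theorem bg14p_compl_conj [Finite G] {C A R : Subgroup G} (hsol : Group.IsSolvable ↥C)
    (hnorm : C ≤ normalizer (R : Set G)) (hcc : IsComplIn A R C)
    (hcop : (Nat.card A).Coprime (Nat.card R)) {y : G} (hy : y ∈ C) :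
    ∃ g₀ r c : G, g₀ ∈ C ∧ r ∈ R ∧ c ∈ A ∧ Commute r c ∧ orderOf c ∣ orderOf y ∧
      g₀ * y * g₀⁻¹ = r * c := by
  have hAC : A ≤ C := hcc.1
  have hcard1 := bg12_card_compl hnorm hcc
  have hrel : A.relIndex C = Nat.card R := by
    have hA' : Nat.card (A.subgroupOf C) = Nat.card A :=
      Nat.card_congr (Subgroup.subgroupOfEquivOfLe hAC).toEquiv
    have h2 : Nat.card A * A.relIndex C = Nat.card C := by
      rw [← hA']
      exact Subgroup.card_mul_index _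
    exact Nat.eq_of_mul_eq_mul_left Nat.card_pos (h2.trans hcard1.symm)
  obtain ⟨r₀, c₀, hr₀z, hc₀z, hyrc, hr₀π, hc₀π⟩ := bg14s_decomp {q : ℕ | q ∣ Nat.card R} y
  have hzC : zpowers y ≤ C := zpowers_le.mpr hy
  have hc₀co : (orderOf c₀).Coprime (Nat.card R) :=
    Nat.coprime_of_dvd (fun q hq h1 h2 => hc₀π q hq h1 h2)
  obtain ⟨g₀, hg₀, hgc⟩ := bg14p_hall_conj hsol hAC (by rw [hrel]; exact hcop) (hzC hc₀z)
    (by rw [hrel]; exact hc₀co)
  have hrC : g₀ * r₀ * g₀⁻¹ ∈ C := mul_mem (mul_mem hg₀ (hzC hr₀z)) (inv_mem hg₀)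
  have hord : orderOf (g₀ * r₀ * g₀⁻¹) = orderOf r₀ := bg14p_orderOf_conj g₀ r₀
  obtain ⟨a, ha, b, hb, hab⟩ := hcc.2.2.2 _ hrC
  have haπ : bg14s_isPi' {q : ℕ | ¬ q ∣ Nat.card R} a := by
    apply bg14s_isPi'_of_mem_sup (H := zpowers (g₀ * r₀ * g₀⁻¹)) (R := R)
    · exact (zpowers_le.mpr hrC).trans hnorm
    · intro q hq hd h
      rw [Nat.card_zpowers, hord] at hd
      exact h (hr₀π q hq hd)
    · intro q hq hd h
      exact h hd
    · have e : a = (g₀ * r₀ * g₀⁻¹) * b⁻¹ := by rw [hab]; group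
      rw [e]
      exact mul_mem (mem_sup_left (mem_zpowers _)) (mem_sup_right (inv_mem hb))
  have ha1 : a = 1 := by
    by_contra hne
    have ho : orderOf a ≠ 1 := fun h => hne (orderOf_eq_one_iff.mp h)
    obtain ⟨q, hq, hqd⟩ := Nat.exists_prime_and_dvd ho
    have hqR : q ∣ Nat.card R := not_not.mp (haπ q hq hqd)
    have hqA : q ∣ Nat.card A := by
      apply hqd.trans
      have h' := orderOf_dvd_natCard (⟨a, ha⟩ : ↥A)
      rwa [Subgroup.orderOf_mk] at h'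
    exact hq.one_lt.ne' (Nat.eq_one_of_dvd_coprimes hcop hqA hqR)
  refine ⟨g₀, g₀ * r₀ * g₀⁻¹, g₀ * c₀ * g₀⁻¹, hg₀, ?_, hgc, ?_, ?_, ?_⟩
  · rw [hab, ha1, one_mul]; exact hb
  · have h := bg14t_commute_of_mem_zpowers hr₀z hc₀z
    show g₀ * r₀ * g₀⁻¹ * (g₀ * c₀ * g₀⁻¹) = g₀ * c₀ * g₀⁻¹ * (g₀ * r₀ * g₀⁻¹)
    have e1 : g₀ * r₀ * g₀⁻¹ * (g₀ * c₀ * g₀⁻¹) = g₀ * (r₀ * c₀) * g₀⁻¹ := by group
    have e2 : g₀ * c₀ * g₀⁻¹ * (g₀ * r₀ * g₀⁻¹) = g₀ * (c₀ * r₀) * g₀⁻¹ := by group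
    rw [e1, e2, h.eq]
  · rw [bg14p_orderOf_conj]
    exact orderOf_dvd_of_mem_zpowers hc₀z
  · rw [hyrc]; group

variable [Finite G]

/-- For `x ≠ 1` in `M_σ` and a `σ(M)'`-element `y` of `C_G(x)`: up to conjugation in `C_G(x)`,
`y = r c` with `r ∈ R(x)` and `c ∈ C_M(x)` commuting. -/
theorem bg14p_split (hG : IsMinSimpleOddOrder G) {M : Subgroup G} (hM : IsCoatom M) {x y : G}
    (hx : x ∈ sigmaCore M) (hx1 : x ≠ 1) (hxy : Commute x y)
    (hyπ : bg14s_isPi' (sigma M) y) :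
    ∃ g₀ r c : G, g₀ ∈ centralizer ({x} : Set G) ∧ r ∈ supportR M x ∧ c ∈ M ∧ Commute x c ∧
      Commute r c ∧ bg14s_isPi' (sigma M) c ∧ g₀ * y * g₀⁻¹ = r * c := by
  have hyC : y ∈ centralizer ({x} : Set G) := bg14t_mem_cent.mpr hxy.eq
  by_cases hCM : centralizer ({x} : Set G) ≤ M
  · exact ⟨1, 1, y, one_mem _, one_mem _, hCM hyC, hxy, Commute.one_left y, hyπ, by group⟩
  · obtain ⟨hnorm, hcc⟩ := bg14t_supp_compl hG hM hx hx1
    obtain ⟨L, hL, -, hCL, -, -, -⟩ := (bg14t_supportR hG hM hx hx1).2 hCM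
    have hCtop : centralizer ({x} : Set G) ≠ ⊤ := fun h => hL.1 (top_le_iff.mp (h ▸ hCL))
    have hsol : Group.IsSolvable ↥(centralizer ({x} : Set G)) := uq_isSolvable hG hCtop
    have hcop1 := (bg14t_1374 hG M hM x hx hx1).1
    have hcard1 := bg12_card_compl hnorm hcc
    have hrel : (M ⊓ centralizer ({x} : Set G)).relIndex (centralizer ({x} : Set G)) =
        Nat.card (supportR M x) := by
      have hA' : Nat.card ((M ⊓ centralizer ({x} : Set G)).subgroupOf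
          (centralizer ({x} : Set G))) = Nat.card ↥(M ⊓ centralizer ({x} : Set G)) :=
        Nat.card_congr (Subgroup.subgroupOfEquivOfLe inf_le_right).toEquiv
      have h2 : Nat.card ↥(M ⊓ centralizer ({x} : Set G)) *
          (M ⊓ centralizer ({x} : Set G)).relIndex (centralizer ({x} : Set G)) =
          Nat.card (centralizer ({x} : Set G)) := by
        rw [← hA']
        exact Subgroup.card_mul_index _
      exact Nat.eq_of_mul_eq_mul_left Nat.card_pos (h2.trans hcard1.symm)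
    rw [hrel] at hcop1
    obtain ⟨g₀, r, c, hg₀, hr, hc, hrc, hcy, hconj⟩ := bg14p_compl_conj hsol hnorm hcc hcop1 hyC
    refine ⟨g₀, r, c, hg₀, hr, hc.1, bg14t_mem_cent.mp hc.2, hrc, ?_, hconj⟩
    intro q hq hd
    exact hyπ q hq (hd.trans hcy)

/-- The `τ₂` alternative of row S1432 puts `x c` in some `Ñ`. -/
theorem bg14p_caseb (hG : IsMinSimpleOddOrder G) {M : Subgroup G} {x c : G}
    (hx : x ∈ sigmaCore M) (hc1 : c ≠ 1) (hxc : Commute x c)
    (hτ : ∀ p : ℕ, p.Prime → p ∣ orderOf c → p ∈ tau2 M) {L : Subgroup G} (hL : IsCoatom L)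
    (hLσ : ∀ p : ℕ, p.Prime → p ∣ orderOf c → p ∈ sigma L)
    (huniq : ∀ L' : Subgroup G, IsCoatom L' → centralizer ({c} : Set G) ≤ L' → L' = M) :
    ∃ N : Subgroup G, IsCoatom N ∧ x * c ∈ tildeOf N ((sigmaCore N : Set G) \ {1}) := by
  obtain ⟨q, -, hq⟩ := bg14s_exists_cj hG hL hc1 hLσ
  have hL' := bg14t_cj_coatom hL q
  have hσ : sigma (bg14t_cj L q) = sigma L := bg14t_sigma_conj L _
  have hnot : ¬ centralizer ({c} : Set G) ≤ bg14t_cj L q := by
    intro h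
    have hLM := huniq _ hL' h
    have ho : orderOf c ≠ 1 := fun h => hc1 (orderOf_eq_one_iff.mp h)
    obtain ⟨p, hp, hpd⟩ := Nat.exists_prime_and_dvd ho
    have h1 : p ∈ sigma M := by rw [← hLM, hσ]; exact hLσ p hp hpd
    exact (hτ p hp hpd).2.1 h1
  obtain ⟨L'', hL'', -, hCL'', -, -, hsupp⟩ := (bg14t_supportR hG hL' hq hc1).2 hnot
  have hL''M : L'' = M := huniq L'' hL'' hCL''
  rw [hL''M] at hsupp
  refine ⟨bg14t_cj L q, hL', c, ⟨hq, hc1⟩, x, ?_, 1, ?_⟩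
  · rw [hsupp]
    exact ⟨hx, bg14t_mem_cent.mpr hxc.eq.symm⟩
  · rw [hxc.eq]; group

/-- The covering statement: every `g ≠ 1` lies in some `Ñ`, or is conjugate to `x c` with
`x ≠ 1` in `M_σ`, `C_G(x) ≤ M` and `c ≠ 1` a `κ(M)`-element of `C_M(x)`. -/
theorem bg14p_core (hG : IsMinSimpleOddOrder G) {g : G} (hg1 : g ≠ 1) :
    (∃ N : Subgroup G, IsCoatom N ∧ g ∈ tildeOf N ((sigmaCore N : Set G) \ {1})) ∨
      ∃ (M : Subgroup G) (x c w : G), IsCoatom M ∧ x ∈ sigmaCore M ∧ x ≠ 1 ∧ c ∈ M ∧ c ≠ 1 ∧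
        Commute x c ∧ (∀ p : ℕ, p.Prime → p ∣ orderOf c → p ∈ kappa M) ∧
        centralizer ({x} : Set G) ≤ M ∧ g = w * (x * c) * w⁻¹ := by
  have ho : orderOf g ≠ 1 := fun h => hg1 (orderOf_eq_one_iff.mp h)
  obtain ⟨p, hp, hpd⟩ := Nat.exists_prime_and_dvd ho
  obtain ⟨M₀, hM₀, hpσ⟩ := Cfsg.Agent.Helper61.bg139_part1 hG p hp
    (hpd.trans (orderOf_dvd_natCard g))
  obtain ⟨x, y, hxz, hyz, hgxy, hxπ, hyπ⟩ := bg14s_decomp (sigma M₀) g
  have hx1 : x ≠ 1 := by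
    rintro rfl
    rw [one_mul] at hgxy
    rw [hgxy] at hpd
    exact hyπ p hp hpd hpσ
  obtain ⟨q, -, hxq⟩ := bg14s_exists_cj hG hM₀ hx1 hxπ
  have hM := bg14t_cj_coatom hM₀ q
  have hσ : sigma (bg14t_cj M₀ q) = sigma M₀ := bg14t_sigma_conj M₀ _
  obtain ⟨M, hMdef⟩ : ∃ M : Subgroup G, M = bg14t_cj M₀ q := ⟨_, rfl⟩
  rw [← hMdef] at hM hσ hxq
  have hxy : Commute x y := bg14t_commute_of_mem_zpowers hxz hyz
  have hyπ' : bg14s_isPi' (sigma M) y := by rw [hσ]; exact hyπ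
  obtain ⟨g₀, r, c, hg₀, hr, hcM, hxc, hrc, hcπ, hconj⟩ := bg14p_split hG hM hxq hx1 hxy hyπ'
  have hg₀x : g₀ * x * g₀⁻¹ = x := by
    have h := bg14t_mem_cent.mp hg₀
    rw [← h]; group
  have hg' : g₀ * g * g₀⁻¹ = x * (r * c) := by
    have e : g₀ * g * g₀⁻¹ = (g₀ * x * g₀⁻¹) * (g₀ * y * g₀⁻¹) := by rw [hgxy]; group
    rw [e, hg₀x, hconj]
  have hback : g = g₀⁻¹ * (g₀ * g * g₀⁻¹) * g₀⁻¹⁻¹ := by group
  by_cases hc1 : c = 1
  · left
    refine ⟨M, hM, ?_⟩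
    rw [hback]
    apply bg14p_tilde_conj
    rw [hg', hc1, mul_one]
    exact ⟨x, ⟨hxq, hx1⟩, r, hr, 1, by group⟩
  · rcases Cfsg.Agent.S1432.result hG M hM x hxq hx1 c ⟨hcM, bg14t_mem_cent.mpr hxc.eq⟩ hc1
      hcπ with ⟨hκ, hCM⟩ | ⟨hτ, ⟨L, hL, hLσ⟩, hCc, huniq⟩
    · right
      have hr1 : r = 1 := by
        have h := (bg14t_supportR hG hM hxq hx1).1 hCM
        rw [h, mem_bot] at hr
        exact hr
      refine ⟨M, x, c, g₀⁻¹, hM, hxq, hx1, hcM, hc1, hxc, hκ, hCM, ?_⟩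
      rw [hr1, one_mul] at hg'
      rw [← hg']; group
    · left
      have hr1 : r = 1 := by
        obtain ⟨-, hcc⟩ := bg14t_supp_compl hG hM hxq hx1
        have hrC : r ∈ centralizer ({x} : Set G) := hcc.2.1 hr
        have hrM : r ∈ M := hCc (bg14t_mem_cent.mpr hrc.eq.symm)
        have h5 : r ∈ (M ⊓ centralizer ({x} : Set G)) ⊓ supportR M x := ⟨⟨hrM, hrC⟩, hr⟩
        rw [hcc.2.2.1, mem_bot] at h5
        exact h5
      obtain ⟨N, hN, hmem⟩ := bg14p_caseb hG hxq hc1 hxc hτ hL hLσ huniq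
      refine ⟨N, hN, ?_⟩
      rw [hback]
      apply bg14p_tilde_conj
      rw [hg', hr1, one_mul]
      exact hmem

/-- Second clause of row S1379. -/
theorem bg14p_cover2 (hG : IsMinSimpleOddOrder G)
    (hκ : ∀ M : Subgroup G, IsCoatom M → kappa M = ∅) (g : G) (hg1 : g ≠ 1) :
    ∃ M : Subgroup G, IsCoatom M ∧ g ∈ tildeOf M ((sigmaCore M : Set G) \ {1}) := by
  rcases bg14p_core hG hg1 with h | ⟨M, x, c, w, hM, -, -, -, hc1, -, hcκ, -, -⟩
  · exact h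
  · exfalso
    have ho : orderOf c ≠ 1 := fun h => hc1 (orderOf_eq_one_iff.mp h)
    obtain ⟨p, hp, hpd⟩ := Nat.exists_prime_and_dvd ho
    have h := hcκ p hp hpd
    rw [hκ M hM] at h
    exact absurd h (Set.notMem_empty p)

/-- A `κ(H)`-element `c ≠ 1` centralizing `x ≠ 1` in `H_σ`: `x c` is `H`-conjugate into
`A B − (A ∪ B)`, for a Hall `κ(H)`-subgroup `A` whose non-identity elements have centralizer
`A B` in `H`. -/
theorem bg14p_into_Z (hG : IsMinSimpleOddOrder G) {H A B : Subgroup G} (hH : IsCoatom H)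
    (hA : IsPiHallOf (kappa H) A H)
    (hcent : ∀ a ∈ A, a ≠ 1 → H ⊓ centralizer ({a} : Set G) ≤ A ⊔ B)
    (hB : ∀ z ∈ sigmaCore H, z ∈ A ⊔ B → z ∈ B) (hAB : A ⊓ B = ⊥) {x c : G}
    (hx : x ∈ sigmaCore H) (hx1 : x ≠ 1) (hcH : c ∈ H) (hc1 : c ≠ 1) (hxc : Commute x c)
    (hκ : ∀ p : ℕ, p.Prime → p ∣ orderOf c → p ∈ kappa H) :
    ∃ m : G, m * (x * c) * m⁻¹ ∈
      ((A ⊔ B : Subgroup G) : Set G) \ ((A : Set G) ∪ (B : Set G)) := by
  have hsol : Group.IsSolvable ↥H := uq_isSolvable hG hH.1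
  have hcop : (Nat.card A).Coprime (A.relIndex H) :=
    Nat.coprime_of_dvd (fun q hq h1 h2 => hA.2.2 q hq (hA.2.1 q hq h1) h2)
  have hco : (orderOf c).Coprime (A.relIndex H) :=
    Nat.coprime_of_dvd (fun q hq h1 h2 => hA.2.2 q hq (hκ q hq h1) h2)
  obtain ⟨m, hm, hmc⟩ := bg14p_hall_conj hsol hA.1 hcop hcH hco
  have hnS := le_normalizer_piCoreOf (sigma H) H hm
  have hx' : m * x * m⁻¹ ∈ sigmaCore H := (mem_normalizer_iff.mp hnS x).mp hx
  have hx1' : m * x * m⁻¹ ≠ 1 := bg14p_conj_ne_one hx1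
  have hc1' : m * c * m⁻¹ ≠ 1 := bg14p_conj_ne_one hc1
  have hcomm : (m * c * m⁻¹) * (m * x * m⁻¹) = (m * x * m⁻¹) * (m * c * m⁻¹) := by
    have e1 : (m * c * m⁻¹) * (m * x * m⁻¹) = m * (c * x) * m⁻¹ := by group
    have e2 : (m * x * m⁻¹) * (m * c * m⁻¹) = m * (x * c) * m⁻¹ := by group
    rw [e1, e2, hxc.eq]
  have hxZ : m * x * m⁻¹ ∈ A ⊔ B :=
    hcent _ hmc hc1' ⟨piCoreOf_le (sigma H) H hx', bg14t_mem_cent.mpr hcomm⟩
  have hxB : m * x * m⁻¹ ∈ B := hB _ hx' hxZ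
  have e : m * (x * c) * m⁻¹ = (m * x * m⁻¹) * (m * c * m⁻¹) := by group
  refine ⟨m, ?_, ?_⟩
  · rw [e]
    exact mul_mem hxZ (mem_sup_left hmc)
  · rw [e]
    rintro (h | h)
    · have h2 : m * x * m⁻¹ ∈ A := by
        have e3 : m * x * m⁻¹ = (m * x * m⁻¹) * (m * c * m⁻¹) * (m * c * m⁻¹)⁻¹ := by group
        rw [e3]
        exact mul_mem h (inv_mem hmc)
      have h3 : m * x * m⁻¹ ∈ A ⊓ B := ⟨h2, hxB⟩
      rw [hAB, mem_bot] at h3
      exact hx1' h3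
    · have h2 : m * c * m⁻¹ ∈ B := by
        have e3 : m * c * m⁻¹ = (m * x * m⁻¹)⁻¹ * ((m * x * m⁻¹) * (m * c * m⁻¹)) := by group
        rw [e3]
        exact mul_mem (inv_mem hxB) h
      have h3 : m * c * m⁻¹ ∈ A ⊓ B := ⟨hmc, h2⟩
      rw [hAB, mem_bot] at h3
      exact hc1' h3

/-- For `x ≠ 1` in `H_σ` and a `σ(H)'`-element `c ≠ 1` of `C_H(x)`: `x c` lies in some `Ñ` or
is conjugate into `A B − (A ∪ B)`. -/
theorem bg14p_elem (hG : IsMinSimpleOddOrder G) {H A B : Subgroup G} (hH : IsCoatom H)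
    (hA : IsPiHallOf (kappa H) A H)
    (hcent : ∀ a ∈ A, a ≠ 1 → H ⊓ centralizer ({a} : Set G) ≤ A ⊔ B)
    (hB : ∀ z ∈ sigmaCore H, z ∈ A ⊔ B → z ∈ B) (hAB : A ⊓ B = ⊥) {x c : G}
    (hx : x ∈ sigmaCore H) (hx1 : x ≠ 1) (hcH : c ∈ H) (hc1 : c ≠ 1) (hxc : Commute x c)
    (hπ : bg14s_isPi' (sigma H) c) :
    (∃ N : Subgroup G, IsCoatom N ∧ x * c ∈ tildeOf N ((sigmaCore N : Set G) \ {1})) ∨
      ∃ m : G, m * (x * c) * m⁻¹ ∈
        ((A ⊔ B : Subgroup G) : Set G) \ ((A : Set G) ∪ (B : Set G)) := by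
  rcases Cfsg.Agent.S1432.result hG H hH x hx hx1 c ⟨hcH, bg14t_mem_cent.mpr hxc.eq⟩ hc1
    hπ with ⟨hκ, -⟩ | ⟨hτ, ⟨L, hL, hLσ⟩, -, huniq⟩
  · right
    exact bg14p_into_Z hG hH hA hcent hB hAB hx hx1 hcH hc1 hxc hκ
  · left
    exact bg14p_caseb hG hx hc1 hxc hτ hL hLσ huniq

/-- If `a ρ ∈ Ñ'` (`a ≠ 1` in `N'_σ`, `ρ ∈ R(a)`) with `a` in a subgroup `Z ≤ H` whose
`σ(H)`-elements lie in `A`, prime-order subgroups of `A` having centralizer inside `H`, and some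
`b ∈ ⟨a⟩` of prime order in `σ(H)`: then `a ρ ∈ A`. -/
theorem bg14p_not_tilde_aux (hG : IsMinSimpleOddOrder G) {H A Z N' : Subgroup G}
    (hH : IsCoatom H) (hZH : Z ≤ H) (hZA : ∀ u ∈ Z, u ∈ sigmaCore H → u ∈ A)
    (hcent : ∀ Y : Subgroup G, Y ≤ A → (Nat.card Y).Prime → centralizer (Y : Set G) ≤ H)
    (hN' : IsCoatom N') {a b ρ : G} (ha : a ∈ sigmaCore N') (ha1 : a ≠ 1)
    (hρ : ρ ∈ supportR N' a) (haZ : a ∈ Z) (hbZ : b ∈ Z) (hbN' : b ∈ sigmaCore N')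
    (hbp : (orderOf b).Prime) (hbσ : orderOf b ∈ sigma H)
    (hCa : centralizer ({a} : Set G) ≤ centralizer ((zpowers b : Subgroup G) : Set G)) :
    a * ρ ∈ A := by
  have hσp : BGSigmaPart G := (Cfsg.Agent.S1378.result hG).2
  have hb1 : b ≠ 1 := by
    rintro rfl
    rw [orderOf_one] at hbp
    exact Nat.not_prime_one hbp
  have hbπ : bg14s_isPi (sigma H) b := by
    intro q hq hqd
    rw [(Nat.prime_dvd_prime_iff_eq hq hbp).mp hqd]
    exact hbσ
  have hbH : b ∈ sigmaCore H := bg14s_mem_sigmaCore hG hH (hZH hbZ) hbπ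
  have hbA : b ∈ A := hZA b hbZ hbH
  have hYA : zpowers b ≤ A := zpowers_le.mpr hbA
  have hYp : (Nat.card (zpowers b)).Prime := by rw [Nat.card_zpowers]; exact hbp
  have hCY := hcent _ hYA hYp
  have hqN' : orderOf b ∈ sigma N' := bg14t_mem_sigma_of_dvd hbN' hbp dvd_rfl
  obtain ⟨g', hg'⟩ := hσp H N' hH hN' ⟨orderOf b, hbσ, hqN'⟩
  have hbN'' : b ∈ N' := piCoreOf_le (sigma N') N' hbN'
  rw [hg', bg14t_mem_map_conj] at hbN''
  obtain ⟨c, hc, m, hm, hg'cm⟩ := bg14t_trans hG hH hbH hb1 hbN''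
  have hcY : c ∈ centralizer ((zpowers b : Subgroup G) : Set G) := by
    rw [mem_centralizer_iff]
    intro u hu
    obtain ⟨k, rfl⟩ := mem_zpowers_iff.mp hu
    have h1 : Commute b c := bg14t_mem_cent.mp hc
    exact (h1.zpow_left k).eq
  have hcH : c ∈ H := hCY hcY
  have hN'H : N' = H := by
    rw [hg', hg'cm, bg14t_map_conj_mul hm, bg14p_map_conj_of_mem hcH]
  subst hN'H
  have haA : a ∈ A := hZA a haZ ha
  have hsupp := (bg14t_supportR hG hN' ha ha1).1 (hCa.trans hCY)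
  rw [hsupp, mem_bot] at hρ
  rw [hρ, mul_one]
  exact haA

/-- `K ∩ K* = 1`. -/
theorem bg14p_K_inf_Ks {M K Ks : Subgroup G}
    (hKκ : ∀ p : ℕ, p.Prime → p ∣ Nat.card K → p ∈ kappa M) (hKs : Ks ≤ sigmaCore M) :
    K ⊓ Ks = ⊥ := by
  rw [eq_bot_iff]
  intro u hu
  rw [mem_bot]
  by_contra hne
  have ho : orderOf u ≠ 1 := fun h => hne (orderOf_eq_one_iff.mp h)
  obtain ⟨q, hq, hqd⟩ := Nat.exists_prime_and_dvd ho
  have hqK : q ∣ Nat.card K := by
    apply hqd.trans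
    have h' := orderOf_dvd_natCard (⟨u, hu.1⟩ : ↥K)
    rwa [Subgroup.orderOf_mk] at h'
  exact (hKκ q hq hqK).2.2.1 (bg14t_mem_sigma_of_dvd (hKs hu.2) hq hqd)

/-- Third clause of row S1379, first half (covering), given the partner `M*` and the two-classes
statement. -/
theorem bg14p_cover3a (hG : IsMinSimpleOddOrder G) {M K U Mstar : Subgroup G} (hM : IsCoatom M)
    (hKU : IsSigmaDecomposition M K U) (hK1 : K ≠ ⊥) (hMstar : IsCoatom Mstar)
    (hKst : K = sigmaCore Mstar ⊓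
      centralizer ((sigmaCore M ⊓ centralizer (K : Set G) : Subgroup G) : Set G))
    (hKstH : IsPiHallOf (kappa Mstar) (sigmaCore M ⊓ centralizer (K : Set G)) Mstar)
    (hcls : ∀ H : Subgroup G, IsCoatom H → (kappa H).Nonempty →
      ∃ g : G, H = M.map (MulAut.conj g).toMonoidHom ∨
        H = Mstar.map (MulAut.conj g).toMonoidHom)
    (g : G) (hg1 : g ≠ 1) :
    (∃ N : Subgroup G, IsCoatom N ∧ g ∈ tildeOf N ((sigmaCore N : Set G) \ {1})) ∨
      ∃ y : G, ∃ z ∈ ((↑(K ⊔ (sigmaCore M ⊓ centralizer (K : Set G))) : Set G) \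
        ((K : Set G) ∪ ↑(sigmaCore M ⊓ centralizer (K : Set G)))), g = y * z * y⁻¹ := by
  obtain ⟨-, hcyc⟩ := Cfsg.Agent.S1368.result hG M hM K U hKU hK1 Mstar hMstar hKst hKstH
  have h34 := (Cfsg.Agent.S1434.result hG M hM K U hKU hK1 Mstar hMstar hKst hKstH).2.2.1
  have h54 := (Cfsg.Agent.S1354.result hG M hM K hKU.cyclic hKU.hall).2 hK1
  have hKmem : ∀ u : G, u ∈ sigmaCore Mstar →
      u ∈ centralizer ((sigmaCore M ⊓ centralizer (K : Set G) : Subgroup G) : Set G) →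
      u ∈ K := by
    intro u h1 h2
    rw [hKst]
    exact ⟨h1, h2⟩
  obtain ⟨Ks, hKs⟩ : ∃ Ks : Subgroup G, Ks = sigmaCore M ⊓ centralizer (K : Set G) := ⟨_, rfl⟩
  rw [← hKs] at hcyc h34 h54 hKmem hKstH ⊢
  have hKsσ : Ks ≤ sigmaCore M := by rw [hKs]; exact inf_le_left
  have hdisj : K ⊓ Ks = ⊥ := bg14p_K_inf_Ks hKU.hall.2.1 hKsσ
  obtain ⟨k₀, hk₀, hk₀1⟩ : ∃ k₀ ∈ K, k₀ ≠ 1 := by
    by_contra hcon
    push Not at hcon
    exact hK1 ((Subgroup.eq_bot_iff_forall K).mpr hcon)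
  rcases bg14p_core hG hg1 with h | ⟨M', x, c, w, hM', hx, hx1, hcM', hc1, hxc, hcκ, -, hgw⟩
  · exact Or.inl h
  · have ho : orderOf c ≠ 1 := fun h => hc1 (orderOf_eq_one_iff.mp h)
    obtain ⟨p, hp, hpd⟩ := Nat.exists_prime_and_dvd ho
    obtain ⟨h, hh⟩ := hcls M' hM' ⟨p, hcκ p hp hpd⟩
    have hgw' : g = (w * h) * ((h⁻¹ * x * h) * (h⁻¹ * c * h)) * (w * h)⁻¹ := by
      rw [hgw]; group
    have hx1' : h⁻¹ * x * h ≠ 1 := by
      have h' := bg14p_conj_ne_one (g := h⁻¹) hx1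
      rwa [inv_inv] at h'
    have hc1' : h⁻¹ * c * h ≠ 1 := by
      have h' := bg14p_conj_ne_one (g := h⁻¹) hc1
      rwa [inv_inv] at h'
    have hord : orderOf (h⁻¹ * c * h) = orderOf c := by
      have h' := bg14p_orderOf_conj h⁻¹ c
      rwa [inv_inv] at h'
    have hcomm : Commute (h⁻¹ * x * h) (h⁻¹ * c * h) := by
      show h⁻¹ * x * h * (h⁻¹ * c * h) = h⁻¹ * c * h * (h⁻¹ * x * h)
      have e1 : h⁻¹ * x * h * (h⁻¹ * c * h) = h⁻¹ * (x * c) * h := by group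
      have e2 : h⁻¹ * c * h * (h⁻¹ * x * h) = h⁻¹ * (c * x) * h := by group
      rw [e1, e2, hxc.eq]
    have hfin : ∀ t : G, ((∃ N : Subgroup G, IsCoatom N ∧
        t ∈ tildeOf N ((sigmaCore N : Set G) \ {1})) ∨
        ∃ m : G, m * t * m⁻¹ ∈ ((↑(K ⊔ Ks) : Set G) \ ((K : Set G) ∪ ↑Ks))) →
        g = (w * h) * t * (w * h)⁻¹ →
        (∃ N : Subgroup G, IsCoatom N ∧ g ∈ tildeOf N ((sigmaCore N : Set G) \ {1})) ∨
        ∃ y : G, ∃ z ∈ ((↑(K ⊔ Ks) : Set G) \ ((K : Set G) ∪ ↑Ks)), g = y * z * y⁻¹ := by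
      intro t ht hgt
      rcases ht with ⟨N, hN, hmem⟩ | ⟨m, hmem⟩
      · left
        refine ⟨N, hN, ?_⟩
        rw [hgt]
        exact bg14p_tilde_conj hmem _
      · right
        refine ⟨w * h * m⁻¹, _, hmem, ?_⟩
        rw [hgt]; group
    rcases hh with hh | hh
    · subst hh
      have hx₀ : h⁻¹ * x * h ∈ sigmaCore M := bg14t_mem_sigmaCore_conj.mp hx
      have hc₀ : h⁻¹ * c * h ∈ M := bg14t_mem_map_conj.mp hcM'
      have hπ : bg14s_isPi' (sigma M) (h⁻¹ * c * h) := by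
        intro q hq hqd
        rw [hord] at hqd
        have h1 := (hcκ q hq hqd).2.2.1
        rwa [bg14t_sigma_conj] at h1
      have hB : ∀ z ∈ sigmaCore M, z ∈ K ⊔ Ks → z ∈ Ks := by
        intro z hz hzZ
        rw [hKs]
        refine Subgroup.mem_inf.mpr ⟨hz, ?_⟩
        rw [mem_centralizer_iff]
        intro k hk
        exact bg14p_comm_of_cyclic hcyc (mem_sup_left hk) hzZ
      exact hfin _ (bg14p_elem hG hM hKU.hall (fun a ha ha1 => (h54 a ha ha1).le) hB hdisj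
        hx₀ hx1' hc₀ hc1' hcomm hπ) hgw'
    · subst hh
      have hx₀ : h⁻¹ * x * h ∈ sigmaCore Mstar := bg14t_mem_sigmaCore_conj.mp hx
      have hc₀ : h⁻¹ * c * h ∈ Mstar := bg14t_mem_map_conj.mp hcM'
      have hπ : bg14s_isPi' (sigma Mstar) (h⁻¹ * c * h) := by
        intro q hq hqd
        rw [hord] at hqd
        have h1 := (hcκ q hq hqd).2.2.1
        rwa [bg14t_sigma_conj] at h1
      have hB : ∀ z ∈ sigmaCore Mstar, z ∈ Ks ⊔ K → z ∈ K := by
        intro z hz hzZ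
        apply hKmem z hz
        rw [mem_centralizer_iff]
        intro k hk
        rw [sup_comm] at hzZ
        exact bg14p_comm_of_cyclic hcyc (mem_sup_right hk) hzZ
      have hcent : ∀ a ∈ Ks, a ≠ 1 → Mstar ⊓ centralizer ({a} : Set G) ≤ Ks ⊔ K := by
        intro a ha ha1
        rw [sup_comm]
        exact (h34 k₀ hk₀ hk₀1 a ha ha1).2.1.le
      have hdisj' : Ks ⊓ K = ⊥ := by rw [inf_comm]; exact hdisj
      have hres := bg14p_elem hG hMstar hKstH hcent hB hdisj' hx₀ hx1' hc₀ hc1' hcomm hπ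
      apply hfin _ _ hgw'
      rcases hres with hres | ⟨m, hm1, hm2⟩
      · exact Or.inl hres
      · right
        refine ⟨m, ?_, fun hcon => hm2 hcon.symm⟩
        have e : K ⊔ Ks = Ks ⊔ K := sup_comm _ _
        rw [e]
        exact hm1

/-- Third clause of row S1379, second half: no conjugate of an element of `Ẑ` lies in any `Ñ`. -/
theorem bg14p_cover3b (hG : IsMinSimpleOddOrder G) {M K U Mstar : Subgroup G} (hM : IsCoatom M)
    (hKU : IsSigmaDecomposition M K U) (hK1 : K ≠ ⊥) (hMstar : IsCoatom Mstar)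
    (hKst : K = sigmaCore Mstar ⊓
      centralizer ((sigmaCore M ⊓ centralizer (K : Set G) : Subgroup G) : Set G))
    (hKstH : IsPiHallOf (kappa Mstar) (sigmaCore M ⊓ centralizer (K : Set G)) Mstar)
    {N : Subgroup G} (hN : IsCoatom N) (y : G) {z : G}
    (hz : z ∈ ((↑(K ⊔ (sigmaCore M ⊓ centralizer (K : Set G))) : Set G) \
      ((K : Set G) ∪ ↑(sigmaCore M ⊓ centralizer (K : Set G))))) :
    y * z * y⁻¹ ∉ tildeOf N ((sigmaCore N : Set G) \ {1}) := by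
  intro hmem
  obtain ⟨hinter, hcyc⟩ := Cfsg.Agent.S1368.result hG M hM K U hKU hK1 Mstar hMstar hKst hKstH
  obtain ⟨h67a, h67b⟩ := Cfsg.Agent.S1367.result hG M hM K U hKU hK1 Mstar hMstar hKst hKstH
  have hKσs : K ≤ sigmaCore Mstar := by
    intro u hu
    rw [hKst] at hu
    exact hu.1
  have hKmem : ∀ u : G, u ∈ sigmaCore Mstar →
      u ∈ centralizer ((sigmaCore M ⊓ centralizer (K : Set G) : Subgroup G) : Set G) →
      u ∈ K := by
    intro u h1 h2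
    rw [hKst]
    exact ⟨h1, h2⟩
  obtain ⟨Ks, hKs⟩ : ∃ Ks : Subgroup G, Ks = sigmaCore M ⊓ centralizer (K : Set G) := ⟨_, rfl⟩
  rw [← hKs] at hinter hcyc h67a hKmem hz
  have hKsσ : Ks ≤ sigmaCore M := by rw [hKs]; exact inf_le_left
  have hKsc : Ks ≤ centralizer (K : Set G) := by rw [hKs]; exact inf_le_right
  have hzN : z ∈ tildeOf N ((sigmaCore N : Set G) \ {1}) := by
    have h := bg14p_tilde_conj hmem y⁻¹
    have e : y⁻¹ * (y * z * y⁻¹) * y⁻¹⁻¹ = z := by group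
    rwa [e] at h
  obtain ⟨a, ρ, g, ha1, haσ, hρ, hzaρ, -, -, haz, -, -, -⟩ := bg14t_tilde_parts hG hN hzN
  have hN' := Cfsg.Agent.Helper47.isCoatom_map_conj hN g
  obtain ⟨N', hN'def⟩ : ∃ N' : Subgroup G, N' = N.map (MulAut.conj g).toMonoidHom := ⟨_, rfl⟩
  rw [← hN'def] at hN' haσ hρ
  obtain ⟨hzZ, hznot⟩ := hz
  obtain ⟨q, b, hq, -, -, hbza, hbord, -, -, -, hCa⟩ := bg14t_exists_prime hG haσ ha1
  have hzpZ : zpowers z ≤ K ⊔ Ks := zpowers_le.mpr hzZ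
  have haZ : a ∈ K ⊔ Ks := hzpZ haz
  have hbZ : b ∈ K ⊔ Ks := hzpZ ((zpowers_le.mpr haz) hbza)
  have hbN' : b ∈ sigmaCore N' := (zpowers_le.mpr haσ) hbza
  have hqZ : q ∣ Nat.card ↥(K ⊔ Ks) := by
    rw [← hbord]
    have h' := orderOf_dvd_natCard (⟨b, hbZ⟩ : ↥(K ⊔ Ks))
    rwa [Subgroup.orderOf_mk] at h'
  have hKsn : Ks ≤ normalizer (K : Set G) := hKsc.trans (centralizer_le_normalizer _)
  have hcardZ := Helper51.card_sup_mul_card_inf_of_le_normalizer Ks K hKsn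
  have hqprod : q ∣ Nat.card Ks * Nat.card K := by
    rw [← hcardZ, sup_comm]; exact Dvd.dvd.mul_right hqZ _
  have hZM : K ⊔ Ks ≤ M := hinter.symm.le.trans inf_le_left
  have hZMs : K ⊔ Ks ≤ Mstar := hinter.symm.le.trans inf_le_right
  have hbp : (orderOf b).Prime := by rw [hbord]; exact hq
  rcases hq.dvd_mul.mp hqprod with hqKs | hqK
  · have hqσM : orderOf b ∈ sigma M := by
      rw [hbord]
      exact mem_of_dvd_card_piCoreOf (sigma M) M hq
        (hqKs.trans (Subgroup.card_dvd_of_le hKsσ))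
    have hZA : ∀ u ∈ K ⊔ Ks, u ∈ sigmaCore M → u ∈ Ks := by
      intro u hu huσ
      rw [hKs]
      refine Subgroup.mem_inf.mpr ⟨huσ, ?_⟩
      rw [mem_centralizer_iff]
      intro k hk
      exact bg14p_comm_of_cyclic hcyc (mem_sup_left hk) hu
    have hzKs : a * ρ ∈ Ks := bg14p_not_tilde_aux hG hM hZM hZA
      (fun Y hY hYp => (h67a Y hY hYp).1) hN' haσ ha1 hρ haZ hbZ hbN' hbp hqσM hCa
    rw [← hzaρ] at hzKs
    exact hznot (Or.inr hzKs)
  · have hqσM : orderOf b ∈ sigma Mstar := by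
      rw [hbord]
      exact mem_of_dvd_card_piCoreOf (sigma Mstar) Mstar hq
        (hqK.trans (Subgroup.card_dvd_of_le hKσs))
    have hZA : ∀ u ∈ K ⊔ Ks, u ∈ sigmaCore Mstar → u ∈ K := by
      intro u hu huσ
      apply hKmem u huσ
      rw [mem_centralizer_iff]
      intro k hk
      exact bg14p_comm_of_cyclic hcyc (mem_sup_right hk) hu
    have hzK : a * ρ ∈ K := bg14p_not_tilde_aux hG hMstar hZMs hZA
      (fun Y hY hYp => (h67b Y hY hYp).1) hN' haσ ha1 hρ haZ hbZ hbN' hbp hqσM hCa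
    rw [← hzaρ] at hzK
    exact hznot (Or.inl hzK)

/-- Row S1379, given the existence of the partner `M*` (row S1366) and the two-classes statement
(second half of row S1369). -/
theorem bg14p_1379 (hG : IsMinSimpleOddOrder G)
    (h66 : ∀ (M K U : Subgroup G), IsCoatom M → IsSigmaDecomposition M K U → K ≠ ⊥ →
      ∃ Mstar : Subgroup G, IsCoatom Mstar ∧
        K = sigmaCore Mstar ⊓
          centralizer ((sigmaCore M ⊓ centralizer (K : Set G) : Subgroup G) : Set G) ∧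
        IsPiHallOf (kappa Mstar) (sigmaCore M ⊓ centralizer (K : Set G)) Mstar)
    (h69 : ∀ (M K U Mstar : Subgroup G), IsCoatom M → IsSigmaDecomposition M K U → K ≠ ⊥ →
      IsCoatom Mstar →
      K = sigmaCore Mstar ⊓
          centralizer ((sigmaCore M ⊓ centralizer (K : Set G) : Subgroup G) : Set G) →
      IsPiHallOf (kappa Mstar) (sigmaCore M ⊓ centralizer (K : Set G)) Mstar →
      ∀ H : Subgroup G, IsCoatom H → (kappa H).Nonempty →
        ∃ g : G, H = M.map (MulAut.conj g).toMonoidHom ∨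
          H = Mstar.map (MulAut.conj g).toMonoidHom) :
    (∀ M N : Subgroup G, IsCoatom M → IsCoatom N →
        (∀ g : G, N ≠ M.map (MulAut.conj g).toMonoidHom) →
        tildeOf M ((sigmaCore M : Set G) \ {1}) ∩ tildeOf N ((sigmaCore N : Set G) \ {1}) = ∅) ∧
      ((∀ M : Subgroup G, IsCoatom M → kappa M = ∅) →
        ∀ g : G, g ≠ 1 → ∃ M : Subgroup G, IsCoatom M ∧
          g ∈ tildeOf M ((sigmaCore M : Set G) \ {1})) ∧
      ∀ (M K U : Subgroup G), IsCoatom M → IsSigmaDecomposition M K U → K ≠ ⊥ →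
        (∀ g : G, g ≠ 1 → (∃ N : Subgroup G, IsCoatom N ∧
            g ∈ tildeOf N ((sigmaCore N : Set G) \ {1})) ∨
            ∃ y : G, ∃ z ∈ ((↑(K ⊔ (sigmaCore M ⊓ centralizer (K : Set G))) : Set G) \
              ((K : Set G) ∪ ↑(sigmaCore M ⊓ centralizer (K : Set G)))), g = y * z * y⁻¹) ∧
        ∀ N : Subgroup G, IsCoatom N → ∀ y : G,
          ∀ z ∈ ((↑(K ⊔ (sigmaCore M ⊓ centralizer (K : Set G))) : Set G) \
            ((K : Set G) ∪ ↑(sigmaCore M ⊓ centralizer (K : Set G)))),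
          y * z * y⁻¹ ∉ tildeOf N ((sigmaCore N : Set G) \ {1}) := by
  refine ⟨fun M N hM hN hnc => bg14t_tilde_disjoint hG hM hN hnc,
    fun hκ g hg1 => bg14p_cover2 hG hκ g hg1, ?_⟩
  intro M K U hM hKU hK1
  obtain ⟨Mstar, hMstar, hKst, hKstH⟩ := h66 M K U hM hKU hK1
  exact ⟨fun g hg1 => bg14p_cover3a hG hM hKU hK1 hMstar hKst hKstH
      (h69 M K U Mstar hM hKU hK1 hMstar hKst hKstH) g hg1,
    fun N hN y z hz => bg14p_cover3b hG hM hKU hK1 hMstar hKst hKstH hN y hz⟩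

end Cfsg.Agent.Helper54
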