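/-
helper54: piece EXC (double) of CALL BG17 (helper25, row S1381).
-/
import Cfsg.Agent.Helper22.BG10c
import Cfsg.Agent.Helper22.Transitivity
import Cfsg.Agent.Helper47.BG14RK
import Cfsg.Agent.Helper68.BG14R30
import Cfsg.Agent.Helper78.BG157HC
import Cfsg.Agent.S1417

set_option autoImplicit false

namespace Cfsg.Agent.Helper54

open Cfsg Subgroup

universe u

variable {G : Type u} [Group G] [Finite G]

/-- EXC. For `r ∈ τ₂(M)` dividing `|U|`: `Ω₁` of the `r`-part of `U` is a subgroup `A` of order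
`r²` containing an element `a` of order `r` without fixed points on `M_σ`. -/
theorem bg17_tau2_data (hG : IsMinSimpleOddOrder G) {M K U : Subgroup G} (hM : IsCoatom M)
    (hKU : IsSigmaDecomposition M K U) (hK1 : K ≠ ⊥) {r : ℕ} (hr : r ∈ tau2 M)
    (hrU : r ∣ Nat.card U) :
    ∃ A : Subgroup G, A ≤ U ∧ Nat.card A = r ^ 2 ∧ (∀ y ∈ U, y ^ r = 1 → y ∈ A) ∧
      ∃ a ∈ A, orderOf a = r ∧ ∀ x ∈ sigmaCore M, a * x = x * a → x = 1 := by
  have hrp : r.Prime := hr.1
  haveI := Fact.mk hrp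
  have hUM : U ≤ M := hKU.compl.1
  have hUc : IsMulCommutative U := Cfsg.Agent.Helper68.bg14r_U_comm hG hM hKU hK1
  have hcomm : ∀ a ∈ U, ∀ b ∈ U, a * b = b * a := fun a ha b hb => by
    have h := hUc.is_comm.comm (⟨a, ha⟩ : U) ⟨b, hb⟩
    exact congrArg Subtype.val h
  have hUhall := Cfsg.Agent.Helper68.bg14r_U_hall hG hM hKU
  obtain ⟨A₀, hA₀M, hA₀c, hA₀e, hA₀card⟩ :=
    Cfsg.Agent.Helper22.bg10_exists_elemAb_sq hrp hr.2.2.2
  obtain ⟨m, hm, hmU⟩ := Cfsg.Agent.Helper78.bg157_hall_conj hG hM hUhall hA₀M (by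
    intro p hp hpd
    rw [hA₀card] at hpd
    have h3 := hp.dvd_of_dvd_pow hpd
    rw [(Nat.prime_dvd_prime_iff_eq hp hrp).mp h3]
    exact ⟨hrp, fun hκ => hr.2.2.2 (Cfsg.Agent.Helper47.bg14_rank_of_kappa hκ), hr.2.1⟩)
  have hAcard : Nat.card (A₀.map (MulAut.conj m).toMonoidHom) = r ^ 2 := by
    rw [← hA₀card]
    exact Subgroup.card_map_of_injective (MulAut.conj m).injective
  have hAc : ∀ a ∈ A₀.map (MulAut.conj m).toMonoidHom,
      ∀ b ∈ A₀.map (MulAut.conj m).toMonoidHom, a * b = b * a := by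
    rintro _ ⟨a, ha, rfl⟩ _ ⟨b, hb, rfl⟩
    rw [← map_mul, ← map_mul, hA₀c a ha b hb]
  have hAe : ∀ a ∈ A₀.map (MulAut.conj m).toMonoidHom, a ^ r = 1 := by
    rintro _ ⟨a, ha, rfl⟩
    rw [← map_pow, hA₀e a ha, map_one]
  have hAel : IsElementaryAbelian r (A₀.map (MulAut.conj m).toMonoidHom) :=
    ⟨⟨⟨fun x y => Subtype.ext (hAc x x.2 y y.2)⟩⟩, hAe⟩
  have h17 := Cfsg.Agent.S1417.result hG M hM r hr (A₀.map (MulAut.conj m).toMonoidHom)
    ⟨hmU.trans hUM, hAel, hAcard⟩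
  refine ⟨A₀.map (MulAut.conj m).toMonoidHom, hmU, hAcard, ?_, ?_⟩
  · intro y hy hyr
    -- the r-subgroup A ⊔ <y>
    have hn : A₀.map (MulAut.conj m).toMonoidHom ≤ normalizer ((zpowers y : Subgroup G) : Set G) := by
      intro e he
      rw [mem_normalizer_iff]
      intro z
      have heU : e ∈ U := hmU he
      constructor
      · intro hz
        have hc := hcomm e heU z (zpowers_le.mpr hy hz)
        rw [hc, mul_inv_cancel_right]
        exact hz
      · intro hz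
        have hc := hcomm e heU _ (zpowers_le.mpr hy hz)
        have e1 : z = e⁻¹ * ((e * z * e⁻¹) * e) := by group
        rw [e1, ← hc, inv_mul_cancel_left]
        exact hz
    have hYe : ∀ g ∈ A₀.map (MulAut.conj m).toMonoidHom ⊔ zpowers y, g ^ r = 1 := by
      intro g hg
      obtain ⟨a, ha, z, hz, rfl⟩ := Cfsg.Agent.Helper22.exists_mul_of_mem_sup' hn hg
      have hcz : Commute a z := hcomm a (hmU ha) z (zpowers_le.mpr hy hz)
      rw [hcz.mul_pow, hAe a ha, one_mul]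
      obtain ⟨j, rfl⟩ := mem_zpowers_iff.mp hz
      rw [← zpow_natCast, ← zpow_mul, mul_comm, zpow_mul, zpow_natCast, hyr, one_zpow]
    have hYM : A₀.map (MulAut.conj m).toMonoidHom ⊔ zpowers y ≤ M :=
      sup_le (hmU.trans hUM) (zpowers_le.mpr (hUM hy))
    have hYp : IsPGroup r ↥(A₀.map (MulAut.conj m).toMonoidHom ⊔ zpowers y) := fun b => ⟨1, by
      rw [pow_one]
      exact Subtype.ext (by rw [Subgroup.coe_pow, Subgroup.coe_one]; exact hYe b b.2)⟩
    obtain ⟨P, hP⟩ := (hYp.comap_subtype (K := M)).exists_le_sylow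
    have hin : ∀ g ∈ A₀.map (MulAut.conj m).toMonoidHom ⊔ zpowers y,
        g ∈ (P : Subgroup ↥M).map M.subtype := by
      intro g hg
      exact Subgroup.mem_map.mpr ⟨⟨g, hYM hg⟩, hP (by
        show (⟨g, hYM hg⟩ : ↥M) ∈ (A₀.map (MulAut.conj m).toMonoidHom ⊔ zpowers y).comap M.subtype
        exact hg), rfl⟩
    have h2 := ((h17.2.1 P).2 (fun g hg => hin g (mem_sup_left hg))).1
    exact (h2 y (hin y (mem_sup_right (mem_zpowers y)))).mp hyr
  · obtain ⟨A₁, hA₁A, hA₁card, hA₁fix⟩ := h17.2.2.2.2.2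
    have hne : A₁ ≠ ⊥ := by
      intro e
      rw [e, Subgroup.card_bot] at hA₁card
      exact hrp.one_lt.ne hA₁card
    obtain ⟨a, ha, ha1⟩ : ∃ a ∈ A₁, a ≠ 1 := by
      by_contra hcon
      exact hne ((Subgroup.eq_bot_iff_forall A₁).mpr fun x hx => by
        by_contra hx1
        exact hcon ⟨x, hx, hx1⟩)
    have hoa : orderOf a = r := by
      have h' := orderOf_dvd_natCard (⟨a, ha⟩ : A₁)
      rw [Subgroup.orderOf_mk, hA₁card] at h'
      rcases (Nat.dvd_prime hrp).mp h' with h3 | h3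
      · exact absurd (orderOf_eq_one_iff.mp h3) ha1
      · exact h3
    have hz : zpowers a = A₁ :=
      Subgroup.eq_of_le_of_card_ge (zpowers_le.mpr ha) (by rw [Nat.card_zpowers, hoa, hA₁card])
    refine ⟨a, hA₁A ha, hoa, ?_⟩
    intro x hx hax
    have hxc : x ∈ sigmaCore M ⊓ centralizer (A₁ : Set G) := by
      refine Subgroup.mem_inf.mpr ⟨hx, ?_⟩
      rw [mem_centralizer_iff, ← hz]
      rintro z ⟨n, rfl⟩
      exact ((show Commute a x from hax).zpow_left n).eq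
    rw [hA₁fix] at hxc
    exact Subgroup.mem_bot.mp hxc

end Cfsg.Agent.Helper54
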