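import Cfsg.Agent.Helper22.BG13iDefs
import Cfsg.Agent.Helper22.BG14Defs
import Cfsg.Agent.Helper22.Transitivity
import Cfsg.Agent.Helper1.BG139Defs
import Cfsg.Agent.Helper54.BG14T
import Cfsg.Agent.Helper23.BG1210c
import Cfsg.Agent.S1418

set_option autoImplicit false

namespace Cfsg.Agent.Helper54

open Cfsg Subgroup Cfsg.Agent.Helper22

universe u

variable {G : Type u} [Group G] [Finite G]

/-- PIECE NX1 of CALL S1351A. `X ≤ M` of order `u ∈ σ(M)` with `C_G(X) ≰ M`: a maximal subgroup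
`L ≥ N_G(X)`, `u ∈ τ₂(L)`, and an elementary abelian `A ≤ M ⊓ L` of order `u²` containing `X`,
with `L_σ ⊓ M = ⊥`. -/
theorem bg13i_nx1 (hG : IsMinSimpleOddOrder G) {M X : Subgroup G} (hM : IsCoatom M) {u : ℕ}
    (hu : u ∈ sigma M) (hXM : X ≤ M) (hXc : Nat.card X = u)
    (hCX : ¬ centralizer (X : Set G) ≤ M) :
    ∃ L A : Subgroup G, IsCoatom L ∧ L ≠ M ∧ normalizer (X : Set G) ≤ L ∧ u ∈ tau2 L ∧ A ≤ M ∧
      A ≤ L ∧ IsElementaryAbelian u A ∧ Nat.card A = u ^ 2 ∧ X ≤ A ∧ sigmaCore L ⊓ M = ⊥ := by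
  have hup : u.Prime := hu.1
  have : Fact u.Prime := ⟨hup⟩
  have hN : ¬ normalizer (X : Set G) ≤ M := fun h =>
    hCX ((centralizer_le_normalizer (X : Set G)).trans h)
  obtain ⟨L, hL, hNL, hLM, -, hτ, hcomp⟩ := bg14t_over hG hM hu hXM hXc hN
  obtain ⟨A, hAE, hA, hAc⟩ := Helper23.bg1210_exists_elemAb_le hG hL hcomp hτ
  have hXL : X ≤ L := le_normalizer.trans hNL
  have hXA : X ≤ A :=
    (Cfsg.Agent.S1418.result hG L hL (M ⊓ L) hcomp u hτ A ⟨hAE, hA, hAc⟩).1.2 X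
      (le_inf hXM hXL) hXc
  refine ⟨L, A, hL, hLM, hNL, hτ, hAE.trans inf_le_left, hAE.trans inf_le_right, hA, hAc, hXA, ?_⟩
  have h1 : sigmaCore L ⊓ M ≤ (M ⊓ L) ⊓ sigmaCore L :=
    le_inf (le_inf inf_le_right (inf_le_left.trans hcomp.2.1)) inf_le_left
  rw [hcomp.2.2.1] at h1
  exact le_bot_iff.mp h1

end Cfsg.Agent.Helper54
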