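import Cfsg.Agent.Helper22.BG13iDefs
import Cfsg.Agent.Helper22.BG14Defs
import Cfsg.Agent.Helper22.Transitivity
import Cfsg.Agent.Helper1.BG139Defs
import Cfsg.Agent.Helper20.BG13P4
import Cfsg.Agent.Helper22.BG12b
import Cfsg.Agent.Helper23.Trans
import Cfsg.Agent.S1418
import Cfsg.Agent.S1403

set_option autoImplicit false

namespace Cfsg.Agent.Helper54

open Cfsg Subgroup Cfsg.Agent.Helper22

universe u

variable {G : Type u} [Group G] [Finite G]

/-- PIECE NX2 of CALL S1351A. `u ∈ τ₂(L)`, `A ≤ W ≤ L` elementary abelian of order `u²`,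
`L_σ ⊓ W = ⊥`: then `W` normalizes `A`. -/
theorem bg13i_nx2 (hG : IsMinSimpleOddOrder G) {L A W : Subgroup G} (hL : IsCoatom L) {u : ℕ}
    (hu : u ∈ tau2 L) (hWL : W ≤ L) (hAW : A ≤ W) (hA : IsElementaryAbelian u A)
    (hAc : Nat.card A = u ^ 2) (hW : sigmaCore L ⊓ W = ⊥) : W ≤ normalizer (A : Set G) := by
  have hU : BGUniq G := fun K hK h1 h2 => Cfsg.Agent.S1403.result hG K hK h1 h2
  have hup : u.Prime := hu.1
  have : Fact u.Prime := ⟨hup⟩
  have hcop : (Nat.card W).Coprime (Nat.card (sigmaCore L)) := by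
    by_contra hnc
    obtain ⟨q, hq, hqW, hqS⟩ := Nat.Prime.not_coprime_iff_dvd.mp hnc
    have hqσ : q ∈ sigma L := Helper23.mem_of_dvd_card_piCoreOf (sigma L) L hq hqS
    have : Fact q.Prime := ⟨hq⟩
    obtain ⟨w, hw⟩ := exists_prime_orderOf_dvd_card' (G := ↥W) q hqW
    have hwL : zpowers (w : G) ≤ L := by
      rw [zpowers_le]
      exact hWL w.2
    have hwo : orderOf (w : G) = q := by
      rw [Subgroup.orderOf_coe, hw]
    have hQ : IsPGroup q (zpowers (w : G)) :=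
      IsPGroup.of_card (n := 1) (by rw [Nat.card_zpowers, hwo, pow_one])
    have hle := Helper22.bg12_le_sigmaCore hG hU hL hq hqσ hwL hQ
    have hmem : (w : G) ∈ sigmaCore L ⊓ W := ⟨hle (mem_zpowers _), w.2⟩
    rw [hW, mem_bot] at hmem
    rw [hmem, orderOf_one] at hwo
    exact hq.one_lt.ne hwo
  obtain ⟨E, hE, hWE⟩ := Helper20.bg13_exists_compl_ge hG hU hL hWL hcop
  exact hWE.trans (Cfsg.Agent.S1418.result hG L hL E hE u hu A ⟨hAW.trans hWE, hA, hAc⟩).1.1

end Cfsg.Agent.Helper54
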