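import Cfsg.Agent.Helper2.BG147Defs
import Cfsg.Agent.Helper49.BG14U
import Cfsg.Agent.S1354

set_option autoImplicit false

namespace Cfsg.Agent.Helper54

open Cfsg Subgroup Cfsg.Agent.Helper2

universe u

variable {G : Type u} [Group G] [Finite G]

/-- A nontrivial subgroup of a subgroup of prime order is the whole subgroup. -/
theorem bg147_npr_aux {A B : Subgroup G} (hAB : A ≤ B) (hA : A ≠ ⊥) (hB : (Nat.card B).Prime) :
    B ≤ A := by
  have hd : Nat.card A ∣ Nat.card B := Subgroup.card_dvd_of_le hAB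
  rcases (Nat.dvd_prime hB).mp hd with h | h
  · exact absurd (Subgroup.eq_bot_of_card_eq A h) hA
  · exact (Subgroup.eq_of_le_of_card_ge hAB h.ge).ge

/-- CALL S1366, piece NPR (C2). If `K ∩ K₁ ≠ 1` then neither `|K|` nor `|K₁|` is a prime. -/
theorem bg147_not_prime (hG : IsMinSimpleOddOrder G) {M K L K₁ : Subgroup G} (hM : IsCoatom M)
    (hK : IsPiHallOf (kappa M) K M) (hKc : IsCyclic K) (hK1 : K ≠ ⊥) (hK₁c : IsCyclic K₁)
    (hp : BGPair M K L K₁) (h : K ⊓ K₁ ≠ ⊥) :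
    ¬ (Nat.card K).Prime ∧ ¬ (Nat.card K₁).Prime := by
  have hKs1 : sigmaCore M ⊓ centralizer (K : Set G) ≠ ⊥ :=
    (Cfsg.Agent.S1354.result hG M hM K hKc hK).1
  have hK₁s1 : sigmaCore L ⊓ centralizer (K₁ : Set G) ≠ ⊥ :=
    (Cfsg.Agent.S1354.result hG L hp.coatom K₁ hK₁c hp.hall).1
  have hKσ : K ⊓ sigmaCore M = ⊥ := Cfsg.Agent.Helper49.bg14u_kappa_inf_sigma hK.2.1
  have hK₁σ : K₁ ⊓ sigmaCore L = ⊥ := Cfsg.Agent.Helper49.bg14u_kappa_inf_sigma hp.hall.2.1
  constructor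
  · intro hpr
    have hle : K ≤ K₁ := (bg147_npr_aux inf_le_left h hpr).trans inf_le_right
    apply hK₁s1
    rw [eq_bot_iff, ← hK₁σ]
    exact le_inf (hp.ks1_le.trans hle) inf_le_left
  · intro hpr
    have hle : K₁ ≤ K := (bg147_npr_aux inf_le_right h hpr).trans inf_le_left
    apply hKs1
    rw [eq_bot_iff, ← hKσ]
    exact le_inf (hp.ks_le.trans hle) inf_le_left

end Cfsg.Agent.Helper54
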