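/-
helper54: piece HM (double) of CALL BG16 (row S1389): `M_σ` and `M_F` are Hall subgroups of `M`.
-/
import Cfsg.Agent.Helper22.BG10b
import Cfsg.Agent.Helper23.FittingHall
import Cfsg.Agent.S1403

set_option autoImplicit false

namespace Cfsg.Agent.Helper54

open Cfsg Subgroup

universe u

variable {G : Type u} [Group G] [Finite G]

/-- HM. `M_σ` and `M_F` are Hall subgroups of `M`. -/
theorem bg16_hall_facts (hG : IsMinSimpleOddOrder G) (M : Subgroup G) (hM : IsCoatom M) :
    (Nat.card (sigmaCore M)).Coprime ((sigmaCore M).relIndex M) ∧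
      (Nat.card (fittingHallOf M)).Coprime ((fittingHallOf M).relIndex M) := by
  have hU : Cfsg.Agent.Helper22.BGUniq G :=
    fun K hK h1 h2 => Cfsg.Agent.S1403.result hG K hK h1 h2
  obtain ⟨⟨-, hπ, hidx⟩, -, -⟩ := Cfsg.Agent.Helper22.bg10_sigma_hall hG hU hM
  refine ⟨?_, ?_⟩
  · apply Nat.coprime_of_dvd
    intro q hq h1 h2
    exact hidx q hq (hπ q hq h1) h2
  · have h1 := Cfsg.Agent.Helper23.fittingHall_coprime ↥M
    have h2 : Nat.card (fittingHallOf M) = Nat.card (fittingHall ↥M) :=
      Subgroup.card_map_of_injective M.subtype_injective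
    have h3 : (fittingHallOf M).relIndex M = (fittingHall ↥M).index := by
      unfold fittingHallOf Subgroup.relIndex Subgroup.subgroupOf
      rw [Subgroup.comap_map_eq_self_of_injective M.subtype_injective]
    rw [h2, h3]
    exact h1

end Cfsg.Agent.Helper54
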