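import Cfsg.Agent.Helper68.BG63Defs
import Cfsg.Agent.Helper35.CoprimeGen2
import Cfsg.Agent.Helper22.BG10c
import Cfsg.Agent.Helper22.BG12a
import Cfsg.Agent.Helper23.Rank2Fit
import Cfsg.Agent.Helper24.BG11b
import Cfsg.Agent.S1420
import Cfsg.Agent.S1417
import Cfsg.Agent.S1403

set_option autoImplicit false

namespace Cfsg.Agent.Helper54

open Cfsg Subgroup Cfsg.Agent.Helper22

universe u

variable {G : Type u} [Group G] [Finite G]

/-- An abelian subgroup which is not cyclic has `t`-rank at least `2` for some prime `t`. -/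
theorem bg63w_rank {W : Subgroup G} (hWc : ∀ a ∈ W, ∀ b ∈ W, a * b = b * a)
    (hW : ¬ IsCyclic ↥W) : ∃ t : ℕ, t.Prime ∧ ¬ PRankLE t 1 ↥W := by
  have hL : ¬ ∃ a ∈ W, (⊥ : Subgroup G) ⊔ zpowers a = W := by
    rintro ⟨a, ha, h⟩
    rw [bot_sup_eq] at h
    apply hW
    rw [← h]
    infer_instance
  obtain ⟨t, ht, a, ha, b, hb, hat, hbt, ha1, hab⟩ :=
    Cfsg.Agent.Helper35.exists_prime_elts_of_not_cyclic_quotient hWc bot_le hL
  rw [mem_bot] at hat hbt ha1
  refine ⟨t, ht, ?_⟩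
  have hAW : zpowers a ⊔ zpowers b ≤ W := sup_le (zpowers_le.mpr ha) (zpowers_le.mpr hb)
  have hn : zpowers b ≤ normalizer (zpowers a : Set G) := by
    intro e he
    rw [mem_normalizer_iff]
    intro h
    have heW : e ∈ W := zpowers_le.mpr hb he
    constructor
    · intro hh
      have hc := hWc e heW h (zpowers_le.mpr ha hh)
      rw [hc, mul_inv_cancel_right]
      exact hh
    · intro hh
      have hc := hWc e heW _ (zpowers_le.mpr ha hh)
      have e1 : h = e⁻¹ * ((e * h * e⁻¹) * e) := by group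
      rw [e1, ← hc, inv_mul_cancel_left]
      exact hh
  have hAe : ∀ x ∈ zpowers a ⊔ zpowers b, x ^ t = 1 := by
    intro x hx
    obtain ⟨s, hs, e, he, rfl⟩ :=
      Cfsg.Agent.Helper35.exists_mul_of_mem_sup_of_le_normalizer hn hx
    have hcomm : Commute s e := hWc s (zpowers_le.mpr ha hs) e (zpowers_le.mpr hb he)
    rw [hcomm.mul_pow]
    obtain ⟨i, rfl⟩ := mem_zpowers_iff.mp hs
    obtain ⟨j, rfl⟩ := mem_zpowers_iff.mp he
    have h1 : (a ^ i) ^ t = 1 := by
      rw [← zpow_natCast, ← zpow_mul, mul_comm, zpow_mul, zpow_natCast, hat, one_zpow]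
    have h2 : (b ^ j) ^ t = 1 := by
      rw [← zpow_natCast, ← zpow_mul, mul_comm, zpow_mul, zpow_natCast, hbt, one_zpow]
    rw [h1, h2, mul_one]
  have hcard : t < Nat.card ↥(zpowers a ⊔ zpowers b) := by
    by_contra hle
    push Not at hle
    have : Fact t.Prime := ⟨ht⟩
    have hoa : orderOf a = t := orderOf_eq_prime hat ha1
    have heq : zpowers a = zpowers a ⊔ zpowers b :=
      Subgroup.eq_of_le_of_card_ge le_sup_left (by rw [Nat.card_zpowers, hoa]; exact hle)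
    have hbz : b ∈ zpowers a := by rw [heq]; exact mem_sup_right (mem_zpowers b)
    have hbi : b⁻¹ ∈ zpowers a := inv_mem hbz
    rw [← mem_powers_iff_mem_zpowers] at hbi
    obtain ⟨n, hn'⟩ := (Submonoid.mem_powers_iff _ _).mp hbi
    apply hab n
    rw [mem_bot, hn', inv_mul_cancel]
  intro h
  have h2 := Cfsg.Agent.Helper23.pRankLE_of_le hAW h
  have h3 := h2 ⊤
    ⟨⟨fun x y => Subtype.ext (Subtype.ext (hWc _ (hAW x.1.2) _ (hAW y.1.2)))⟩⟩
    (fun x _ => Subtype.ext (by simpa using hAe x x.2))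
  rw [Subgroup.card_top, pow_one] at h3
  omega

/-- CALL S1363, piece C2A. For a complement `E` of `H_σ` in `H`, the group `C_{E'}(H_σ)` is
cyclic. -/
theorem bg63_W_cyclic (hG : IsMinSimpleOddOrder G) {H E : Subgroup G} (hH : IsCoatom H)
    (hE : IsComplIn E (sigmaCore H) H) :
    IsCyclic ↥(⁅E, E⁆ ⊓ centralizer (sigmaCore H : Set G)) := by
  have hU : BGUniq G := fun K hK h1 h2 => Cfsg.Agent.S1403.result hG K hK h1 h2
  by_contra hW
  have hEc : IsMulCommutative ↥⁅E, E⁆ := (Cfsg.Agent.S1420.result hG H hH E hE).2.1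
  have hWc : ∀ a ∈ ⁅E, E⁆ ⊓ centralizer (sigmaCore H : Set G),
      ∀ b ∈ ⁅E, E⁆ ⊓ centralizer (sigmaCore H : Set G), a * b = b * a := by
    intro a ha b hb
    have h := hEc.is_comm.comm (⟨a, ha.1⟩ : ↥⁅E, E⁆) ⟨b, hb.1⟩
    exact congrArg Subtype.val h
  obtain ⟨t, ht, hrkW⟩ := bg63w_rank hWc hW
  have : Fact t.Prime := ⟨ht⟩
  have hWE : ⁅E, E⁆ ⊓ centralizer (sigmaCore H : Set G) ≤ E :=
    inf_le_left.trans (Subgroup.commutator_le_self E)
  have hWH : ⁅E, E⁆ ⊓ centralizer (sigmaCore H : Set G) ≤ H := hWE.trans hE.1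
  obtain ⟨A, hAW, hAc, hAe, hAcard⟩ := bg10_exists_elemAb_sq ht hrkW
  have htE : t ∣ Nat.card E := by
    have h1 : t ∣ Nat.card A := by rw [hAcard]; exact dvd_pow_self t (by norm_num)
    exact h1.trans (Subgroup.card_dvd_of_le (hAW.trans hWE))
  have htσ : t ∉ sigma H := bg12_not_sigma_of_dvd hG hU hH hE ht htE
  have hrk : ¬ PRankLE t 1 ↥H := fun h => hrkW (Cfsg.Agent.Helper23.pRankLE_of_le hWH h)
  have hτ : t ∈ tau2 H :=
    ⟨ht, htσ, bg10_pRank_of_not_alpha H t ht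
      (fun hα => htσ (bg10_alpha_sub_sigma hG hU hH hα)), hrk⟩
  have hAel : IsElementaryAbelian t A :=
    ⟨⟨⟨fun x y => Subtype.ext (hAc x x.2 y y.2)⟩⟩, hAe⟩
  have h17 := (Cfsg.Agent.S1417.result hG H hH t hτ A ⟨hAW.trans hWH, hAel, hAcard⟩).2.2.2.1
  have hle : sigmaCore H ≤ centralizer (A : Set G) := by
    rw [Subgroup.le_centralizer_iff]
    exact hAW.trans inf_le_right
  apply Cfsg.Agent.Helper24.bg11b_sigmaCore_ne_bot hG hU hH
  rw [eq_bot_iff, ← h17]
  exact le_inf le_rfl hle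

end Cfsg.Agent.Helper54
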