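/-
helper54: piece FIXQ (double) of CALL S1435 (helper23, prefix bg65_).
-/
import Cfsg.Agent.Helper23.BG65Defs
import Cfsg.Agent.Helper23.Trans
import Cfsg.Agent.Helper23.Uniq
import Cfsg.Agent.Helper47.Syl
import Cfsg.Agent.Helper54.BG14T3
import Cfsg.Agent.Helper1.BGUniqA
import Cfsg.Agent.S1367
import Cfsg.Agent.S1372
import Cfsg.Agent.S1425
import Cfsg.Agent.S1432

set_option autoImplicit false

namespace Cfsg.Agent.Helper54

open Cfsg Subgroup Cfsg.Agent.Helper23

universe u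

variable {G : Type u} [Group G] [Finite G] {M K U Mstar H : Subgroup G}

/-- FIXQ. `q ∈ σ(M*)` if some `a` of order `q` centralizes `k ∈ K#` and commutes with `w ∈ H`
of order `q`, where `k w ≠ w k`, `w` commutes with `k w k⁻¹`, and `H` is the unique maximal
subgroup over `C_G(w)`. -/
theorem bg65_fix_sigma (c : BG65Ctx M K U Mstar) (h : BG65H M K U Mstar H) {q : ℕ}
    (hq : q.Prime) {k a w : G} (hk : k ∈ K) (hk1 : k ≠ 1) (ha : orderOf a = q)
    (hka : k * a = a * k) (hwH : w ∈ H) (hw : orderOf w = q) (haw : a * w = w * a)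
    (hkw : k * w ≠ w * k) (hww : (k * w * k⁻¹) * w = w * (k * w * k⁻¹))
    (huniq : ∀ L : Subgroup G, IsCoatom L → centralizer ({w} : Set G) ≤ L → L = H) :
    q ∈ sigma Mstar := by
  by_contra hqσ
  have h72 := Cfsg.Agent.S1372.result c.hG M c.hM K U c.hKU c.hK1 c.hU1
  have hKp : (Nat.card K).Prime := h72.1
  have hKσ : K ≤ sigmaCore Mstar := by
    have h1 := c.hKst
    intro y hy
    rw [h1] at hy
    exact hy.1
  have hok : orderOf k = Nat.card K := by
    have h' := orderOf_dvd_natCard (⟨k, hk⟩ : K)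
    rw [Subgroup.orderOf_mk] at h'
    rcases (Nat.dvd_prime hKp).mp h' with h2 | h2
    · exact absurd (orderOf_eq_one_iff.mp h2) hk1
    · exact h2
  have hZp : (Nat.card (zpowers k)).Prime := by
    rw [Nat.card_zpowers, hok]
    exact hKp
  have h67 := ((Cfsg.Agent.S1367.result c.hG M c.hM K U c.hKU c.hK1 Mstar c.hMstar c.hKst
    c.hKstH).2 (zpowers k) (zpowers_le.mpr hk) hZp).1
  have haC : a ∈ centralizer ((zpowers k : Subgroup G) : Set G) := by
    rw [mem_centralizer_iff]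
    rintro z ⟨n, rfl⟩
    exact ((show Commute k a from hka).zpow_left n).eq
  have haMs : a ∈ Mstar := h67 haC
  have ha1 : a ≠ 1 := by
    intro hh
    rw [hh, orderOf_one] at ha
    exact hq.one_lt.ne ha
  have hw1 : w ≠ 1 := by
    intro hh
    rw [hh, orderOf_one] at hw
    exact hq.one_lt.ne hw
  have hak : a ∈ Mstar ⊓ centralizer ({k} : Set G) := by
    refine Subgroup.mem_inf.mpr ⟨haMs, ?_⟩
    rw [mem_centralizer_iff]
    intro z hz
    rw [Set.mem_singleton_iff] at hz
    rw [hz]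
    exact hka
  have hσa : ∀ p : ℕ, p.Prime → p ∣ orderOf a → p ∉ sigma Mstar := by
    intro p hp hpd
    rw [ha] at hpd
    rw [(Nat.prime_dvd_prime_iff_eq hp hq).mp hpd]
    exact hqσ
  rcases Cfsg.Agent.S1432.result c.hG Mstar c.hMstar k (hKσ hk) hk1 a hak ha1 hσa with
    ⟨h1, -⟩ | ⟨-, -, h3, -⟩
  · -- q ∈ κ(M*)
    have hqκ : q ∈ kappa Mstar := h1 q hq (by rw [ha])
    have hnd := c.hKstH.2.2 q hq hqκ
    have hmul := Subgroup.relIndex_mul_relIndex ⊥ (sigmaCore M ⊓ centralizer (K : Set G)) Mstar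
      bot_le c.hKstH.1
    rw [Subgroup.relIndex_bot_left, Subgroup.relIndex_bot_left] at hmul
    have hd : q ∣ Nat.card ↥(sigmaCore M ⊓ centralizer (K : Set G)) := by
      have h4 : q ∣ Nat.card ↥(sigmaCore M ⊓ centralizer (K : Set G)) *
          (sigmaCore M ⊓ centralizer (K : Set G)).relIndex Mstar := by
        rw [hmul]
        exact hqκ.2.1
      rcases hq.dvd_mul.mp h4 with h5 | h5
      · exact h5
      · exact absurd h5 hnd
    have hqσM : q ∈ sigma M := mem_of_dvd_card_piCoreOf (sigma M) M hq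
      (hd.trans (Subgroup.card_dvd_of_le inf_le_left))
    have hZ1 : zpowers w ≠ ⊥ := fun e => hw1 (zpowers_eq_bot.mp e)
    obtain ⟨g, hg⟩ := Cfsg.Agent.S1425.result c.hG M c.hM (zpowers w) hZ1 (by
      intro p hp hpd
      rw [Nat.card_zpowers, hw] at hpd
      rw [(Nat.prime_dvd_prime_iff_eq hp hq).mp hpd]
      exact hqσM)
    have hx : g * w * g⁻¹ ∈ sigmaCore M :=
      hg (Subgroup.mem_map_of_mem (MulAut.conj g).toMonoidHom (mem_zpowers w))
    have hxF : g * w * g⁻¹ ∈ fittingOf M := h72.2.2 hx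
    have hx1 : g * w * g⁻¹ ≠ 1 := by
      intro hh
      apply hw1
      have e : w = g⁻¹ * (g * w * g⁻¹) * g := by group
      rw [e, hh, mul_one, inv_mul_cancel]
    have hF1 : fittingOf M ≠ ⊥ := by
      intro e
      rw [e] at hxF
      exact hx1 (Subgroup.mem_bot.mp hxF)
    have hNF : normalizer (fittingOf M : Set G) = M :=
      uq_normalizer_eq c.hG c.hM hF1 (Cfsg.Agent.Helper1.bgu_fittingOf_le M)
        (Cfsg.Agent.Helper1.bgu_le_normalizer_fittingOf M)
    have hCw : centralizer ({w} : Set G) ≤ M.map (MulAut.conj g⁻¹).toMonoidHom := by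
      intro y hy
      have hyw : y * w = w * y := ((mem_centralizer_iff.mp hy) w (Set.mem_singleton w)).symm
      have hconj : (g * y * g⁻¹) * (g * w * g⁻¹) * (g * y * g⁻¹)⁻¹ = g * w * g⁻¹ := by
        have e : (g * y * g⁻¹) * (g * w * g⁻¹) * (g * y * g⁻¹)⁻¹ = g * (y * w * y⁻¹) * g⁻¹ := by
          group
        rw [e, hyw, mul_inv_cancel_right]
      have hN : g * y * g⁻¹ ∈ normalizer (fittingOf M : Set G) := by
        by_contra hnot
        exact hx1 (h72.2.1 (g * y * g⁻¹) hnot (g * w * g⁻¹) hxF (by rw [hconj]; exact hxF))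
      rw [hNF] at hN
      refine Subgroup.mem_map.mpr ⟨g * y * g⁻¹, hN, ?_⟩
      show g⁻¹ * (g * y * g⁻¹) * g⁻¹⁻¹ = y
      group
    have hco := Cfsg.Agent.Helper47.isCoatom_map_conj c.hM g⁻¹
    exact h.hnM g⁻¹ (huniq _ hco hCw).symm
  · -- C_G(a) ≤ M*
    have hwC : w ∈ centralizer ({a} : Set G) := by
      rw [mem_centralizer_iff]
      intro z hz
      rw [Set.mem_singleton_iff] at hz
      rw [hz]
      exact haw
    have hwMs : w ∈ Mstar := h3 hwC
    have hMsn : Mstar ≤ normalizer (sigmaCore Mstar : Set G) :=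
      le_normalizer_piCoreOf (sigma Mstar) Mstar
    have hv : k * w * k⁻¹ * w⁻¹ ∈ sigmaCore Mstar := by
      have h2 : w * k⁻¹ * w⁻¹ ∈ sigmaCore Mstar :=
        (mem_normalizer_iff.mp (hMsn hwMs) _).mp (inv_mem (hKσ hk))
      have e : k * w * k⁻¹ * w⁻¹ = k * (w * k⁻¹ * w⁻¹) := by group
      rw [e]
      exact mul_mem (hKσ hk) h2
    have hv1 : k * w * k⁻¹ * w⁻¹ ≠ 1 := by
      intro hh
      apply hkw
      have e : k * w = (k * w * k⁻¹ * w⁻¹) * (w * k) := by group
      rw [e, hh, one_mul]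
    have hvq : (k * w * k⁻¹ * w⁻¹) ^ q = 1 := by
      have hc : Commute (k * w * k⁻¹) w⁻¹ := (show Commute (k * w * k⁻¹) w from hww).inv_right
      rw [hc.mul_pow, conj_pow, inv_pow, ← hw, pow_orderOf_eq_one]
      group
    have hvo : orderOf (k * w * k⁻¹ * w⁻¹) = q := by
      haveI := Fact.mk hq
      exact orderOf_eq_prime hvq hv1
    exact hqσ (bg14t_mem_sigma_of_dvd hv hq (by rw [hvo]))

end Cfsg.Agent.Helper54
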