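/-
helper54: piece RSY of CALL S1376 (double): a Sylow subgroup `R` of `U` with `N_G(R) ≤ M`.
-/
import Cfsg.Agent.Helper1.C9Defs
import Cfsg.Agent.Helper22.BG10c
import Cfsg.Agent.Helper47.BG14RK
import Cfsg.Agent.Helper68.BG14R30
import Cfsg.Agent.Helper78.BG157HC
import Cfsg.Agent.Helper20.BG13P4
import Cfsg.Agent.Helper54.BG14T
import Cfsg.Agent.S1375
import Cfsg.Agent.S1403
import Cfsg.Agent.S1420

set_option autoImplicit false

namespace Cfsg.Agent.Helper54

open Cfsg Subgroup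

universe u

variable {G : Type u} [Group G] [Finite G]

/-- RSY. `Helper54.bg14t_core hG hM hx hx1 hxM` gives `L = N` (uniqueness in S1375) and a prime
`p ∈ σ(M) ∩ τ₂(N)`.  `p ∉ σ(N)`, `p ∉ κ(N)` (Sylow `p`-subgroups of `N` are not cyclic: `¬ PRankLE p 1 N`),
so a non-cyclic elementary abelian `p`-subgroup `B` of `N` is conjugate into the Hall
`(σ(N) ∪ κ(N))'`-subgroup `U` (`Helper78.bg157_hall_conj`); take a Sylow `p`-subgroup `R` of `U`
containing the conjugate: it is not cyclic, `p ∣ |U|`, `R ≤ U ≤ M`, and S1420 clause 3 (any complement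
`E` of `M_σ` in `M`) gives `N_G(R) ≤ M`. -/
theorem c9_R (hG : IsMinSimpleOddOrder G) {M N K U : Subgroup G} (hM : IsCoatom M)
    (hN : IsCoatom N) {x : G} (hx : x ∈ sigmaCore M) (hx1 : x ≠ 1)
    (hxM : ¬ centralizer ({x} : Set G) ≤ M) (hxN : centralizer ({x} : Set G) ≤ N)
    (hKU : IsSigmaDecomposition N K U) (hK1 : K ≠ ⊥) (hUK : U ⊔ K = M ⊓ N) :
    ∃ (r : ℕ) (_ : Fact r.Prime) (R : Sylow r U), r ∣ Nat.card U ∧
      normalizer ((((R : Subgroup U).map U.subtype : Subgroup G)) : Set G) ≤ M := by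
  obtain ⟨L, p, Y, hL, -, -, hpσ, hpτ, -, -, -, -, hxL, -⟩ := bg14t_core hG hM hx hx1 hxM
  obtain ⟨N', -, huniq, -⟩ := Cfsg.Agent.S1375.result hG M hM x hx hx1 hxM
  have hLN : L = N := (huniq L hL hxL).trans (huniq N hN hxN).symm
  rw [hLN] at hpτ
  have hpp : p.Prime := hpτ.1
  haveI := Fact.mk hpp
  have hUq : Cfsg.Agent.Helper22.BGUniq G :=
    fun K hK h1 h2 => Cfsg.Agent.S1403.result hG K hK h1 h2
  have hUM : U ≤ M := (le_sup_left.trans hUK.le).trans inf_le_left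
  have hUhall := Cfsg.Agent.Helper68.bg14r_U_hall hG hN hKU
  obtain ⟨A₀, hA₀N, hA₀c, hA₀e, hA₀card⟩ :=
    Cfsg.Agent.Helper22.bg10_exists_elemAb_sq hpp hpτ.2.2.2
  obtain ⟨m, hm, hmU⟩ := Cfsg.Agent.Helper78.bg157_hall_conj hG hN hUhall hA₀N (by
    intro q hq hqd
    rw [hA₀card] at hqd
    have h3 := hq.dvd_of_dvd_pow hqd
    rw [(Nat.prime_dvd_prime_iff_eq hq hpp).mp h3]
    exact ⟨hpp, fun hκ => hpτ.2.2.2 (Cfsg.Agent.Helper47.bg14_rank_of_kappa hκ), hpτ.2.1⟩)
  have hAcard : Nat.card (A₀.map (MulAut.conj m).toMonoidHom) = p ^ 2 := by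
    rw [← hA₀card]
    exact Subgroup.card_map_of_injective (MulAut.conj m).injective
  have hAe : ∀ a ∈ A₀.map (MulAut.conj m).toMonoidHom, a ^ p = 1 := by
    rintro _ ⟨a, ha, rfl⟩
    rw [← map_pow, hA₀e a ha, map_one]
  have hAp : IsPGroup p ↥(A₀.map (MulAut.conj m).toMonoidHom) := fun b => ⟨1, by
    rw [pow_one]
    exact Subtype.ext (by rw [Subgroup.coe_pow, Subgroup.coe_one]; exact hAe b b.2)⟩
  obtain ⟨R, hR⟩ := (hAp.comap_subtype (K := U)).exists_le_sylow
  have hin : ∀ g ∈ A₀.map (MulAut.conj m).toMonoidHom,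
      g ∈ (R : Subgroup ↥U).map U.subtype := by
    intro g hg
    exact Subgroup.mem_map.mpr ⟨⟨g, hmU hg⟩, hR (by
      show (⟨g, hmU hg⟩ : ↥U) ∈ (A₀.map (MulAut.conj m).toMonoidHom).comap U.subtype
      exact hg), rfl⟩
  have hRU : (R : Subgroup ↥U).map U.subtype ≤ U := by
    rintro _ ⟨y, -, rfl⟩
    exact y.2
  have hRp : IsPGroup p ↥((R : Subgroup ↥U).map U.subtype) :=
    R.isPGroup'.map U.subtype
  have hRnc : ¬ IsCyclic ↥((R : Subgroup ↥U).map U.subtype) := by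
    intro hcyc
    obtain ⟨g, hg⟩ := hcyc.exists_generator
    -- every element of A is a power of g, A has exponent p, so |A| ≤ p
    have hAle : A₀.map (MulAut.conj m).toMonoidHom ≤ (R : Subgroup ↥U).map U.subtype := hin
    haveI : IsCyclic ↥(A₀.map (MulAut.conj m).toMonoidHom) := by
      haveI := hcyc
      exact isCyclic_of_injective (Subgroup.inclusion hAle) (Subgroup.inclusion_injective hAle)
    obtain ⟨a, ha⟩ := IsCyclic.exists_generator (α := ↥(A₀.map (MulAut.conj m).toMonoidHom))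
    have hcard : Nat.card ↥(A₀.map (MulAut.conj m).toMonoidHom) = orderOf a := by
      rw [← Nat.card_zpowers a]
      have htop : zpowers a = ⊤ := (Subgroup.eq_top_iff' _).mpr ha
      rw [htop]
      exact (Nat.card_congr (Subgroup.topEquiv.toEquiv)).symm
    have hap : a ^ p = 1 := Subtype.ext (by
      rw [Subgroup.coe_pow, Subgroup.coe_one]; exact hAe a a.2)
    have hle : orderOf a ≤ p := Nat.le_of_dvd hpp.pos (orderOf_dvd_of_pow_eq_one hap)
    rw [hAcard] at hcard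
    have h2 : 2 ≤ p := hpp.two_le
    nlinarith
  have hpU : p ∣ Nat.card U := by
    have h1 : Nat.card ↥(A₀.map (MulAut.conj m).toMonoidHom) ∣ Nat.card U :=
      Subgroup.card_dvd_of_le hmU
    rw [hAcard] at h1
    exact (dvd_pow_self p two_ne_zero).trans h1
  obtain ⟨E, hE, -⟩ := Cfsg.Agent.Helper20.bg13_exists_compl_ge hG hUq hM (bot_le : (⊥ : Subgroup G) ≤ M)
    (by rw [Subgroup.card_bot]; exact Nat.coprime_one_left _)
  have h20 := (Cfsg.Agent.S1420.result hG M hM E hE).2.2.1 p _ hpσ hRp (hRU.trans hUM) hRnc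
  exact ⟨p, inferInstance, R, hpU, h20⟩

end Cfsg.Agent.Helper54
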