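import Mathlib
import Cfsg.Prelude.Def_Transfer
import Cfsg.Agent.Helper21.Zass4
import Cfsg.Agent.Helper5.AltEmbed

set_option autoImplicit false

/-!
# Involutions whose centralizer is a four-group (helper54)

`x` an involution of the finite group `G` with `C_G(x)` elementary abelian of order `4`.
* If a Sylow 2-subgroup `T ≥ C_G(x)` has order `> 4`, the normal closure of a central involution of
  `T` is a normal elementary abelian subgroup of order `2` or `4` (`exists_normal_elementary`).
* If `C_G(x)` is a Sylow 2-subgroup, not normal, and `G` has no normal 2-complement, then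
  `G ≅ A₅` (`a5_of_sylow`), via Burnside's transfer theorem and helper21's `Zass` files.
-/

namespace Cfsg.Agent.Helper54

open Cfsg.Agent.Helper21

variable {G : Type*} [Group G]

/-- A group of exponent two is commutative (elementwise form inside a subgroup). -/
theorem comm_of_sq_eq_one {V : Subgroup G} (hV : ∀ c ∈ V, c ^ 2 = 1) {a b : G} (ha : a ∈ V)
    (hb : b ∈ V) : a * b = b * a := by
  have h1 := hV a ha
  have h2 := hV b hb
  have h3 := hV (a * b) (V.mul_mem ha hb)
  rw [pow_two] at h1 h2 h3
  have ha' : a⁻¹ = a := inv_eq_of_mul_eq_one_left h1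
  have hb' : b⁻¹ = b := inv_eq_of_mul_eq_one_left h2
  have : (a * b)⁻¹ = a * b := inv_eq_of_mul_eq_one_left h3
  rw [mul_inv_rev, ha', hb'] at this
  exact this.symm

theorem orderOf_eq_two_of_sq {c : G} (h : c ^ 2 = 1) (h1 : c ≠ 1) : orderOf c = 2 :=
  orderOf_eq_prime h h1

theorem sq_eq_one_of_orderOf {c : G} (h : orderOf c = 2) : c ^ 2 = 1 := by
  rw [← h]; exact pow_orderOf_eq_one c

theorem ne_one_of_orderOf_two {c : G} (h : orderOf c = 2) : c ≠ 1 := by
  rintro rfl; rw [orderOf_one] at h; omega

theorem mem_centralizer_conj_iff (g x c : G) :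
    c ∈ Subgroup.centralizer ({g * x * g⁻¹} : Set G) ↔
      g⁻¹ * c * g ∈ Subgroup.centralizer ({x} : Set G) := by
  rw [Subgroup.mem_centralizer_singleton_iff, Subgroup.mem_centralizer_singleton_iff]
  constructor
  · intro h
    calc g⁻¹ * c * g * x = g⁻¹ * (c * (g * x * g⁻¹)) * g := by group
      _ = g⁻¹ * ((g * x * g⁻¹) * c) * g := by rw [h]
      _ = x * (g⁻¹ * c * g) := by group
  · intro h
    calc c * (g * x * g⁻¹) = g * ((g⁻¹ * c * g) * x) * g⁻¹ := by group
      _ = g * (x * (g⁻¹ * c * g)) * g⁻¹ := by rw [h]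
      _ = g * x * g⁻¹ * c := by group

theorem card_centralizer_conj [Finite G] (g x : G) :
    Nat.card (Subgroup.centralizer ({g * x * g⁻¹} : Set G)) =
      Nat.card (Subgroup.centralizer ({x} : Set G)) := by
  refine Nat.card_congr
    { toFun := fun c => ⟨g⁻¹ * c.1 * g, (mem_centralizer_conj_iff g x c.1).mp c.2⟩
      invFun := fun c => ⟨g * c.1 * g⁻¹, (mem_centralizer_conj_iff g x _).mpr (by
        have : g⁻¹ * (g * c.1 * g⁻¹) * g = c.1 := by group
        rw [this]; exact c.2)⟩
      left_inv := fun c => by apply Subtype.ext; simp [mul_assoc]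
      right_inv := fun c => by apply Subtype.ext; simp [mul_assoc] }

/-- The elements of a four-group `V = C(x)` are `1, x, z, x z`. -/
theorem four_elts [Finite G] {x : G} (hC4 : Nat.card (Subgroup.centralizer ({x} : Set G)) = 4)
    (hCe : ∀ c ∈ Subgroup.centralizer ({x} : Set G), c ^ 2 = 1) (hx1 : x ≠ 1) {z : G}
    (hz : z ∈ Subgroup.centralizer ({x} : Set G)) (hz1 : z ≠ 1) (hzx : z ≠ x) :
    ∀ c ∈ Subgroup.centralizer ({x} : Set G), c = 1 ∨ c = x ∨ c = z ∨ c = x * z := by
  classical
  set V := Subgroup.centralizer ({x} : Set G) with hV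
  have hxV : x ∈ V := by rw [hV, Subgroup.mem_centralizer_singleton_iff]
  have hx2 : x * x = 1 := by have := hCe x hxV; rwa [pow_two] at this
  let S : Set G := {1, x, z, x * z}
  have hsub : S ⊆ (V : Set G) := by
    intro c hc
    simp only [S, Set.mem_insert_iff, Set.mem_singleton_iff] at hc
    rcases hc with rfl | rfl | rfl | rfl
    · exact V.one_mem
    · exact hxV
    · exact hz
    · exact V.mul_mem hxV hz
  have hxz1 : x * z ≠ 1 := by
    intro h
    apply hzx
    have : z = x⁻¹ := (inv_eq_of_mul_eq_one_right h).symm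
    rw [this]; exact inv_eq_of_mul_eq_one_left hx2
  have hxzx : x * z ≠ x := by
    intro h; exact hz1 (by simpa using h)
  have hxzz : x * z ≠ z := by
    intro h; exact hx1 (by simpa using h)
  have hScard : S.ncard = 4 := by
    have : S = ((({1, x, z, x * z} : Finset G)) : Set G) := by
      ext c; simp [S]
    rw [this, Set.ncard_coe_finset]
    rw [Finset.card_insert_of_notMem, Finset.card_insert_of_notMem, Finset.card_insert_of_notMem,
      Finset.card_singleton]
    · simp only [Finset.mem_singleton]; exact hxzz.symm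
    · simp only [Finset.mem_insert, Finset.mem_singleton, not_or]
      exact ⟨hzx.symm, hxzx.symm⟩
    · simp only [Finset.mem_insert, Finset.mem_singleton, not_or]
      exact ⟨hx1.symm, hz1.symm, hxz1.symm⟩
  have hVcard : (V : Set G).ncard = 4 := by
    rw [← hC4]; rfl
  have heq : S = (V : Set G) :=
    Set.eq_of_subset_of_ncard_le hsub (by rw [hScard, hVcard]) (Set.toFinite _)
  intro c hc
  have : c ∈ S := by rw [heq]; exact hc
  simpa [S] using this

/-- If a Sylow 2-subgroup `T ≥ V = C(x)` is larger than `V`, there is an involution `z ∈ V`,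
not conjugate to `x`, such that `x z` is conjugate to `x`. -/
theorem exists_central_invol [Finite G] {x : G} (hx : orderOf x = 2)
    (hC4 : Nat.card (Subgroup.centralizer ({x} : Set G)) = 4)
    (hCe : ∀ c ∈ Subgroup.centralizer ({x} : Set G), c ^ 2 = 1)
    (T : Sylow 2 G) (hVT : Subgroup.centralizer ({x} : Set G) ≤ (T : Subgroup G))
    (hT4 : Nat.card (T : Subgroup G) ≠ 4) :
    ∃ z : G, z ∈ Subgroup.centralizer ({x} : Set G) ∧ orderOf z = 2 ∧ z ≠ x ∧
      (∀ g : G, g * x * g⁻¹ ≠ z) ∧ ∃ g : G, g * x * g⁻¹ = x * z := by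
  classical
  have : Fact (Nat.Prime 2) := ⟨Nat.prime_two⟩
  set V := Subgroup.centralizer ({x} : Set G) with hV
  have hx1 : x ≠ 1 := ne_one_of_orderOf_two hx
  have hxV : x ∈ V := by rw [hV, Subgroup.mem_centralizer_singleton_iff]
  have hxT : x ∈ (T : Subgroup G) := hVT hxV
  have hVneT : V ≠ (T : Subgroup G) := by
    intro h; apply hT4; rw [← h]; exact hC4
  -- a central element of `T`
  have hnt : Nontrivial (T : Subgroup G) := ⟨⟨⟨x, hxT⟩, 1, fun h => hx1 (congrArg Subtype.val h)⟩⟩
  have hc : Nontrivial (Subgroup.center (T : Subgroup G)) := T.isPGroup'.center_nontrivial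
  obtain ⟨⟨z', hz'⟩, hz'1⟩ := exists_ne (1 : Subgroup.center (T : Subgroup G))
  have hzT : ∀ t ∈ (T : Subgroup G), t * (z' : G) = (z' : G) * t := by
    intro t ht
    have := Subgroup.mem_center_iff.mp hz' ⟨t, ht⟩
    exact congrArg Subtype.val this
  set z : G := (z' : G) with hzdef
  have hz1 : z ≠ 1 := by
    intro h
    apply hz'1
    apply Subtype.ext
    apply Subtype.ext
    exact h
  have hzV : z ∈ V := by
    rw [hV, Subgroup.mem_centralizer_singleton_iff]
    exact (hzT x hxT).symm
  have hz2 : orderOf z = 2 := orderOf_eq_two_of_sq (hCe z hzV) hz1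
  have hTz : (T : Subgroup G) ≤ Subgroup.centralizer ({z} : Set G) := by
    intro t ht
    rw [Subgroup.mem_centralizer_singleton_iff]
    exact (hzT t ht)
  have hzx : z ≠ x := by
    intro h
    apply hVneT
    apply le_antisymm hVT
    rw [hV, ← h]; exact hTz
  have hnc : ∀ g : G, g * x * g⁻¹ ≠ z := by
    intro g hg
    apply hT4
    have h1 : Nat.card (Subgroup.centralizer ({z} : Set G)) = 4 := by
      rw [← hg, card_centralizer_conj, hC4]
    have h2 : Nat.card (T : Subgroup G) ≤ 4 := by
      rw [← h1]; exact Subgroup.card_le_of_le hTz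
    have h3 : 4 ≤ Nat.card (T : Subgroup G) := by
      rw [← hC4]; exact Subgroup.card_le_of_le hVT
    omega
  refine ⟨z, hzV, hz2, hzx, hnc, ?_⟩
  -- normalizer condition in `T`
  have hnil : Group.IsNilpotent (T : Subgroup G) := T.isPGroup'.isNilpotent
  have hNC := Group.normalizerCondition_of_isNilpotent (G := (T : Subgroup G))
  have hlt : V.subgroupOf (T : Subgroup G) < ⊤ := by
    rw [lt_top_iff_ne_top]
    intro h
    apply hVneT
    apply le_antisymm hVT
    intro t ht
    have : (⟨t, ht⟩ : (T : Subgroup G)) ∈ V.subgroupOf (T : Subgroup G) := by rw [h]; trivial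
    exact Subgroup.mem_subgroupOf.mp this
  have hlt2 := hNC _ hlt
  obtain ⟨g, hgN, hgV⟩ := SetLike.exists_of_lt hlt2
  have hgV' : (g : G) ∉ V := fun h => hgV (Subgroup.mem_subgroupOf.mpr h)
  have hconj : (g : G) * x * (g : G)⁻¹ ∈ V := by
    have := (Subgroup.mem_normalizer_iff.mp hgN ⟨x, hxT⟩).mp (Subgroup.mem_subgroupOf.mpr hxV)
    exact Subgroup.mem_subgroupOf.mp this
  refine ⟨(g : G), ?_⟩
  rcases four_elts hC4 hCe hx1 hzV hz1 hzx _ hconj with h | h | h | h
  · exfalso
    apply hx1
    have : x = (g : G)⁻¹ * ((g : G) * x * (g : G)⁻¹) * (g : G) := by group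
    rw [this, h]; group
  · exfalso
    apply hgV'
    rw [hV, Subgroup.mem_centralizer_singleton_iff]
    have : (g : G) * x = ((g : G) * x * (g : G)⁻¹) * (g : G) := by group
    rw [this, h]
  · exact absurd h (hnc _)
  · exact h

/-- Key lemma: an involution not conjugate to `x` commutes with `z`. -/
theorem commute_of_not_conj [Finite G] {x : G} (hx : orderOf x = 2)
    (hC4 : Nat.card (Subgroup.centralizer ({x} : Set G)) = 4)
    (hCe : ∀ c ∈ Subgroup.centralizer ({x} : Set G), c ^ 2 = 1) {z : G}
    (hzV : z ∈ Subgroup.centralizer ({x} : Set G)) (hz2 : orderOf z = 2) (hzx : z ≠ x)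
    (hxz : ∃ g : G, g * x * g⁻¹ = x * z) {u : G}
    (hu : orderOf u = 2) (hunc : ∀ g : G, g * x * g⁻¹ ≠ u) : u * z = z * u := by
  set V := Subgroup.centralizer ({x} : Set G) with hV
  have hx1 : x ≠ 1 := ne_one_of_orderOf_two hx
  have hz1 : z ≠ 1 := ne_one_of_orderOf_two hz2
  have hu1 : u ≠ 1 := ne_one_of_orderOf_two hu
  have hxV : x ∈ V := by rw [hV, Subgroup.mem_centralizer_singleton_iff]
  have h4 := four_elts hC4 hCe hx1 hzV hz1 hzx
  -- an involution of `V` not conjugate to `x` is `z`
  have key : ∀ w ∈ V, w ≠ 1 → (∀ g : G, g * x * g⁻¹ ≠ w) → w = z := by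
    intro w hw hw1 hwnc
    rcases h4 w hw with h | h | h | h
    · exact absurd h hw1
    · exact absurd (by rw [h]; group) (hwnc 1)
    · exact h
    · obtain ⟨g, hg⟩ := hxz
      exact absurd (hg.trans h.symm) (hwnc g)
  rcases Cfsg.Agent.Helper21.inv_pair hx hu with ⟨v, _, hv⟩ | ⟨c, hc2, hcx, hcu⟩
  · exact absurd hv (hunc v)
  · have hc1 : c ≠ 1 := ne_one_of_orderOf_two hc2
    have hcV : c ∈ V := by
      rw [hV, Subgroup.mem_centralizer_singleton_iff]; exact hcx
    rcases h4 c hcV with h | h | h | h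
    · exact absurd h hc1
    · -- `c = x`: `u ∈ V`
      have huV : u ∈ V := by
        rw [hV, Subgroup.mem_centralizer_singleton_iff, ← h]; exact hcu.symm
      have := key u huV hu1 hunc
      rw [this]
    · rw [← h]; exact hcu.symm
    · -- `c = x z`, conjugate to `x`, so `C(c) = V`
      obtain ⟨g, hg⟩ := hxz
      have hcard : Nat.card (Subgroup.centralizer ({x * z} : Set G)) = 4 := by
        rw [← hg, card_centralizer_conj, hC4]
      have hle : V ≤ Subgroup.centralizer ({x * z} : Set G) := by
        intro w hw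
        rw [Subgroup.mem_centralizer_singleton_iff]
        exact (comm_of_sq_eq_one hCe hw (V.mul_mem hxV hzV))
      have heq : V = Subgroup.centralizer ({x * z} : Set G) :=
        Subgroup.eq_of_le_of_card_ge hle (by rw [hcard, hC4])
      have huV : u ∈ V := by
        rw [heq, Subgroup.mem_centralizer_singleton_iff, ← h]; exact hcu.symm
      have := key u huV hu1 hunc
      rw [this]

/-- If a Sylow 2-subgroup containing `V = C(x)` is larger than `V`, then `G` has a normal
elementary abelian subgroup of order `2` or `4`. -/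
theorem exists_normal_elementary [Finite G] {x : G} (hx : orderOf x = 2)
    (hC4 : Nat.card (Subgroup.centralizer ({x} : Set G)) = 4)
    (hCe : ∀ c ∈ Subgroup.centralizer ({x} : Set G), c ^ 2 = 1)
    (T : Sylow 2 G) (hVT : Subgroup.centralizer ({x} : Set G) ≤ (T : Subgroup G))
    (hT4 : Nat.card (T : Subgroup G) ≠ 4) :
    ∃ W : Subgroup G, W.Normal ∧ Cfsg.IsElementaryAbelian 2 W ∧
      (Nat.card W = 2 ∨ Nat.card W = 4) := by
  classical
  have : Fact (Nat.Prime 2) := ⟨Nat.prime_two⟩
  obtain ⟨z, hzV, hz2, hzx, hnc, hxz⟩ := exists_central_invol hx hC4 hCe T hVT hT4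
  set V := Subgroup.centralizer ({x} : Set G) with hV
  have hx1 : x ≠ 1 := ne_one_of_orderOf_two hx
  have hz1 : z ≠ 1 := ne_one_of_orderOf_two hz2
  have hxV : x ∈ V := by rw [hV, Subgroup.mem_centralizer_singleton_iff]
  have hxx : x * x = 1 := by have := sq_eq_one_of_orderOf hx; rwa [pow_two] at this
  have hzz : z * z = 1 := by have := sq_eq_one_of_orderOf hz2; rwa [pow_two] at this
  have hxi : x⁻¹ = x := inv_eq_of_mul_eq_one_left hxx
  have h4 := four_elts hC4 hCe hx1 hzV hz1 hzx
  have hK : ∀ u : G, orderOf u = 2 → (∀ g : G, g * x * g⁻¹ ≠ u) → u * z = z * u :=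
    fun u hu hunc => commute_of_not_conj hx hC4 hCe hzV hz2 hzx hxz hu hunc
  -- conjugates of `z` are involutions not conjugate to `x`
  have hconj2 : ∀ g : G, orderOf (g * z * g⁻¹) = 2 := by
    intro g; rw [Cfsg.Agent.Helper21.orderOf_conj_eq]; exact hz2
  have hconjnc : ∀ g h : G, h * x * h⁻¹ ≠ g * z * g⁻¹ := by
    intro g h hh
    apply hnc (g⁻¹ * h)
    calc g⁻¹ * h * x * (g⁻¹ * h)⁻¹ = g⁻¹ * (h * x * h⁻¹) * g := by group
      _ = g⁻¹ * (g * z * g⁻¹) * g := by rw [hh]
      _ = z := by group
  -- any two conjugates of `z` commute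
  have hcomm : ∀ g h : G, (g * z * g⁻¹) * (h * z * h⁻¹) = (h * z * h⁻¹) * (g * z * g⁻¹) := by
    intro g h
    have h1 := hK (g⁻¹ * h * z * (g⁻¹ * h)⁻¹) (hconj2 _) (fun k => hconjnc _ k)
    calc (g * z * g⁻¹) * (h * z * h⁻¹) = g * (z * (g⁻¹ * h * z * (g⁻¹ * h)⁻¹)) * g⁻¹ := by group
      _ = g * ((g⁻¹ * h * z * (g⁻¹ * h)⁻¹) * z) * g⁻¹ := by rw [h1]
      _ = (h * z * h⁻¹) * (g * z * g⁻¹) := by group
  set W : Subgroup G := Subgroup.normalClosure ({z} : Set G) with hW
  have hWn : W.Normal := Subgroup.normalClosure_normal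
  have hgen : ∀ a ∈ Group.conjugatesOfSet ({z} : Set G), ∃ g : G, a = g * z * g⁻¹ := by
    intro a ha
    rw [Group.mem_conjugatesOfSet_iff] at ha
    obtain ⟨b, hb, hba⟩ := ha
    rw [Set.mem_singleton_iff] at hb
    rw [isConj_iff] at hba
    obtain ⟨c, hc⟩ := hba
    exact ⟨c, by rw [← hc, hb]⟩
  have hWcomm : ∀ a ∈ W, ∀ b ∈ W, a * b = b * a := by
    have hcc : ∀ a ∈ Group.conjugatesOfSet ({z} : Set G),
        ∀ b ∈ Group.conjugatesOfSet ({z} : Set G), a * b = b * a := by
      intro a ha b hb
      obtain ⟨g, rfl⟩ := hgen a ha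
      obtain ⟨h, rfl⟩ := hgen b hb
      exact hcomm g h
    intro a ha b hb
    have hle : W ≤ Subgroup.centralizer (W : Set G) := by
      rw [hW, Subgroup.normalClosure, Subgroup.closure_le]
      intro a ha
      rw [SetLike.mem_coe, Subgroup.mem_centralizer_iff]
      intro b hb
      have hle2 : Subgroup.closure (Group.conjugatesOfSet ({z} : Set G)) ≤
          Subgroup.centralizer ({a} : Set G) := by
        rw [Subgroup.closure_le]
        intro c hc
        rw [SetLike.mem_coe, Subgroup.mem_centralizer_singleton_iff]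
        exact hcc c hc a ha
      have := hle2 hb
      rw [Subgroup.mem_centralizer_singleton_iff] at this
      exact this
    have := Subgroup.mem_centralizer_iff.mp (hle ha) b hb
    exact this.symm
  have hWsq : ∀ a ∈ W, a * a = 1 := by
    intro a ha
    rw [hW, Subgroup.normalClosure] at ha
    induction ha using Subgroup.closure_induction with
    | mem a ha =>
      obtain ⟨g, rfl⟩ := hgen a ha
      calc g * z * g⁻¹ * (g * z * g⁻¹) = g * (z * z) * g⁻¹ := by group
        _ = 1 := by rw [hzz]; group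
    | one => simp
    | mul a b ha hb iha ihb =>
      have hab := hWcomm a ha b hb
      calc a * b * (a * b) = a * (b * a) * b := by group
        _ = a * (a * b) * b := by rw [hab]
        _ = (a * a) * (b * b) := by group
        _ = 1 := by rw [iha, ihb, one_mul]
    | inv a ha iha =>
      have : a⁻¹ = a := inv_eq_of_mul_eq_one_left iha
      rw [this, iha]
  have hWinv : ∀ a ∈ W, a⁻¹ = a := fun a ha => inv_eq_of_mul_eq_one_left (hWsq a ha)
  have hzW : z ∈ W := Subgroup.subset_normalClosure (Set.mem_singleton z)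
  have hEA : Cfsg.IsElementaryAbelian 2 W := by
    refine ⟨⟨⟨fun a b => Subtype.ext (hWcomm a.1 a.2 b.1 b.2)⟩⟩, fun a ha => ?_⟩
    rw [pow_two]; exact hWsq a ha
  refine ⟨W, hWn, hEA, ?_⟩
  -- the order of `W`
  have hWp : IsPGroup 2 W := by
    intro a
    refine ⟨1, ?_⟩
    apply Subtype.ext
    have := hWsq a.1 a.2
    simpa [pow_two] using this
  obtain ⟨n, hn⟩ := IsPGroup.iff_card.mp hWp
  have hWne : Nat.card W ≠ 1 := by
    intro h1
    have hbot : W = ⊥ := Subgroup.card_eq_one.mp h1
    rw [hbot, Subgroup.mem_bot] at hzW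
    exact hz1 hzW
  have hle4 : Nat.card W ≤ 4 := by
    by_cases hxW : x ∈ W
    · have hle : W ≤ V := by
        intro w hw
        rw [hV, Subgroup.mem_centralizer_singleton_iff]
        exact hWcomm w hw x hxW
      rw [← hC4]; exact Subgroup.card_le_of_le hle
    · -- `A = W ⊓ V`
      set A : Subgroup G := W ⊓ V with hA
      have hAV : A ≤ V := inf_le_right
      have hAW : A ≤ W := inf_le_left
      have hAne : A ≠ V := by
        intro h
        apply hxW
        have : x ∈ A := by rw [h]; exact hxV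
        exact hAW this
      have hAcard : Nat.card A ≤ 2 := by
        have hd : Nat.card A ∣ 4 := by rw [← hC4]; exact Subgroup.card_dvd_of_le hAV
        have hne4 : Nat.card A ≠ 4 := by
          intro h
          exact hAne (Subgroup.eq_of_le_of_card_ge hAV (by rw [h, hC4]))
        have hle : Nat.card A ≤ 4 := Nat.le_of_dvd (by norm_num) hd
        have h3 : Nat.card A ≠ 3 := by
          intro h; rw [h] at hd; omega
        omega
      -- every `w ∈ W` lies in `V` or satisfies `x w x⁻¹ = w z`
      have hdich : ∀ w ∈ W, w ∈ V ∨ x * w * x⁻¹ = w * z := by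
        intro w hw
        have hw' : x * w * x⁻¹ ∈ W := hWn.conj_mem w hw x
        have hprod : w * (x * w * x⁻¹) ∈ W := W.mul_mem hw hw'
        have hprodV : w * (x * w * x⁻¹) ∈ V := by
          rw [hV, Subgroup.mem_centralizer_singleton_iff]
          have hc := hWcomm w hw _ hw'
          have e1 : w * (x * w * x⁻¹) * x = w * x * w := by group
          have e2 : x * (w * (x * w * x⁻¹)) = w * x * w := by
            rw [hc]
            calc x * (x * w * x⁻¹ * w) = (x * x) * w * x⁻¹ * w := by group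
              _ = w * x * w := by rw [hxx, hxi]; group
          rw [e1, e2]
        rcases h4 _ hprodV with h | h | h | h
        · left
          rw [hV, Subgroup.mem_centralizer_singleton_iff]
          have e1 : x * w * x⁻¹ = w⁻¹ := (inv_eq_of_mul_eq_one_right h).symm
          rw [hWinv w hw] at e1
          calc w * x = (x * w * x⁻¹)⁻¹⁻¹ * x := by rw [inv_inv, e1]
            _ = x * w := by rw [inv_inv]; group
        · exact absurd (h ▸ hprod) hxW
        · right
          calc x * w * x⁻¹ = w⁻¹ * (w * (x * w * x⁻¹)) := by group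
            _ = w * z := by rw [h, hWinv w hw]
        · exfalso
          apply hxW
          have : x = (w * (x * w * x⁻¹)) * z := by
            rw [h, mul_assoc, hzz, mul_one]
          rw [this]; exact W.mul_mem hprod hzW
      by_cases hWA : W ≤ A
      · have := Subgroup.card_le_of_le hWA
        omega
      · obtain ⟨w₁, hw₁W, hw₁A⟩ := SetLike.not_le_iff_exists.mp hWA
        have hw₁V : w₁ ∉ V := fun h => hw₁A ⟨hw₁W, h⟩
        have hw₁x : x * w₁ * x⁻¹ = w₁ * z := (hdich w₁ hw₁W).resolve_left hw₁V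
        have hidx : (A.subgroupOf W).index = 2 := by
          rw [Subgroup.index_eq_two_iff]
          refine ⟨⟨w₁, hw₁W⟩, fun b => ?_⟩
          rw [Subgroup.mem_subgroupOf, Subgroup.mem_subgroupOf]
          by_cases hbV : (b : G) ∈ V
          · right
            refine ⟨⟨b.2, hbV⟩, ?_⟩
            intro hh
            apply hw₁V
            have h2 : ((b * ⟨w₁, hw₁W⟩ : W) : G) ∈ V := hh.2
            have e : w₁ = (b : G)⁻¹ * ((b : G) * w₁) := by group
            rw [e]; exact V.mul_mem (V.inv_mem hbV) h2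
          · left
            refine ⟨?_, fun hh => hbV hh.2⟩
            have hbx : x * (b : G) * x⁻¹ = (b : G) * z := (hdich b.1 b.2).resolve_left hbV
            refine ⟨(b * ⟨w₁, hw₁W⟩ : W).2, ?_⟩
            show (b : G) * w₁ ∈ V
            rw [hV, Subgroup.mem_centralizer_singleton_iff]
            have hzc := hWcomm z hzW w₁ hw₁W
            have e : x * ((b : G) * w₁) * x⁻¹ = (b : G) * w₁ := by
              calc x * ((b : G) * w₁) * x⁻¹ = (x * (b : G) * x⁻¹) * (x * w₁ * x⁻¹) := by group
                _ = ((b : G) * z) * (w₁ * z) := by rw [hbx, hw₁x]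
                _ = (b : G) * (z * w₁) * z := by group
                _ = (b : G) * (w₁ * z) * z := by rw [hzc]
                _ = (b : G) * w₁ * (z * z) := by group
                _ = (b : G) * w₁ := by rw [hzz, mul_one]
            exact (mul_inv_eq_iff_eq_mul.mp e).symm
        have hcm := Subgroup.card_mul_index (A.subgroupOf W)
        have hcA : Nat.card (A.subgroupOf W) = Nat.card A :=
          Nat.card_congr (Subgroup.subgroupOfEquivOfLe hAW).toEquiv
        rw [hidx, hcA] at hcm
        omega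
  have hn1 : 1 ≤ n := by
    rcases Nat.eq_zero_or_pos n with h0 | h0
    · rw [h0] at hn
      exact absurd (by simpa using hn) hWne
    · exact h0
  have hn2 : n ≤ 2 := by
    by_contra h
    have h3 : 3 ≤ n := by omega
    have : 2 ^ 3 ≤ 2 ^ n := Nat.pow_le_pow_right (by norm_num) h3
    rw [← hn] at this
    omega
  interval_cases n
  · left; simpa using hn
  · right; simpa using hn

/-- An element of `N_G(T)` whose square centralizes the abelian Sylow 2-subgroup `T`
centralizes `T`. -/
theorem mem_centralizer_of_sq_mem [Finite G] (T : Sylow 2 G)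
    (hTc : ∀ a ∈ (T : Subgroup G), ∀ b ∈ (T : Subgroup G), a * b = b * a) {g : G}
    (hgN : g ∈ Subgroup.normalizer ((T : Subgroup G) : Set G))
    (hg2 : g ^ 2 ∈ Subgroup.centralizer ((T : Subgroup G) : Set G)) :
    g ∈ Subgroup.centralizer ((T : Subgroup G) : Set G) := by
  have : Fact (Nat.Prime 2) := ⟨Nat.prime_two⟩
  have hn0 : orderOf g ≠ 0 := (orderOf_pos g).ne'
  obtain ⟨k, m, hm, hkm⟩ := Nat.exists_eq_two_pow_mul_odd hn0
  have hm0 : m ≠ 0 := by rintro rfl; simp at hm
  have hord : orderOf (g ^ m) = 2 ^ k := by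
    rw [orderOf_pow_of_dvd hm0 ⟨2 ^ k, by rw [hkm, mul_comm]⟩, hkm]
    exact Nat.mul_div_cancel _ (Nat.pos_of_ne_zero hm0)
  have hp : IsPGroup 2 (Subgroup.zpowers (g ^ m)) :=
    IsPGroup.of_card (n := k) (by rw [Nat.card_zpowers, hord])
  have hle : Subgroup.zpowers (g ^ m) ≤ Subgroup.normalizer ((T : Subgroup G) : Set G) := by
    rw [Subgroup.zpowers_le]
    exact Subgroup.pow_mem _ hgN m
  have hsup : IsPGroup 2 (Subgroup.zpowers (g ^ m) ⊔ (T : Subgroup G) : Subgroup G) :=
    hp.to_sup_of_normal_right' T.isPGroup' hle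
  have heq := T.is_maximal' hsup le_sup_right
  have hgmT : g ^ m ∈ (T : Subgroup G) := by
    rw [← heq]
    exact (le_sup_left : Subgroup.zpowers (g ^ m) ≤ _) (Subgroup.mem_zpowers _)
  have hgmC : g ^ m ∈ Subgroup.centralizer ((T : Subgroup G) : Set G) := by
    rw [Subgroup.mem_centralizer_iff]
    intro t ht
    exact hTc t ht _ hgmT
  obtain ⟨i, hi⟩ := hm
  have e : g = g ^ m * ((g ^ 2) ^ i)⁻¹ := by
    rw [hi, pow_succ, ← pow_mul]
    group
  rw [e]
  exact Subgroup.mul_mem _ hgmC (Subgroup.inv_mem _ (Subgroup.pow_mem _ hg2 i))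

/-- If `V = C(x)` is a Sylow 2-subgroup and `G` has no normal 2-complement, then all involutions
of `V` are conjugate to `x`. -/
theorem all_conj_of_sylow [Finite G] {x : G} (hx : orderOf x = 2)
    (hC4 : Nat.card (Subgroup.centralizer ({x} : Set G)) = 4)
    (hCe : ∀ c ∈ Subgroup.centralizer ({x} : Set G), c ^ 2 = 1)
    (T : Sylow 2 G) (hVT : Subgroup.centralizer ({x} : Set G) = (T : Subgroup G))
    (hnc : ¬ Cfsg.HasNormalPComplement 2 G) :
    ∀ u ∈ Subgroup.centralizer ({x} : Set G), u ≠ 1 → ∃ g : G, g * x * g⁻¹ = u := by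
  have : Fact (Nat.Prime 2) := ⟨Nat.prime_two⟩
  set V := Subgroup.centralizer ({x} : Set G) with hV
  have hx1 : x ≠ 1 := ne_one_of_orderOf_two hx
  have hxV : x ∈ V := by rw [hV, Subgroup.mem_centralizer_singleton_iff]
  have hxx : x * x = 1 := by have := sq_eq_one_of_orderOf hx; rwa [pow_two] at this
  have hTc : ∀ a ∈ (T : Subgroup G), ∀ b ∈ (T : Subgroup G), a * b = b * a := by
    intro a ha b hb
    rw [← hVT] at ha hb
    exact comm_of_sq_eq_one hCe ha hb
  have hNC : ¬ Subgroup.normalizer ((T : Subgroup G) : Set G) ≤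
      Subgroup.centralizer ((T : Subgroup G) : Set G) := by
    intro hP
    exact hnc ⟨T, (MonoidHom.transferSylow T hP).ker, inferInstance,
      MonoidHom.ker_transferSylow_isComplement' T hP⟩
  obtain ⟨g, hgN, hgC⟩ := SetLike.not_le_iff_exists.mp hNC
  have hconjV : ∀ v ∈ V, g * v * g⁻¹ ∈ V := by
    intro v hv
    rw [hVT] at hv ⊢
    exact (Subgroup.mem_normalizer_iff.mp hgN v).mp hv
  -- if `g²` fixes `x` and another generator then `g ∈ C(T)`
  have hsq : ∀ y ∈ V, y ≠ 1 → y ≠ x → g ^ 2 * x * (g ^ 2)⁻¹ = x → g ^ 2 * y * (g ^ 2)⁻¹ = y →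
      False := by
    intro y hy hy1 hyx h1 h2
    apply hgC
    apply mem_centralizer_of_sq_mem T hTc hgN
    rw [Subgroup.mem_centralizer_iff]
    intro t ht
    rw [← hVT] at ht
    have h1' : x * g ^ 2 = g ^ 2 * x := (mul_inv_eq_iff_eq_mul.mp h1).symm
    have h2' : y * g ^ 2 = g ^ 2 * y := (mul_inv_eq_iff_eq_mul.mp h2).symm
    rcases four_elts hC4 hCe hx1 hy hy1 hyx t ht with h | h | h | h
    · rw [h]; simp
    · rw [h]; exact h1'
    · rw [h]; exact h2'
    · rw [h, mul_assoc, h2', ← mul_assoc, h1', mul_assoc]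
  have hcj : ∀ a b : G, g * a * g⁻¹ = b → g ^ 2 * a * (g ^ 2)⁻¹ = g * b * g⁻¹ := by
    intro a b h
    rw [← h, pow_two]; group
  set y := g * x * g⁻¹ with hy
  have hyV : y ∈ V := hconjV x hxV
  have hy1 : y ≠ 1 := by
    intro h
    apply hx1
    have : x = g⁻¹ * y * g := by rw [hy]; group
    rw [this, h]; group
  by_cases hyx : y = x
  · -- `g` centralizes `x`; pick `t ∈ T` not centralized by `g`
    exfalso
    have hex : ∃ t ∈ V, g * t * g⁻¹ ≠ t := by
      by_contra hall
      apply hgC
      rw [Subgroup.mem_centralizer_iff]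
      intro t ht
      rw [← hVT] at ht
      have : g * t * g⁻¹ = t := by
        by_contra h; exact hall ⟨t, ht, h⟩
      exact (mul_inv_eq_iff_eq_mul.mp this).symm
    obtain ⟨t, htV, htg⟩ := hex
    have ht1 : t ≠ 1 := by rintro rfl; exact htg (by group)
    have htx : t ≠ x := by rintro rfl; exact htg hyx
    have hgt : g * t * g⁻¹ ∈ V := hconjV t htV
    have h4 := four_elts hC4 hCe hx1 htV ht1 htx _ hgt
    have hgt' : g * t * g⁻¹ = x * t := by
      rcases h4 with h | h | h | h
      · exfalso; apply ht1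
        have : t = g⁻¹ * (g * t * g⁻¹) * g := by group
        rw [this, h]; group
      · exfalso; apply htx
        have : t = g⁻¹ * (g * t * g⁻¹) * g := by group
        rw [this, h]
        have : x = g⁻¹ * y * g := by rw [hy]; group
        rw [hyx] at this
        exact this.symm
      · exact absurd h htg
      · exact h
    apply hsq t htV ht1 htx
    · calc g ^ 2 * x * (g ^ 2)⁻¹ = g * y * g⁻¹ := hcj x y hy.symm
        _ = g * x * g⁻¹ := by rw [hyx]
        _ = y := hy.symm
        _ = x := hyx
    · rw [hcj t (x * t) hgt']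
      calc g * (x * t) * g⁻¹ = (g * x * g⁻¹) * (g * t * g⁻¹) := by group
        _ = x * (x * t) := by rw [← hy, hyx, hgt']
        _ = t := by rw [← mul_assoc, hxx, one_mul]
  · have h4 := four_elts hC4 hCe hx1 hyV hy1 hyx
    have hgy : g * y * g⁻¹ ∈ V := hconjV y hyV
    have hgy' : g * y * g⁻¹ = x * y := by
      rcases h4 _ hgy with h | h | h | h
      · exfalso; apply hy1
        have : y = g⁻¹ * (g * y * g⁻¹) * g := by group
        rw [this, h]; group
      · exfalso
        apply hsq y hyV hy1 hyx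
        · rw [hcj x y hy.symm, h]
        · rw [hcj y x h]
      · exfalso; apply hyx
        have e1 : y = g⁻¹ * (g * y * g⁻¹) * g := by group
        have e2 : x = g⁻¹ * y * g := by rw [hy]; group
        rw [e2]
        nth_rewrite 1 [e1]
        rw [h]
      · exact h
    intro u hu hu1
    rcases h4 u hu with h | h | h | h
    · exact absurd h hu1
    · exact ⟨1, by rw [h]; group⟩
    · exact ⟨g, by rw [h]⟩
    · exact ⟨g ^ 2, by rw [h, hcj x y hy.symm, hgy']⟩

/-- Every involution is conjugate to an element of a given Sylow 2-subgroup. -/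
theorem exists_conj_mem_sylow [Finite G] (T : Sylow 2 G) {t : G} (ht : orderOf t = 2) :
    ∃ g : G, g⁻¹ * t * g ∈ (T : Subgroup G) := by
  have : Fact (Nat.Prime 2) := ⟨Nat.prime_two⟩
  have hp : IsPGroup 2 (Subgroup.zpowers t) :=
    IsPGroup.of_card (n := 1) (by rw [Nat.card_zpowers, ht, pow_one])
  obtain ⟨P, hP⟩ := hp.exists_le_sylow
  obtain ⟨g, hg⟩ := MulAction.exists_smul_eq G T P
  refine ⟨g, ?_⟩
  have htP : t ∈ (P : Subgroup G) := hP (Subgroup.mem_zpowers t)
  rw [← hg, Sylow.smul_def, Sylow.pointwise_smul_def,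
    Subgroup.mem_pointwise_smul_iff_inv_smul_mem] at htP
  simpa [MulAut.smul_def, MulAut.conj_inv_apply] using htP

/-- helper21's standing hypotheses hold when the Sylow 2-subgroup `T = C(x)` is a non-normal
four-group and `G` has no normal 2-complement. -/
theorem zassHyp_of_sylow [Finite G] {x : G} (hx : orderOf x = 2)
    (hC4 : Nat.card (Subgroup.centralizer ({x} : Set G)) = 4)
    (hCe : ∀ c ∈ Subgroup.centralizer ({x} : Set G), c ^ 2 = 1)
    (T : Sylow 2 G) (hVT : Subgroup.centralizer ({x} : Set G) = (T : Subgroup G))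
    (hnc : ¬ Cfsg.HasNormalPComplement 2 G) (hnn : ¬ (T : Subgroup G).Normal) :
    Zass.Hyp T := by
  set V := Subgroup.centralizer ({x} : Set G) with hV
  have hall := all_conj_of_sylow hx hC4 hCe T hVT hnc
  refine ⟨?_, hnn, ?_⟩
  · intro hcyc
    obtain ⟨c, hc⟩ := hcyc.exists_generator
    have hord : orderOf c = 4 := by
      rw [orderOf_eq_card_of_forall_mem_zpowers hc, ← hVT]; exact hC4
    have hcV : (c : G) ∈ V := by rw [hVT]; exact c.2
    have h2 : c ^ 2 = 1 := by
      apply Subtype.ext
      simpa using hCe c hcV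
    have := orderOf_dvd_of_pow_eq_one h2
    rw [hord] at this
    omega
  · intro t ht
    obtain ⟨g, hg⟩ := exists_conj_mem_sylow T ht
    rw [← hVT] at hg
    have hne : g⁻¹ * t * g ≠ 1 := by
      intro h
      apply ne_one_of_orderOf_two ht
      have : t = g * (g⁻¹ * t * g) * g⁻¹ := by group
      rw [this, h]; group
    obtain ⟨h, hh⟩ := hall _ hg hne
    have htc : t = (g * h) * x * (g * h)⁻¹ := by
      calc t = g * (g⁻¹ * t * g) * g⁻¹ := by group
        _ = g * (h * x * h⁻¹) * g⁻¹ := by rw [hh]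
        _ = (g * h) * x * (g * h)⁻¹ := by group
    have hmem : ∀ c ∈ Subgroup.centralizer ({t} : Set G), (g * h)⁻¹ * c * (g * h) ∈ V := by
      intro c hc
      rw [htc] at hc
      exact (mem_centralizer_conj_iff _ _ _).mp hc
    constructor
    · refine ⟨⟨fun a b => Subtype.ext ?_⟩⟩
      have hab := comm_of_sq_eq_one hCe (hmem a.1 a.2) (hmem b.1 b.2)
      show (a : G) * (b : G) = (b : G) * (a : G)
      calc (a : G) * (b : G)
          = (g * h) * (((g * h)⁻¹ * (a : G) * (g * h)) * ((g * h)⁻¹ * (b : G) * (g * h))) *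
            (g * h)⁻¹ := by group
        _ = (g * h) * (((g * h)⁻¹ * (b : G) * (g * h)) * ((g * h)⁻¹ * (a : G) * (g * h))) *
            (g * h)⁻¹ := by rw [hab]
        _ = (b : G) * (a : G) := by group
    · intro c hc
      have h2 := hCe _ (hmem c hc)
      have e : c ^ 2 = (g * h) * ((g * h)⁻¹ * c * (g * h)) ^ 2 * (g * h)⁻¹ := by
        rw [pow_two, pow_two]; group
      rw [e, h2]; group

/-- A group satisfying helper21's hypotheses with a Sylow 2-subgroup of order `4` is `A₅`. -/
theorem a5_of_zassHyp [Finite G] (T : Sylow 2 G) (h : Zass.Hyp T)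
    (hT4 : Nat.card (T : Subgroup G) = 4) : Nonempty (G ≃* alternatingGroup (Fin 5)) := by
  classical
  obtain ⟨u, hu, huH⟩ := Zass.exists_invol_not_mem h
  have hN : Nat.card (Zass.NT T) = 12 := by
    rw [Zass.card_NT h hu huH, hT4]
  have hQ : Nat.card (G ⧸ Zass.NT T) = 5 := by
    have h1 := Zass.card_ne_base h
    rw [hT4] at h1
    have e := Nat.card_congr
      (Equiv.optionSubtypeNe (QuotientGroup.mk 1 : G ⧸ Zass.NT T))
    rw [Finite.card_option, h1] at e
    omega
  have hG : Nat.card G = 60 := by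
    have := Subgroup.card_mul_index (Zass.NT T)
    rw [Subgroup.index_eq_card, hN, hQ] at this
    omega
  have e5 : (G ⧸ Zass.NT T) ≃ Fin 5 := Finite.equivFinOfCardEq hQ
  have hinj : Function.Injective (MulAction.toPermHom G (G ⧸ Zass.NT T)) := by
    rw [injective_iff_map_eq_one]
    intro g hg
    have hfix : ∀ q : G ⧸ Zass.NT T, g • q = q := by
      intro q
      have := congrArg (fun σ : Equiv.Perm (G ⧸ Zass.NT T) => σ q) hg
      simpa using this
    have d01 : e5.symm 0 ≠ e5.symm 1 := fun hh => by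
      have := e5.symm.injective hh; revert this; decide
    have d02 : e5.symm 0 ≠ e5.symm 2 := fun hh => by
      have := e5.symm.injective hh; revert this; decide
    have d12 : e5.symm 1 ≠ e5.symm 2 := fun hh => by
      have := e5.symm.injective hh; revert this; decide
    exact Zass.eq_one_of_fix_three h d01 d02 d12 (hfix _) (hfix _) (hfix _)
  exact Cfsg.Agent.Helper5.equiv_alternatingGroup_of_injective _ hinj 5 hQ (by rw [hG]; decide)

/-- **Main theorem**: an involution with elementary abelian centralizer of order `4` in a group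
with no normal 2-complement and no normal elementary abelian subgroup of order `2` or `4` forces
`G ≅ A₅`. -/
theorem a5_of_four_centralizer [Finite G] (x : G) (hx : orderOf x = 2)
    (hC4 : Nat.card (Subgroup.centralizer ({x} : Set G)) = 4)
    (hCe : ∀ c ∈ Subgroup.centralizer ({x} : Set G), c ^ 2 = 1)
    (hnc : ¬ Cfsg.HasNormalPComplement 2 G)
    (hne : ∀ E : Subgroup G, E.Normal → Cfsg.IsElementaryAbelian 2 E →
      Nat.card E ≠ 2 ∧ Nat.card E ≠ 4) :
    Nonempty (G ≃* alternatingGroup (Fin 5)) := by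
  have : Fact (Nat.Prime 2) := ⟨Nat.prime_two⟩
  have hp : IsPGroup 2 (Subgroup.centralizer ({x} : Set G)) :=
    IsPGroup.of_card (n := 2) (by rw [hC4]; norm_num)
  obtain ⟨T, hVT⟩ := hp.exists_le_sylow
  by_cases hT4 : Nat.card (T : Subgroup G) = 4
  · have heq : Subgroup.centralizer ({x} : Set G) = (T : Subgroup G) :=
      Subgroup.eq_of_le_of_card_ge hVT (by rw [hT4, hC4])
    by_cases hnn : (T : Subgroup G).Normal
    · exfalso
      have hEA : Cfsg.IsElementaryAbelian 2 (T : Subgroup G) := by
        refine ⟨⟨⟨fun a b => Subtype.ext ?_⟩⟩, fun a ha => ?_⟩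
        · have ha : (a : G) ∈ Subgroup.centralizer ({x} : Set G) := by rw [heq]; exact a.2
          have hb : (b : G) ∈ Subgroup.centralizer ({x} : Set G) := by rw [heq]; exact b.2
          exact comm_of_sq_eq_one hCe ha hb
        · rw [← heq] at ha
          exact hCe a ha
      exact (hne _ hnn hEA).2 hT4
    · exact a5_of_zassHyp T (zassHyp_of_sylow hx hC4 hCe T heq hnc hnn) hT4
  · exfalso
    obtain ⟨W, hWn, hWE, hWc⟩ := exists_normal_elementary hx hC4 hCe T hVT hT4
    rcases hWc with h | h
    · exact (hne W hWn hWE).1 h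
    · exact (hne W hWn hWE).2 h

end Cfsg.Agent.Helper54
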