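import Cfsg.Prelude.Def_LocalStructure
import Cfsg.Prelude.Def_Local
import Cfsg.Agent.Helper47.Basic
import Cfsg.Agent.Helper22.Basic
import Mathlib

set_option autoImplicit false

/-!
# Groups `H` with `O_p(H) = 1` and `O^p(H)` quasisimple (helper54)

* `le_normalizer_commutator_left`: `K` normalizes `⁅K, Y⁆`.
* `coprime_card_of_normal_nilpotent`: a normal nilpotent subgroup of a finite group with `O_p = 1`
  has order prime to `p`.
* `isNilpotent_centralizer_of_quotient`: `C_H(K)` is nilpotent when `H ⧸ K` is.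
* `qsres_*`: the structure statements for `K = O^p(H)` quasisimple, `O_p(H) = 1`.
-/

namespace Cfsg.Agent.Helper54

open Subgroup
open scoped commutatorElement

section
variable {H : Type*} [Group H]

/-- `K` normalizes `⁅K, Y⁆`. -/
theorem le_normalizer_commutator_left (K Y : Subgroup H) :
    K ≤ normalizer ((⁅K, Y⁆ : Subgroup H) : Set H) := by
  have key : ∀ k' ∈ K, ∀ h ∈ ⁅K, Y⁆, k' * h * k'⁻¹ ∈ ⁅K, Y⁆ := by
    intro k' hk' h hh
    rw [Subgroup.commutator_def] at hh ⊢
    induction hh using Subgroup.closure_induction with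
    | mem x hx =>
      obtain ⟨k, hk, y, hy, rfl⟩ := hx
      have h1 : k' * ⁅k, y⁆ * k'⁻¹ = ⁅k' * k, y⁆ * ⁅k', y⁆⁻¹ := by
        simp only [commutatorElement_def]; group
      rw [h1]
      exact Subgroup.mul_mem _ (Subgroup.subset_closure ⟨k' * k, K.mul_mem hk' hk, y, hy, rfl⟩)
        (Subgroup.inv_mem _ (Subgroup.subset_closure ⟨k', hk', y, hy, rfl⟩))
    | one => simp
    | mul x y _ _ hx hy =>
      have : k' * (x * y) * k'⁻¹ = (k' * x * k'⁻¹) * (k' * y * k'⁻¹) := by group
      rw [this]; exact Subgroup.mul_mem _ hx hy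
    | inv x _ hx =>
      have : k' * x⁻¹ * k'⁻¹ = (k' * x * k'⁻¹)⁻¹ := by group
      rw [this]; exact Subgroup.inv_mem _ hx
  intro k' hk'
  rw [Subgroup.mem_normalizer_iff]
  intro h
  constructor
  · exact key k' hk' h
  · intro hh
    have := key k'⁻¹ (K.inv_mem hk') _ hh
    simpa [mul_assoc] using this

/-- If `H ⧸ K` is nilpotent, then `C_H(K)` is nilpotent. -/
theorem isNilpotent_centralizer_of_quotient (K : Subgroup H) [K.Normal]
    (hq : Group.IsNilpotent (H ⧸ K)) :
    Group.IsNilpotent (centralizer (K : Set H)) := by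
  let f : centralizer (K : Set H) →* H ⧸ K :=
    (QuotientGroup.mk' K).comp (centralizer (K : Set H)).subtype
  haveI := hq
  refine Subgroup.isNilpotent_of_ker_le_center f ?_
  intro x hx
  rw [MonoidHom.mem_ker] at hx
  have hxK : (x : H) ∈ K := (QuotientGroup.eq_one_iff _).mp hx
  rw [Subgroup.mem_center_iff]
  intro g
  apply Subtype.ext
  have := (Subgroup.mem_centralizer_iff.mp g.2) x hxK
  exact this.symm

variable [Finite H] {p : ℕ} [Fact p.Prime]

/-- A normal nilpotent subgroup of a finite group with `O_p = 1` has order prime to `p`. -/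
theorem coprime_card_of_normal_nilpotent (hO : Cfsg.pCore p H = ⊥) (N : Subgroup H) [N.Normal]
    (hN : Group.IsNilpotent N) : (Nat.card N).Coprime p := by
  rw [Nat.coprime_comm, Nat.Prime.coprime_iff_not_dvd Fact.out]
  intro hdvd
  obtain ⟨P⟩ : Nonempty (Sylow p N) := inferInstance
  have hPn : (P : Subgroup N).Normal :=
    Sylow.normal_of_normalizerCondition Group.normalizerCondition_of_isNilpotent P
  haveI := Sylow.characteristic_of_normal P hPn
  have hn : ((P : Subgroup N).map N.subtype).Normal :=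
    Helper47.normal_map_of_characteristic N (P : Subgroup N)
  have hle : (P : Subgroup N).map N.subtype ≤ Cfsg.pCore p H :=
    Helper47.le_pCore hn (P.isPGroup'.map _)
  rw [hO, le_bot_iff, Subgroup.map_eq_bot_iff_of_injective _ N.subtype_injective] at hle
  have h1 := P.dvd_card_of_dvd_card hdvd
  rw [hle] at h1
  simp only [Subgroup.card_bot, Nat.dvd_one] at h1
  exact (Fact.out : p.Prime).one_lt.ne' h1

/-- `C_H(O^p(H))` has order prime to `p` when `O_p(H) = 1`. -/
theorem qsres_coprime_card_centralizer (hO : Cfsg.pCore p H = ⊥) :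
    (Nat.card (centralizer (Cfsg.pResidual p H : Set H))).Coprime p := by
  have hq : Group.IsNilpotent (H ⧸ Cfsg.pResidual p H) :=
    (Helper47.pResidual_quotient_isPGroup).isNilpotent
  exact coprime_card_of_normal_nilpotent hO _ (isNilpotent_centralizer_of_quotient _ hq)

theorem qsres_isComponent (hq : Cfsg.IsQuasisimple ↥(Cfsg.pResidual p H)) :
    Cfsg.IsComponent (Cfsg.pResidual p H) :=
  ⟨(inferInstance : (Cfsg.pResidual p H).Normal).isSubnormal, hq⟩

/-- Normal subgroups not containing `K = O^p(H)` have order prime to `p`. -/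
theorem qsres_coprime_card_of_normal (hO : Cfsg.pCore p H = ⊥)
    (hq : Cfsg.IsQuasisimple ↥(Cfsg.pResidual p H)) (C : Subgroup H) (hC : C.Normal)
    (hKC : ¬ Cfsg.pResidual p H ≤ C) : (Nat.card C).Coprime p := by
  rcases Helper22.component_le_or_commutator_eq_bot_of_normal (qsres_isComponent hq) hC with h | h
  · exact absurd h hKC
  · have hle : C ≤ centralizer (Cfsg.pResidual p H : Set H) := by
      rw [← commutator_eq_bot_iff_le_centralizer, commutator_comm]
      exact h
    exact Nat.Coprime.coprime_dvd_left (Subgroup.card_dvd_of_le hle)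
      (qsres_coprime_card_centralizer hO)

/-- A `p`-subgroup of order prime to `p` is trivial. -/
theorem eq_bot_of_isPGroup_of_coprime {Y : Subgroup H} (hY : IsPGroup p Y)
    (hc : (Nat.card Y).Coprime p) : Y = ⊥ := by
  obtain ⟨n, hn⟩ := IsPGroup.iff_card.mp hY
  rw [← Subgroup.card_eq_one, hn]
  rcases Nat.eq_zero_or_pos n with h0 | h0
  · rw [h0, pow_zero]
  · exfalso
    rw [hn] at hc
    have : p ∣ p ^ n := dvd_pow_self p h0.ne'
    have h1 : p ∣ Nat.gcd (p ^ n) p := Nat.dvd_gcd this dvd_rfl
    rw [hc] at h1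
    exact (Fact.out : p.Prime).one_lt.ne' (Nat.dvd_one.mp h1)

/-- `⁅K, Y⁆ = K` for every nontrivial `p`-subgroup `Y`. -/
theorem qsres_commutator_eq (hO : Cfsg.pCore p H = ⊥)
    (hq : Cfsg.IsQuasisimple ↥(Cfsg.pResidual p H)) (Y : Subgroup H) (hY : IsPGroup p Y)
    (hne : Y ≠ ⊥) : ⁅Cfsg.pResidual p H, Y⁆ = Cfsg.pResidual p H := by
  have hle : ⁅Cfsg.pResidual p H, Y⁆ ≤ Cfsg.pResidual p H :=
    Subgroup.commutator_le_left (Cfsg.pResidual p H) Y
  rcases Helper22.quasisimple_le_or_commutator_eq_bot hq hle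
    (le_normalizer_commutator_left (Cfsg.pResidual p H) Y) with h | h
  · exact le_antisymm hle h
  · exfalso
    have h3 : ⁅⁅Cfsg.pResidual p H, Y⁆, Cfsg.pResidual p H⁆ = ⊥ := by
      rw [commutator_comm]; exact h
    have h4 : ⁅⁅Y, Cfsg.pResidual p H⁆, Cfsg.pResidual p H⁆ = ⊥ := by
      rw [commutator_comm Y (Cfsg.pResidual p H)]; exact h3
    have h5 : ⁅⁅Cfsg.pResidual p H, Cfsg.pResidual p H⁆, Y⁆ = ⊥ :=
      commutator_commutator_eq_bot_of_rotate h3 h4
    rw [Helper22.quasisimple_commutator_eq hq] at h5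
    have hYc : Y ≤ centralizer (Cfsg.pResidual p H : Set H) := by
      rw [← commutator_eq_bot_iff_le_centralizer, commutator_comm]; exact h5
    have hcop := qsres_coprime_card_centralizer (p := p) (H := H) hO
    exact hne (eq_bot_of_isPGroup_of_coprime hY
      (Nat.Coprime.coprime_dvd_left (Subgroup.card_dvd_of_le hYc) hcop))

/-- `K` lies in the subgroup generated by the `K`-conjugates of `Y`. -/
theorem qsres_le_iSup_conj (hO : Cfsg.pCore p H = ⊥)
    (hq : Cfsg.IsQuasisimple ↥(Cfsg.pResidual p H)) (Y : Subgroup H) (hY : IsPGroup p Y)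
    (hne : Y ≠ ⊥) :
    Cfsg.pResidual p H ≤
      ⨆ k : ↥(Cfsg.pResidual p H), Y.map (MulAut.conj (k : H)).toMonoidHom := by
  conv_lhs => rw [← qsres_commutator_eq hO hq Y hY hne]
  rw [Subgroup.commutator_le]
  intro k hk y hy
  have h1 : k * y * k⁻¹ ∈
      ⨆ k : ↥(Cfsg.pResidual p H), Y.map (MulAut.conj (k : H)).toMonoidHom :=
    (le_iSup (fun k : ↥(Cfsg.pResidual p H) => Y.map (MulAut.conj (k : H)).toMonoidHom)
      ⟨k, hk⟩) ⟨y, hy, by simp⟩
  have h2 : y ∈ ⨆ k : ↥(Cfsg.pResidual p H), Y.map (MulAut.conj (k : H)).toMonoidHom :=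
    (le_iSup (fun k : ↥(Cfsg.pResidual p H) => Y.map (MulAut.conj (k : H)).toMonoidHom)
      1) ⟨y, hy, by simp⟩
  rw [commutatorElement_def]
  exact Subgroup.mul_mem _ h1 (Subgroup.inv_mem _ h2)

/-- `H` is `p`-irreducible. -/
theorem qsres_isPIrreducible (hp : p ∣ Nat.card H) (hO : Cfsg.pCore p H = ⊥)
    (hq : Cfsg.IsQuasisimple ↥(Cfsg.pResidual p H)) : Cfsg.IsPIrreducible p H := by
  refine ⟨?_, ?_⟩
  · intro hcl
    obtain ⟨P⟩ : Nonempty (Sylow p H) := inferInstance
    have h0 := Helper47.sylow_eq_pCore_of_isPClosed hcl P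
    rw [hO] at h0
    have h1 := P.dvd_card_of_dvd_card hp
    rw [h0] at h1
    simp only [Subgroup.card_bot, Nat.dvd_one] at h1
    exact (Fact.out : p.Prime).one_lt.ne' h1
  · intro N hN hNcl
    by_contra hKN
    apply hNcl
    have hcop := qsres_coprime_card_of_normal hO hq N hN hKN
    intro P
    have hP : (P : Subgroup N) = ⊥ := by
      apply eq_bot_of_isPGroup_of_coprime P.isPGroup'
      exact Nat.Coprime.coprime_dvd_left (Subgroup.card_subgroup_dvd_card _) hcop
    rw [hP]
    infer_instance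

/-- `K = F*(H)`. -/
theorem qsres_eq_generalizedFitting (hO : Cfsg.pCore p H = ⊥)
    (hq : Cfsg.IsQuasisimple ↥(Cfsg.pResidual p H)) :
    Cfsg.pResidual p H = Cfsg.generalizedFittingSubgroup H := by
  apply le_antisymm
  · exact (Helper22.component_le_layer (qsres_isComponent hq)).trans le_sup_left
  · unfold Cfsg.generalizedFittingSubgroup
    apply sup_le
    · apply sSup_le
      intro L hL
      have hL' : Cfsg.IsComponent L := hL
      rcases Helper22.component_le_or_commutator_eq_bot hL'
        (inferInstance : (Cfsg.pResidual p H).Normal).isSubnormal with h | h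
      · exact h
      · exfalso
        have hle : L ≤ centralizer (Cfsg.pResidual p H : Set H) :=
          commutator_eq_bot_iff_le_centralizer.mp h
        exact Helper22.component_not_le_of_isNilpotent hL'.2
          (isNilpotent_centralizer_of_quotient _
            (Helper47.pResidual_quotient_isPGroup (p := p) (G := H)).isNilpotent) hle
    · apply sSup_le
      rintro N ⟨hN, hNn⟩
      haveI := hN
      have hcop := coprime_card_of_normal_nilpotent (p := p) hO N hNn
      intro x hx
      apply Helper47.mem_pResidual_of_coprime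
      have hdvd : orderOf x ∣ Nat.card N := by
        have := orderOf_dvd_natCard (⟨x, hx⟩ : N)
        rwa [Subgroup.orderOf_mk] at this
      exact Nat.Coprime.coprime_dvd_left hdvd hcop

end

end Cfsg.Agent.Helper54
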