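import Mathlib
import Cfsg.Agent.Helper20.FusionTools

set_option autoImplicit false

/-!
# Involutions whose centralizer has at most three involutions (helper54)

Tools for S3279 (a consumer of the Z*-theorem):

* `parity_fixed`: the sign of the permutation induced by an involution on a coset space.
* `hom_units_trivial_of_simple`: a simple group with more than two elements has no nontrivial
  homomorphism to `ℤˣ`.
* `four_of_invol_auto`: a `2`-group `T` with exactly three involutions `x, y, x*y` (all central) and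
  an involutory automorphism `w` with `x ↦ x*y` and fixed points `{1, y}` is the four-group.
-/

namespace Cfsg.Agent.Helper54

open Subgroup

section parity

variable {G : Type*} [Group G] [Finite G]

/-- The permutation induced by `u` (`u * u = 1`) on the cosets of `H` has sign
`(-1) ^ k` where `H.index = (number of fixed cosets) + 2 * k`. If `G` has no nontrivial
homomorphism to `ℤˣ`, then `k` is even. -/
theorem parity_fixed (hG : ∀ f : G →* ℤˣ, ∀ g : G, f g = 1) (H : Subgroup G) (u : G)
    (hu : u * u = 1) :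
    ∃ k : ℕ, H.index = Nat.card {q : G ⧸ H | u • q = q} + 2 * k ∧ Even k := by
  classical
  letI : Fintype (G ⧸ H) := Fintype.ofFinite _
  set σ : Equiv.Perm (G ⧸ H) := MulAction.toPermHom G (G ⧸ H) u with hσ
  have hσ2 : σ ^ 2 = 1 := by
    rw [hσ, ← map_pow, pow_two, hu, map_one]
  have hsign := Equiv.Perm.sign_of_pow_two_eq_one hσ2
  have h1 : (Equiv.Perm.sign.comp (MulAction.toPermHom G (G ⧸ H))) u = 1 := hG _ u
  rw [MonoidHom.comp_apply] at h1
  rw [← hσ] at h1
  rw [h1] at hsign
  have hfix : Function.fixedPoints σ = {q : G ⧸ H | u • q = q} := by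
    ext q
    rw [Function.mem_fixedPoints, Function.IsFixedPt]
    rfl
  have hcardfix : Fintype.card (Function.fixedPoints σ) = Nat.card {q : G ⧸ H | u • q = q} := by
    rw [← Nat.card_eq_fintype_card, hfix]
  have hcard : Fintype.card (G ⧸ H) = H.index := by
    rw [Subgroup.index_eq_card, Nat.card_eq_fintype_card]
  have hfp := Equiv.Perm.card_fixedPoints σ
  have hsum := Equiv.Perm.sum_cycleType σ
  have hle := Equiv.Perm.sum_cycleType_le σ
  have h2 := Equiv.Perm.two_dvd_card_support hσ2
  obtain ⟨k, hk⟩ := h2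
  refine ⟨k, ?_, ?_⟩
  · rw [← hcard, ← hcardfix, hfp, hsum, hk]
    rw [hsum, hk] at hle
    omega
  · have h3 : Fintype.card (G ⧸ H) - Fintype.card (Function.fixedPoints σ) = 2 * k := by
      rw [hfp, hsum, hk]
      rw [hsum, hk] at hle
      omega
    rw [h3, Nat.mul_div_cancel_left _ (by norm_num : 0 < 2)] at hsign
    by_contra hodd
    rw [Nat.not_even_iff_odd] at hodd
    rw [hodd.neg_one_pow] at hsign
    exact absurd hsign (by decide)

/-- A simple group with more than two elements has no nontrivial homomorphism to `ℤˣ`. -/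
theorem hom_units_trivial_of_simple [IsSimpleGroup G] (h3 : 2 < Nat.card G) (f : G →* ℤˣ)
    (g : G) : f g = 1 := by
  rcases f.normal_ker.eq_bot_or_eq_top with h | h
  · exfalso
    have hinj : Function.Injective f := (MonoidHom.ker_eq_bot_iff f).mp h
    have hle := Nat.card_le_card_of_injective f hinj
    have h2 : Nat.card ℤˣ = 2 := by
      rw [Nat.card_eq_fintype_card]; rfl
    omega
  · have : g ∈ f.ker := h ▸ Subgroup.mem_top g
    exact MonoidHom.mem_ker.mp this

end parity

section twogroup

variable {G : Type*} [Group G]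

/-- A finite `2`-group `T` whose involutions are `x, y, x*y` (with `x`, `y` central in `T`),
normalized by an involution `w` with `w x w⁻¹ = x*y`, `w y w⁻¹ = y` and `C_T(w) = {1, y}`,
is the four-group `{1, x, y, x*y}`. -/
theorem four_of_invol_auto (T : Subgroup G) [Finite T] (hT2 : IsPGroup 2 T) (w x y : G)
    (hwT : ∀ t ∈ T, w * t * w⁻¹ ∈ T) (hw : w * w = 1)
    (hxT : x ∈ T) (hyT : y ∈ T) (hx : x * x = 1) (hy : y * y = 1) (hy1 : y ≠ 1)
    (hxc : ∀ t ∈ T, t * x = x * t) (hyc : ∀ t ∈ T, t * y = y * t)
    (hwx : w * x * w⁻¹ = x * y) (hwy : w * y * w⁻¹ = y)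
    (hfix : ∀ t ∈ T, w * t * w⁻¹ = t → t = 1 ∨ t = y)
    (hinv : ∀ t ∈ T, t * t = 1 → t = 1 ∨ t = x ∨ t = y ∨ t = x * y) :
    ∀ t ∈ T, t = 1 ∨ t = x ∨ t = y ∨ t = x * y := by
  classical
  have hwi : w⁻¹ = w := inv_eq_of_mul_eq_one_left hw
  have hxi : x⁻¹ = x := inv_eq_of_mul_eq_one_left hx
  have hyi : y⁻¹ = y := inv_eq_of_mul_eq_one_left hy
  -- basic properties of `σ t = w t w⁻¹`
  have hσmul : ∀ a b : G, w * (a * b) * w⁻¹ = (w * a * w⁻¹) * (w * b * w⁻¹) := by
    intro a b; group
  have hσinv : ∀ a : G, w * a⁻¹ * w⁻¹ = (w * a * w⁻¹)⁻¹ := by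
    intro a; group
  have hσσ : ∀ a : G, w * (w * a * w⁻¹) * w⁻¹ = a := by
    intro a
    have h1 : w * (w * a * w⁻¹) * w⁻¹ = (w * w) * a * (w * w)⁻¹ := by group
    rw [h1, hw, one_mul, inv_one, mul_one]
  -- Step A: every element is inverted or inverted up to `y`
  have hA : ∀ t ∈ T, w * t * w⁻¹ = t⁻¹ ∨ w * t * w⁻¹ = t⁻¹ * y := by
    letI : Fintype ↥T := Fintype.ofFinite _
    let θ : ↥T → ↥T := fun t =>
      ⟨(t : G)⁻¹ * (w * (t : G) * w⁻¹), T.mul_mem (T.inv_mem t.2) (hwT _ t.2)⟩
    let I : Finset ↥T := Finset.univ.filter (fun t => w * (t : G) * w⁻¹ = (t : G)⁻¹)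
    have hθI : ∀ t : ↥T, θ t ∈ I := by
      intro t
      rw [Finset.mem_filter]
      refine ⟨Finset.mem_univ _, ?_⟩
      show w * ((t : G)⁻¹ * (w * (t : G) * w⁻¹)) * w⁻¹ = ((t : G)⁻¹ * (w * (t : G) * w⁻¹))⁻¹
      rw [hσmul, hσσ, hσinv]
      group
    have hfib : ∀ s t : ↥T, θ s = θ t → s = t ∨ (s : G) = (t : G) * y := by
      intro s t hst
      have h1 : (s : G)⁻¹ * (w * (s : G) * w⁻¹) = (t : G)⁻¹ * (w * (t : G) * w⁻¹) :=
        congrArg Subtype.val hst
      have h2 : w * ((t : G) * (s : G)⁻¹) * w⁻¹ = (t : G) * (s : G)⁻¹ := by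
        rw [hσmul, hσinv]
        have h3 : w * (t : G) * w⁻¹ = (t : G) * ((s : G)⁻¹ * (w * (s : G) * w⁻¹)) := by
          rw [h1]; group
        rw [h3]; group
      rcases hfix _ (T.mul_mem t.2 (T.inv_mem s.2)) h2 with h | h
      · left
        apply Subtype.ext
        have : (t : G) = (s : G) := by
          have := congrArg (· * (s : G)) h
          simpa using this
        exact this.symm
      · right
        have h4 : (t : G) = y * (s : G) := by
          have := congrArg (· * (s : G)) h
          simpa using this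
        rw [h4, ← hyc _ s.2, mul_assoc, hy, mul_one]
    have hcard1 : Fintype.card ↥T ≤ 2 * I.card := by
      have h1 : (Finset.univ : Finset ↥T).card ≤ 2 * ((Finset.univ : Finset ↥T).image θ).card := by
        apply Finset.card_le_mul_card_image
        intro b hb
        obtain ⟨t₀, -, rfl⟩ := Finset.mem_image.mp hb
        have hsub : (Finset.univ.filter (fun a => θ a = θ t₀)) ⊆
            ({t₀, ⟨(t₀ : G) * y, T.mul_mem t₀.2 hyT⟩} : Finset ↥T) := by
          intro a ha
          rw [Finset.mem_filter] at ha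
          rw [Finset.mem_insert, Finset.mem_singleton]
          rcases hfib a t₀ ha.2 with h | h
          · left; exact h
          · right; exact Subtype.ext h
        exact (Finset.card_le_card hsub).trans Finset.card_le_two
      have h2 : ((Finset.univ : Finset ↥T).image θ).card ≤ I.card := by
        apply Finset.card_le_card
        intro b hb
        obtain ⟨t₀, -, rfl⟩ := Finset.mem_image.mp hb
        exact hθI t₀
      rw [Finset.card_univ] at h1
      omega
    let mx : ↥T → ↥T := fun t => ⟨x * (t : G), T.mul_mem hxT t.2⟩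
    have hmx_inj : Function.Injective mx := by
      intro a b hab
      apply Subtype.ext
      have : x * (a : G) = x * (b : G) := congrArg Subtype.val hab
      exact mul_left_cancel this
    have hdisj : Disjoint I (I.image mx) := by
      rw [Finset.disjoint_left]
      intro t htI htJ
      obtain ⟨u, huI, rfl⟩ := Finset.mem_image.mp htJ
      rw [Finset.mem_filter] at htI huI
      have h1 : w * (x * (u : G)) * w⁻¹ = (x * (u : G))⁻¹ := htI.2
      rw [hσmul, hwx, huI.2, mul_inv_rev, hxi] at h1
      -- x * y * u⁻¹ = u⁻¹ * x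
      have h2 : (u : G)⁻¹ * x = x * (u : G)⁻¹ := hxc _ (T.inv_mem u.2)
      have h3 : (u : G)⁻¹ * y = y * (u : G)⁻¹ := hyc _ (T.inv_mem u.2)
      rw [h2, mul_assoc, ← h3, ← mul_assoc] at h1
      -- x * u⁻¹ * y = x * u⁻¹
      exact hy1 (by simpa using h1)
    have hcard2 : 2 * I.card ≤ Fintype.card ↥T := by
      have h1 : (I ∪ I.image mx).card = I.card + (I.image mx).card :=
        Finset.card_union_of_disjoint hdisj
      rw [Finset.card_image_of_injective _ hmx_inj] at h1
      have h2 : (I ∪ I.image mx).card ≤ Fintype.card ↥T := Finset.card_le_univ _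
      omega
    have huniv : I ∪ I.image mx = Finset.univ := by
      apply Finset.eq_univ_of_card
      rw [Finset.card_union_of_disjoint hdisj, Finset.card_image_of_injective _ hmx_inj]
      omega
    intro t ht
    have hmem : (⟨t, ht⟩ : ↥T) ∈ I ∪ I.image mx := by rw [huniv]; exact Finset.mem_univ _
    rcases Finset.mem_union.mp hmem with h | h
    · left
      exact (Finset.mem_filter.mp h).2
    · right
      obtain ⟨u, huI, hu⟩ := Finset.mem_image.mp h
      have hu' : x * (u : G) = t := congrArg Subtype.val hu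
      have huI' : w * (u : G) * w⁻¹ = (u : G)⁻¹ := (Finset.mem_filter.mp huI).2
      rw [← hu', hσmul, hwx, huI', mul_inv_rev, hxi]
      have h2 : (u : G)⁻¹ * x = x * (u : G)⁻¹ := hxc _ (T.inv_mem u.2)
      have h3 : (u : G)⁻¹ * y = y * (u : G)⁻¹ := hyc _ (T.inv_mem u.2)
      rw [h2, mul_assoc x, ← h3, ← mul_assoc]
  -- Step B: no element of `T` squares to `y`
  have hB : ∀ c ∈ T, c * c ≠ y := by
    intro c hc hcc
    have key : ∀ d ∈ T, d * d = y → w * d * w⁻¹ = d⁻¹ := by
      intro d hd hdd
      rcases hA d hd with h | h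
      · exact h
      · exfalso
        have h1 : d⁻¹ * y = d := by rw [← hdd]; group
        rw [h1] at h
        rcases hfix d hd h with h2 | h2
        · rw [h2, one_mul] at hdd
          exact hy1 hdd.symm
        · rw [h2, hy] at hdd
          exact hy1 hdd.symm
    have h1 := key c hc hcc
    have hxcT : x * c ∈ T := T.mul_mem hxT hc
    have hxc2 : (x * c) * (x * c) = y := by
      have : c * x = x * c := hxc c hc
      calc (x * c) * (x * c) = x * (c * x) * c := by group
        _ = x * (x * c) * c := by rw [this]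
        _ = (x * x) * (c * c) := by group
        _ = y := by rw [hx, hcc, one_mul]
    have h2 := key (x * c) hxcT hxc2
    rw [hσmul, hwx, h1, mul_inv_rev, hxi] at h2
    have h3 : c⁻¹ * x = x * c⁻¹ := hxc _ (T.inv_mem hc)
    have h4 : c⁻¹ * y = y * c⁻¹ := hyc _ (T.inv_mem hc)
    rw [h3, mul_assoc x, ← h4, ← mul_assoc] at h2
    exact hy1 (by simpa using h2)
  -- Step C: every element of `T` squares to one
  have hC : ∀ t ∈ T, t * t = 1 := by
    intro t ht
    by_contra htt
    have hex : ∃ k : ℕ, t ^ (2 ^ k) = 1 := by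
      obtain ⟨k, hk⟩ := hT2 ⟨t, ht⟩
      exact ⟨k, by simpa using congrArg Subtype.val hk⟩
    have hk := Nat.find_spec hex
    have hmin := fun m (hm : m < Nat.find hex) => Nat.find_min hex hm
    set k := Nat.find hex with hkdef
    have hk2 : 2 ≤ k := by
      by_contra hlt
      have : k = 0 ∨ k = 1 := by omega
      rcases this with h0 | h1
      · rw [h0, pow_zero, pow_one] at hk
        rw [hk, one_mul] at htt
        exact htt rfl
      · rw [h1, pow_one, pow_two] at hk
        exact htt hk
    set d := t ^ (2 ^ (k - 2)) with hd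
    have hdT : d ∈ T := T.pow_mem ht _
    have hdd : d * d = t ^ (2 ^ (k - 1)) := by
      rw [hd, ← pow_add, ← two_mul, ← pow_succ']
      congr 2
      omega
    have hdd1 : d * d ≠ 1 := by
      rw [hdd]
      exact hmin (k - 1) (by omega)
    have hdd2 : (d * d) * (d * d) = 1 := by
      rw [hdd, ← pow_add, ← two_mul, ← pow_succ']
      have : k - 1 + 1 = k := by omega
      rw [this]
      exact hk
    have hσe : w * (d * d) * w⁻¹ = d * d := by
      have hinv' : (d * d)⁻¹ = d * d := inv_eq_of_mul_eq_one_left hdd2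
      rw [hσmul]
      rcases hA d hdT with h | h
      · rw [h, ← mul_inv_rev, hinv']
      · rw [h]
        have h4 : d⁻¹ * y = y * d⁻¹ := hyc _ (T.inv_mem hdT)
        calc d⁻¹ * y * (d⁻¹ * y) = d⁻¹ * (y * d⁻¹) * y := by group
          _ = d⁻¹ * (d⁻¹ * y) * y := by rw [h4]
          _ = (d * d)⁻¹ * (y * y) := by group
          _ = d * d := by rw [hy, mul_one, hinv']
    rcases hfix _ (T.mul_mem hdT hdT) hσe with h | h
    · exact hdd1 h
    · exact hB d hdT h
  intro t ht
  exact hinv t ht (hC t ht)

end twogroup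

end Cfsg.Agent.Helper54
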