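import Mathlib
import Cfsg.Agent.Helper54.ThreeInvol
import Cfsg.Agent.Helper53.Isolated

set_option autoImplicit false
set_option linter.style.haveILetI false
set_option linter.unusedSectionVars false
set_option linter.unusedVariables false

/-!
# A simple group with an involution whose centralizer has at most three involutions (helper54)

Main theorem `three_invol_main` (S3279), relative to the Z*-theorem for the group itself.
-/

namespace Cfsg.Agent.Helper54

open Subgroup

section basics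

variable {G : Type*} [Group G]

theorem ti_orderOf_two_iff (u : G) : orderOf u = 2 ↔ u * u = 1 ∧ u ≠ 1 := by
  constructor
  · intro h
    refine ⟨?_, ?_⟩
    · have := pow_orderOf_eq_one u
      rw [h, pow_two] at this
      exact this
    · rintro rfl
      rw [orderOf_one] at h
      exact absurd h (by norm_num)
  · rintro ⟨h1, h2⟩
    haveI : Fact (Nat.Prime 2) := ⟨Nat.prime_two⟩
    exact orderOf_eq_prime (by rw [pow_two]; exact h1) h2

theorem ti_orderOf_conj (g u : G) : orderOf (g * u * g⁻¹) = orderOf u := by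
  rw [← MulAut.conj_apply]
  exact orderOf_injective (MulAut.conj g).toMonoidHom (MulAut.conj g).injective u

theorem ti_inv_eq_self (u : G) (hu : orderOf u = 2) : u⁻¹ = u :=
  inv_eq_of_mul_eq_one_left ((ti_orderOf_two_iff u).mp hu).1

theorem ti_mem_smul_sylow_iff {p : ℕ} (g : G) (P : Sylow p G) (s : G) :
    s ∈ ((g • P : Sylow p G) : Subgroup G) ↔ g⁻¹ * s * g ∈ (P : Subgroup G) := by
  rw [Sylow.coe_subgroup_smul, Subgroup.mem_pointwise_smul_iff_inv_smul_mem]
  simp [MulAut.smul_def]

theorem ti_two_lt_card [Finite G] (a b : G) (ha : a ≠ 1) (hb : b ≠ 1) (hab : a ≠ b) :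
    2 < Nat.card G := by
  classical
  letI := Fintype.ofFinite G
  have h := Finset.card_le_univ ({1, a, b} : Finset G)
  rw [Finset.card_insert_of_notMem (by simp [ha.symm, hb.symm]),
    Finset.card_insert_of_notMem (by simp [hab]), Finset.card_singleton] at h
  rw [Nat.card_eq_fintype_card]
  omega

theorem ti_eq_of_card_le_three {α : Type*} [Finite α] (h : Nat.card α ≤ 3) (a b c d : α)
    (hab : a ≠ b) (hac : a ≠ c) (hbc : b ≠ c) : d = a ∨ d = b ∨ d = c := by
  classical
  letI := Fintype.ofFinite α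
  by_contra hd
  rw [not_or, not_or] at hd
  have h4 := Finset.card_le_univ ({d, a, b, c} : Finset α)
  rw [Finset.card_insert_of_notMem (by simp [hd.1, hd.2.1, hd.2.2]),
    Finset.card_insert_of_notMem (by simp [hab, hac]),
    Finset.card_insert_of_notMem (by simp [hbc]), Finset.card_singleton] at h4
  rw [Nat.card_eq_fintype_card] at h
  omega

/-- A nontrivial element of a `2`-group has a power of order two. -/
theorem ti_exists_pow_invol (t : G) (ht : ∃ k : ℕ, t ^ (2 ^ k) = 1) (ht1 : t ≠ 1) :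
    ∃ m : ℕ, orderOf (t ^ m) = 2 := by
  obtain ⟨k, hk⟩ := ht
  have hdvd : orderOf t ∣ 2 ^ k := orderOf_dvd_of_pow_eq_one hk
  obtain ⟨j, -, hj⟩ := (Nat.dvd_prime_pow Nat.prime_two).mp hdvd
  have hj0 : j ≠ 0 := by
    rintro rfl
    rw [pow_zero, orderOf_eq_one_iff] at hj
    exact ht1 hj
  refine ⟨orderOf t / 2, orderOf_pow_orderOf_div ?_ ?_⟩
  · rw [hj]; positivity
  · rw [hj]; exact dvd_pow_self 2 hj0

/-- A nontrivial Sylow `2`-subgroup contains an involution central in it. -/
theorem ti_exists_central_invol [Finite G] (P : Sylow 2 G) (u : G) (huP : u ∈ (P : Subgroup G))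
    (hu1 : u ≠ 1) :
    ∃ z ∈ (P : Subgroup G), orderOf z = 2 ∧ ∀ s ∈ (P : Subgroup G), s * z = z * s := by
  haveI : Fact (Nat.Prime 2) := ⟨Nat.prime_two⟩
  haveI : Nontrivial ↥(P : Subgroup G) :=
    ⟨⟨⟨u, huP⟩, 1, fun h => hu1 (congrArg Subtype.val h)⟩⟩
  have hcn : Nontrivial (center ↥(P : Subgroup G)) := IsPGroup.center_nontrivial P.2
  have hpc : IsPGroup 2 (center ↥(P : Subgroup G)) := P.2.to_subgroup _
  obtain ⟨n, hn⟩ := IsPGroup.iff_card.mp hpc
  have h2 : 2 ∣ Nat.card (center ↥(P : Subgroup G)) := by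
    rw [hn]
    apply dvd_pow_self
    rintro rfl
    rw [pow_zero] at hn
    have := Finite.one_lt_card (α := center ↥(P : Subgroup G))
    omega
  obtain ⟨z, hz⟩ := exists_prime_orderOf_dvd_card' 2 h2
  refine ⟨((z : ↥(P : Subgroup G)) : G), (z : ↥(P : Subgroup G)).2, ?_, ?_⟩
  · rw [Subgroup.orderOf_coe, Subgroup.orderOf_coe]
    exact hz
  · intro s hs
    have h1 := Subgroup.mem_center_iff.mp z.2 ⟨s, hs⟩
    exact congrArg Subtype.val h1

end basics

section simple

variable {G : Type*} [Group G] [Finite G] [IsSimpleGroup G]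

/-- In a simple group satisfying the conclusion of the `Z*`-theorem, a noncentral involution of a
Sylow `2`-subgroup `P` has a conjugate in `P` different from itself. -/
theorem ti_exists_conj_ne_of_simple
    (hZ : ∀ (P : Sylow 2 G) (u : G), orderOf u = 2 → u ∈ P →
      (∀ g : G, g * u * g⁻¹ ∈ P → g * u * g⁻¹ = u) →
      ∃ N : Subgroup G, N.Normal ∧ Odd (Nat.card N) ∧ ∀ g : G, (u * g * u⁻¹ * g⁻¹) ∈ N)
    (P : Sylow 2 G) (u : G) (hu : orderOf u = 2) (huP : u ∈ P) (hnc : ∃ g : G, g * u ≠ u * g) :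
    ∃ g : G, g * u * g⁻¹ ∈ P ∧ g * u * g⁻¹ ≠ u := by
  by_contra hcon
  have hiso : ∀ g : G, g * u * g⁻¹ ∈ P → g * u * g⁻¹ = u := by
    intro g hg
    by_contra hne
    exact hcon ⟨g, hg, hne⟩
  obtain ⟨N, hN, hodd, hcomm⟩ := hZ P u hu huP hiso
  rcases hN.eq_bot_or_eq_top with h | h
  · obtain ⟨g, hg⟩ := hnc
    have h1 := hcomm g
    rw [h, Subgroup.mem_bot] at h1
    apply hg
    have h2 : u * g = g * u := by
      calc u * g = (u * g * u⁻¹ * g⁻¹) * (g * u) := by group
        _ = g * u := by rw [h1, one_mul]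
    exact h2.symm
  · rw [h, Subgroup.card_top] at hodd
    have h2 : 2 ∣ Nat.card G := hu ▸ orderOf_dvd_natCard u
    exact (Nat.not_even_iff_odd.mpr hodd) (even_iff_two_dvd.mpr h2)

/-- If every involution commuting with `x` is conjugate to `x`, the conclusion of S3279 holds. -/
theorem ti_conj_of_all (x : G) (hx : orderOf x = 2)
    (hall : ∀ t : G, orderOf t = 2 → t * x = x * t → ∃ g : G, g * x * g⁻¹ = t) :
    (∃ S : Sylow 2 G, (S : Subgroup G) ≤ Subgroup.centralizer ({x} : Set G)) ∧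
      ∀ u v : G, orderOf u = 2 → orderOf v = 2 → IsConj u v := by
  haveI : Fact (Nat.Prime 2) := ⟨Nat.prime_two⟩
  obtain ⟨P, hxP⟩ := Cfsg.Agent.Helper53.exists_sylow_two_mem x hx
  have hx1 : x ≠ 1 := ((ti_orderOf_two_iff x).mp hx).2
  obtain ⟨z, hzP, hz, hzc⟩ := ti_exists_central_invol P x hxP hx1
  obtain ⟨g, hg⟩ := hall z hz (hzc x hxP).symm
  have hS : ((g⁻¹ • P : Sylow 2 G) : Subgroup G) ≤ centralizer {x} := by
    intro s hs
    rw [ti_mem_smul_sylow_iff, inv_inv] at hs
    rw [Subgroup.mem_centralizer_singleton_iff]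
    have h1 := hzc _ hs
    rw [← hg] at h1
    have h2 : g * (s * x) * g⁻¹ = g * (x * s) * g⁻¹ := by
      calc g * (s * x) * g⁻¹ = g * s * g⁻¹ * (g * x * g⁻¹) := by group
        _ = g * x * g⁻¹ * (g * s * g⁻¹) := h1
        _ = g * (x * s) * g⁻¹ := by group
    exact mul_left_cancel (mul_right_cancel h2)
  refine ⟨⟨_, hS⟩, ?_⟩
  have key : ∀ u : G, orderOf u = 2 → ∃ c : G, c * x * c⁻¹ = u := by
    intro u hu
    obtain ⟨Q, huQ⟩ := Cfsg.Agent.Helper53.exists_sylow_two_mem u hu
    obtain ⟨c, hc⟩ := MulAction.exists_smul_eq G Q (g⁻¹ • P)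
    have h1 : c * u * c⁻¹ ∈ ((g⁻¹ • P : Sylow 2 G) : Subgroup G) := by
      rw [← hc, ti_mem_smul_sylow_iff]
      have : c⁻¹ * (c * u * c⁻¹) * c = u := by group
      rw [this]
      exact huQ
    have h2 := Subgroup.mem_centralizer_singleton_iff.mp (hS h1)
    obtain ⟨d, hd⟩ := hall (c * u * c⁻¹) (by rw [ti_orderOf_conj]; exact hu) h2
    refine ⟨c⁻¹ * d, ?_⟩
    calc c⁻¹ * d * x * (c⁻¹ * d)⁻¹ = c⁻¹ * (d * x * d⁻¹) * c := by group
      _ = u := by rw [hd]; group
  intro u v hu hv
  obtain ⟨c, rfl⟩ := key u hu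
  obtain ⟨d, rfl⟩ := key v hv
  rw [isConj_iff]
  exact ⟨d * c⁻¹, by group⟩

/-- An isolated involution `x` cannot exist in a simple group having a further involution. -/
theorem ti_isolated_false
    (hZ : ∀ (P : Sylow 2 G) (u : G), orderOf u = 2 → u ∈ P →
      (∀ g : G, g * u * g⁻¹ ∈ P → g * u * g⁻¹ = u) →
      ∃ N : Subgroup G, N.Normal ∧ Odd (Nat.card N) ∧ ∀ g : G, (u * g * u⁻¹ * g⁻¹) ∈ N)
    (x a : G) (hx : orderOf x = 2) (ha : orderOf a = 2) (hax : a ≠ x)
    (hiso : ∀ g : G, (g * x * g⁻¹) * x = x * (g * x * g⁻¹) → g * x * g⁻¹ = x) : False := by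
  haveI : Fact (Nat.Prime 2) := ⟨Nat.prime_two⟩
  obtain ⟨P, hxP⟩ := Cfsg.Agent.Helper53.exists_sylow_two_mem x hx
  have hx1 : x ≠ 1 := ((ti_orderOf_two_iff x).mp hx).2
  have ha1 : a ≠ 1 := ((ti_orderOf_two_iff a).mp ha).2
  have hisoI : Cfsg.IsIsolatedInvolution x := ⟨hx, fun g hg => hiso g hg.eq.symm⟩
  have hwc := Cfsg.Agent.Helper53.isolated_weakly_closed x hisoI P hxP
  have hnc : ∃ g : G, g * x ≠ x * g := by
    by_contra hcen
    have hcen' : ∀ g : G, g * x = x * g := by
      intro g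
      by_contra h
      exact hcen ⟨g, h⟩
    have hle : zpowers x ≤ center G := by
      rw [zpowers_le]
      exact Subgroup.mem_center_iff.mpr hcen'
    have hnorm : (zpowers x).Normal := by
      refine ⟨fun n hn g => ?_⟩
      have h1 := Subgroup.mem_center_iff.mp (hle hn) g
      have h2 : g * n * g⁻¹ = n := by rw [h1]; group
      rw [h2]; exact hn
    rcases hnorm.eq_bot_or_eq_top with h | h
    · have : x ∈ zpowers x := mem_zpowers x
      rw [h, Subgroup.mem_bot] at this
      exact hx1 this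
    · have h1 : Nat.card (zpowers x) = 2 := by rw [Nat.card_zpowers, hx]
      rw [h, Subgroup.card_top] at h1
      have h2 := ti_two_lt_card x a hx1 ha1 hax.symm
      omega
  obtain ⟨g, hgP, hgne⟩ := ti_exists_conj_ne_of_simple hZ P x hx hxP hnc
  exact hgne (hwc g hgP)

/-- The case where exactly one of the two other involutions of `C(x)` is conjugate to `x` is
impossible. -/
theorem ti_mixed_false
    (hZ : ∀ (P : Sylow 2 G) (u : G), orderOf u = 2 → u ∈ P →
      (∀ g : G, g * u * g⁻¹ ∈ P → g * u * g⁻¹ = u) →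
      ∃ N : Subgroup G, N.Normal ∧ Odd (Nat.card N) ∧ ∀ g : G, (u * g * u⁻¹ * g⁻¹) ∈ N)
    (x y : G) (hx : orderOf x = 2) (hy : orderOf y = 2) (hxy : x * y = y * x) (hyx : y ≠ x)
    (hI : ∀ t : G, orderOf t = 2 → t * x = x * t → t = x ∨ t = y ∨ t = x * y)
    (h : G) (hh : h * x * h⁻¹ = x * y) (hnc : ∀ g : G, g * x * g⁻¹ ≠ y) : False := by
  haveI : Fact (Nat.Prime 2) := ⟨Nat.prime_two⟩
  obtain ⟨hxx, hx1⟩ := (ti_orderOf_two_iff x).mp hx
  obtain ⟨hyy, hy1⟩ := (ti_orderOf_two_iff y).mp hy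
  have hxi : x⁻¹ = x := ti_inv_eq_self x hx
  have hyi : y⁻¹ = y := ti_inv_eq_self y hy
  have hoc : ∀ (k t : G), orderOf t = 2 → orderOf (k⁻¹ * t * k) = 2 := by
    intro k t ht
    have := ti_orderOf_conj k⁻¹ t
    rw [inv_inv] at this
    rw [this]; exact ht
  -- involutions commuting with a conjugate of `x`
  have hconj3 : ∀ k t : G, orderOf t = 2 → t * (k * x * k⁻¹) = (k * x * k⁻¹) * t →
      t = k * x * k⁻¹ ∨ t = k * y * k⁻¹ ∨ t = k * (x * y) * k⁻¹ := by
    intro k t ht htc
    have h1 : (k⁻¹ * t * k) * x = x * (k⁻¹ * t * k) := by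
      calc (k⁻¹ * t * k) * x = k⁻¹ * (t * (k * x * k⁻¹)) * k := by group
        _ = k⁻¹ * ((k * x * k⁻¹) * t) * k := by rw [htc]
        _ = x * (k⁻¹ * t * k) := by group
    rcases hI _ (hoc k t ht) h1 with h3 | h3 | h3
    · left; rw [← h3]; group
    · right; left; rw [← h3]; group
    · right; right; rw [← h3]; group
  -- an element conjugating `x` to `x * y` centralizes `y` and its inverse does the same
  have hswap : ∀ g : G, g * x * g⁻¹ = x * y → g * y * g⁻¹ = y ∧ g⁻¹ * x * g = x * y := by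
    intro g hg
    have h1 : g⁻¹ * (x * y) * g = x := by rw [← hg]; group
    have h2 : (g⁻¹ * y * g) * x = x * (g⁻¹ * y * g) := by
      have hc : y * (x * y) = (x * y) * y := by rw [← mul_assoc, ← hxy]
      calc (g⁻¹ * y * g) * x = (g⁻¹ * y * g) * (g⁻¹ * (x * y) * g) := by rw [h1]
        _ = g⁻¹ * (y * (x * y)) * g := by group
        _ = g⁻¹ * ((x * y) * y) * g := by rw [hc]
        _ = (g⁻¹ * (x * y) * g) * (g⁻¹ * y * g) := by group
        _ = x * (g⁻¹ * y * g) := by rw [h1]
    have h4 : g⁻¹ * y * g = y := by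
      rcases hI _ (hoc g y hy) h2 with h5 | h5 | h5
      · exfalso
        apply hnc g
        rw [← h5]; group
      · exact h5
      · exfalso
        apply hnc (g * g)
        calc g * g * x * (g * g)⁻¹ = g * (g * x * g⁻¹) * g⁻¹ := by group
          _ = g * (g⁻¹ * y * g) * g⁻¹ := by rw [hg, h5]
          _ = y := by group
    refine ⟨?_, ?_⟩
    · calc g * y * g⁻¹ = g * (g⁻¹ * y * g) * g⁻¹ := by rw [h4]
        _ = y := by group
    · have h5 : (g⁻¹ * x * g) * y = x := by
        calc (g⁻¹ * x * g) * y = (g⁻¹ * x * g) * (g⁻¹ * y * g) := by rw [h4]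
          _ = g⁻¹ * (x * y) * g := by group
          _ = x := h1
      calc g⁻¹ * x * g = (g⁻¹ * x * g) * y * y := by rw [mul_assoc (g⁻¹ * x * g) y y, hyy, mul_one]
        _ = x * y := by rw [h5]
  obtain ⟨hhy, hhx⟩ := hswap h hh
  set C : Subgroup G := centralizer ({x} : Set G) with hC
  have hCmem : ∀ c : G, c ∈ C ↔ c * x = x * c :=
    fun c => Subgroup.mem_centralizer_singleton_iff
  -- the centralizer of `x * y` lies in `C`
  have hCxy : ∀ c : G, c * (x * y) = (x * y) * c → c * x = x * c := by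
    intro c hc
    have h2 : c * (x * y) * c⁻¹ = x * y := by rw [hc]; group
    have h1 : (c * x * c⁻¹) * (h * x * h⁻¹) = (h * x * h⁻¹) * (c * x * c⁻¹) := by
      rw [hh]
      have hc' : x * (x * y) = (x * y) * x := by rw [mul_assoc x y x, ← hxy]
      calc (c * x * c⁻¹) * (x * y) = (c * x * c⁻¹) * (c * (x * y) * c⁻¹) := by rw [h2]
        _ = c * (x * (x * y)) * c⁻¹ := by group
        _ = c * ((x * y) * x) * c⁻¹ := by rw [hc']
        _ = (c * (x * y) * c⁻¹) * (c * x * c⁻¹) := by group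
        _ = (x * y) * (c * x * c⁻¹) := by rw [h2]
    rcases hconj3 h _ (by rw [ti_orderOf_conj]; exact hx) h1 with h3 | h3 | h3
    · exfalso
      rw [hh, ← h2] at h3
      have h4 : x = x * y := mul_left_cancel (mul_right_cancel h3)
      exact hy1 (by simpa using h4)
    · exfalso
      rw [hhy] at h3
      exact hnc c h3
    · have h4 : h * (x * y) * h⁻¹ = x := by
        calc h * (x * y) * h⁻¹ = (h * x * h⁻¹) * (h * y * h⁻¹) := by group
          _ = x * y * y := by rw [hh, hhy]
          _ = x := by rw [mul_assoc, hyy, mul_one]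
      rw [h4] at h3
      calc c * x = (c * x * c⁻¹) * c := by group
        _ = x * c := by rw [h3]
  have h2G : 2 < Nat.card G := ti_two_lt_card x y hx1 hy1 hyx.symm
  have hsgn := hom_units_trivial_of_simple h2G
  -- the fixed cosets of `x` on `G ⧸ C`
  have hfixC : {q : G ⧸ C | x • q = q} = {((1 : G) : G ⧸ C), ((h : G) : G ⧸ C)} := by
    ext q
    simp only [Set.mem_ofPred_eq, Set.mem_insert_iff, Set.mem_singleton_iff]
    constructor
    · induction q using QuotientGroup.induction_on with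
      | H g =>
        intro hfix
        have hfix' : ((x * g : G) : G ⧸ C) = (g : G ⧸ C) := hfix
        have h1 : (x * g)⁻¹ * g ∈ C := QuotientGroup.eq.mp hfix'
        rw [hCmem] at h1
        have h2 : (x * g)⁻¹ * g = g⁻¹ * x * g := by rw [mul_inv_rev, hxi]
        rw [h2] at h1
        rcases hI _ (hoc g x hx) h1 with h4 | h4 | h4
        · left
          rw [QuotientGroup.eq, hCmem, mul_one]
          calc g⁻¹ * x = (g⁻¹ * x * g) * g⁻¹ := by group
            _ = x * g⁻¹ := by rw [h4]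
        · exfalso; exact hnc g⁻¹ (by rw [inv_inv]; exact h4)
        · right
          obtain ⟨-, h5⟩ := hswap g⁻¹ (by rw [inv_inv]; exact h4)
          rw [inv_inv] at h5
          rw [QuotientGroup.eq, hCmem]
          calc g⁻¹ * h * x = g⁻¹ * (h * x * h⁻¹) * h := by group
            _ = g⁻¹ * (g * x * g⁻¹) * h := by rw [hh, h5]
            _ = x * (g⁻¹ * h) := by group
    · rintro (rfl | rfl)
      · have h1 : ((x * 1 : G) : G ⧸ C) = ((1 : G) : G ⧸ C) := by
          rw [QuotientGroup.eq, hCmem, mul_one, mul_one, hxi]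
        exact h1
      · have h1 : ((x * h : G) : G ⧸ C) = ((h : G) : G ⧸ C) := by
          rw [QuotientGroup.eq, hCmem]
          have h2 : (x * h)⁻¹ * h = h⁻¹ * x * h := by rw [mul_inv_rev, hxi]
          rw [h2, hhx, mul_assoc x y x, ← hxy]
        exact h1
  have hne1h : ((1 : G) : G ⧸ C) ≠ ((h : G) : G ⧸ C) := by
    intro he
    have h1 : (1 : G)⁻¹ * h ∈ C := QuotientGroup.eq.mp he
    rw [inv_one, one_mul, hCmem] at h1
    have h2 : h * x * h⁻¹ = x := by rw [h1]; group
    rw [hh] at h2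
    exact hy1 (by simpa using h2)
  have hcardfix : Nat.card {q : G ⧸ C | x • q = q} = 2 := by
    rw [hfixC, Nat.card_coe_set_eq, Set.ncard_pair hne1h]
  obtain ⟨kC, hkC, hkCeven⟩ := parity_fixed hsgn C x hxx
  rw [hcardfix] at hkC
  obtain ⟨m, hm⟩ := hkCeven
  -- Sylow subgroups
  have hxC : x ∈ C := (hCmem x).mpr rfl
  obtain ⟨P₀, hxP₀⟩ := Cfsg.Agent.Helper53.exists_sylow_two_mem (⟨x, hxC⟩ : ↥C)
    (by rw [Subgroup.orderOf_mk]; exact hx)
  have hT₀ : IsPGroup 2 ((P₀ : Subgroup ↥C).map C.subtype) := P₀.2.map C.subtype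
  obtain ⟨P, hP⟩ := hT₀.exists_le_sylow
  have hxP : x ∈ (P : Subgroup G) := hP ⟨⟨x, hxC⟩, hxP₀, rfl⟩
  set T : Subgroup G := (P : Subgroup G) ⊓ C with hT
  have hTP : T ≤ P := inf_le_left
  have hTC : T ≤ C := inf_le_right
  have hTmem : ∀ t : G, t ∈ T ↔ t ∈ (P : Subgroup G) ∧ t * x = x * t := by
    intro t; rw [hT, Subgroup.mem_inf, hCmem]
  have hcardP : Nat.card (P : Subgroup G) = 2 * Nat.card T := by
    have h1 := P.card_eq_multiplicity
    have h2 := P₀.card_eq_multiplicity
    have h3 : Nat.card ((P₀ : Subgroup ↥C).map C.subtype) = Nat.card (P₀ : Subgroup ↥C) :=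
      Nat.card_congr ((P₀ : Subgroup ↥C).equivMapOfInjective C.subtype
        C.subtype_injective).symm.toEquiv
    have h4 : (Nat.card G).factorization 2 = (Nat.card C).factorization 2 + 1 := by
      rw [← Subgroup.card_mul_index C, hkC]
      have e : 2 + 2 * kC = 2 * (2 * m + 1) := by omega
      rw [e, Nat.factorization_mul Nat.card_pos.ne' (by omega),
        Nat.factorization_mul (by norm_num) (by omega)]
      have h5 : (2 * m + 1).factorization 2 = 0 :=
        Nat.factorization_eq_zero_of_not_dvd (by omega)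
      simp [Nat.prime_two.factorization_self, h5]
    have h5 : (P₀ : Subgroup ↥C).map C.subtype ≤ T := le_inf hP (Subgroup.map_subtype_le _)
    have hTp : IsPGroup 2 T := P.2.to_le hTP
    obtain ⟨j, hj⟩ := IsPGroup.iff_card.mp hTp
    have h6 : Nat.card T ∣ Nat.card C := Subgroup.card_dvd_of_le hTC
    have h7 : j ≤ (Nat.card C).factorization 2 := by
      rw [hj] at h6
      exact (Nat.prime_two.pow_dvd_iff_le_factorization Nat.card_pos.ne').mp h6
    have h8 : Nat.card T ≤ Nat.card (P₀ : Subgroup ↥C) := by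
      rw [hj, h2]; exact Nat.pow_le_pow_right (by norm_num) h7
    have h9 : Nat.card (P₀ : Subgroup ↥C) ≤ Nat.card T := by
      rw [← h3]; exact Subgroup.card_le_of_le h5
    rw [h1, h4, pow_succ, mul_comm, ← h2]
    omega
  have hidx2 : (T.subgroupOf (P : Subgroup G)).index = 2 := by
    have h1 := Subgroup.card_mul_index (T.subgroupOf (P : Subgroup G))
    have h2 : Nat.card (T.subgroupOf (P : Subgroup G)) = Nat.card T :=
      Nat.card_congr (Subgroup.subgroupOfEquivOfLe hTP).toEquiv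
    rw [h2, hcardP] at h1
    have hpos : 0 < Nat.card T := Nat.card_pos
    have h3 : Nat.card T * (T.subgroupOf (P : Subgroup G)).index = Nat.card T * 2 := by
      rw [h1, mul_comm]
    exact Nat.eq_of_mul_eq_mul_left hpos h3
  have hidx : ∀ p ∈ (P : Subgroup G), ∀ q ∈ (P : Subgroup G),
      (p * q ∈ T ↔ (p ∈ T ↔ q ∈ T)) := by
    intro p hp q hq
    have := Subgroup.mul_mem_iff_of_index_two hidx2 (a := ⟨p, hp⟩) (b := ⟨q, hq⟩)
    simpa [Subgroup.mem_subgroupOf] using this
  have hTnorm : ∀ p ∈ (P : Subgroup G), ∀ t ∈ T, p * t * p⁻¹ ∈ T := by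
    intro p hp t ht
    rw [hidx _ (mul_mem hp (hTP ht)) _ (inv_mem hp), hidx p hp t (hTP ht)]
    simp only [ht, iff_true, inv_mem_iff]
  -- the central involution of `P` is `y`
  obtain ⟨z, hzP, hz, hzc⟩ := ti_exists_central_invol P x hxP hx1
  have hcardne : ¬ (P : Subgroup G) ≤ C := by
    intro hle
    have h1 : T = P := inf_eq_left.mpr hle
    rw [h1] at hcardP
    have hpos : 0 < Nat.card (P : Subgroup G) := Nat.card_pos
    omega
  have hzy : z = y := by
    rcases hI z hz (hzc x hxP).symm with h1 | h1 | h1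
    · exfalso
      apply hcardne
      intro s hs
      rw [hCmem, ← h1]
      exact hzc s hs
    · exact h1
    · exfalso
      apply hcardne
      intro s hs
      rw [hCmem]
      apply hCxy
      rw [← h1]
      exact hzc s hs
  have hyP : y ∈ (P : Subgroup G) := hzy ▸ hzP
  have hyc : ∀ s ∈ (P : Subgroup G), s * y = y * s := hzy ▸ hzc
  -- a conjugate `w ≠ y` of `y` in `P`
  have hync : ∃ g : G, g * y ≠ y * g := by
    by_contra hcen
    have hcen' : ∀ g : G, g * y = y * g := by
      intro g; by_contra h'; exact hcen ⟨g, h'⟩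
    have hyZ : y ∈ center G := Subgroup.mem_center_iff.mpr hcen'
    have hZtop : center G = ⊤ := by
      rcases (inferInstance : (center G).Normal).eq_bot_or_eq_top with h1 | h1
      · rw [h1, Subgroup.mem_bot] at hyZ; exact absurd hyZ hy1
      · exact h1
    have hxZ : x ∈ center G := hZtop ▸ Subgroup.mem_top x
    have h1 := Subgroup.mem_center_iff.mp hxZ h
    have h2 : h * x * h⁻¹ = x := by rw [h1]; group
    rw [hh] at h2
    exact hy1 (by simpa using h2)
  obtain ⟨g, hwP, hwy⟩ := ti_exists_conj_ne_of_simple hZ P y hy hyP hync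
  obtain ⟨w, hw⟩ : ∃ w : G, w = g * y * g⁻¹ := ⟨_, rfl⟩
  rw [← hw] at hwP hwy
  have hwo : orderOf w = 2 := by rw [hw, ti_orderOf_conj]; exact hy
  obtain ⟨hww, hw1⟩ := (ti_orderOf_two_iff w).mp hwo
  have hwi : w⁻¹ = w := ti_inv_eq_self w hwo
  have hwx : w * x ≠ x * w := by
    intro hc
    rcases hI w hwo hc with h1 | h1 | h1
    · apply hnc g⁻¹
      rw [inv_inv, ← h1, hw]; group
    · exact hwy h1
    · apply hnc (g⁻¹ * h)
      calc g⁻¹ * h * x * (g⁻¹ * h)⁻¹ = g⁻¹ * (h * x * h⁻¹) * g := by group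
        _ = g⁻¹ * w * g := by rw [hh, h1]
        _ = y := by rw [hw]; group
  have hwyc : w * y = y * w := hyc w hwP
  -- Sylow's theorem in the centralizer of `w`
  have hk : ∃ k : G, k * y * k⁻¹ = w ∧
      ∀ r ∈ (P : Subgroup G), r * w = w * r → k⁻¹ * r * k ∈ (P : Subgroup G) := by
    have hSH : ((g • P : Sylow 2 G) : Subgroup G) ≤ centralizer {w} := by
      intro s hs
      rw [ti_mem_smul_sylow_iff] at hs
      rw [Subgroup.mem_centralizer_singleton_iff]
      have h1 := hyc _ hs
      calc s * w = g * ((g⁻¹ * s * g) * y) * g⁻¹ := by rw [hw]; group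
        _ = g * (y * (g⁻¹ * s * g)) * g⁻¹ := by rw [h1]
        _ = w * s := by rw [hw]; group
    obtain ⟨c, hcH, hc⟩ := Cfsg.Agent.Helper20.exists_conj_le_sylow_of_le (g • P : Sylow 2 G)
      (centralizer {w}) hSH ((P : Subgroup G) ⊓ centralizer {w}) inf_le_right
      (P.2.to_le inf_le_left)
    refine ⟨c * g, ?_, ?_⟩
    · have h1 := Subgroup.mem_centralizer_singleton_iff.mp hcH
      calc c * g * y * (c * g)⁻¹ = c * w * c⁻¹ := by rw [hw]; group
        _ = w := by rw [h1]; group
    · intro r hr hrw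
      have h1 := hc r (Subgroup.mem_inf.mpr
        ⟨hr, Subgroup.mem_centralizer_singleton_iff.mpr hrw⟩)
      rw [ti_mem_smul_sylow_iff] at h1
      have h2 : (c * g)⁻¹ * r * (c * g) = g⁻¹ * (c⁻¹ * r * c) * g := by group
      rw [h2]; exact h1
  obtain ⟨k, hkw, hkP⟩ := hk
  have h5a : ¬ (y * (k * x * k⁻¹) = (k * x * k⁻¹) * y) := by
    intro hc
    rcases hconj3 k y hy hc with h1 | h1 | h1
    · exact hnc k h1.symm
    · rw [hkw] at h1; exact hwy h1.symm
    · apply hnc (k * h)
      rw [h1, ← hh]; group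
  have h5b : ∀ t ∈ T, t * w = w * t → t ≠ 1 → k⁻¹ * t * k ∉ T := by
    intro t ht htw ht1 hmem
    have hcomm : (k⁻¹ * t * k) * x = x * (k⁻¹ * t * k) := ((hTmem _).mp hmem).2
    have hcomm' : t * (k * x * k⁻¹) = (k * x * k⁻¹) * t := by
      calc t * (k * x * k⁻¹) = k * ((k⁻¹ * t * k) * x) * k⁻¹ := by group
        _ = k * (x * (k⁻¹ * t * k)) * k⁻¹ := by rw [hcomm]
        _ = (k * x * k⁻¹) * t := by group
    obtain ⟨n, hn⟩ : ∃ n : ℕ, t ^ (2 ^ n) = 1 := by
      obtain ⟨n, hn⟩ := P.2 ⟨t, hTP ht⟩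
      exact ⟨n, by simpa using congrArg Subtype.val hn⟩
    obtain ⟨m', hm'⟩ := ti_exists_pow_invol t ⟨n, hn⟩ ht1
    have htx : t * x = x * t := ((hTmem t).mp ht).2
    have h1 : t ^ m' * x = x * t ^ m' := (Commute.pow_left (show Commute t x from htx) m').eq
    have h2 : t ^ m' * w = w * t ^ m' := (Commute.pow_left (show Commute t w from htw) m').eq
    have h3 : t ^ m' * (k * x * k⁻¹) = (k * x * k⁻¹) * t ^ m' :=
      (Commute.pow_left (show Commute t _ from hcomm') m').eq
    rcases hI _ hm' h1 with h4 | h4 | h4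
    · rw [h4] at h2; exact hwx h2.symm
    · rw [h4] at h3; exact h5a h3
    · rw [h4] at h2
      apply hwx
      have h5 : x * w = w * x := by
        calc x * w = (x * y) * (y * w) := by rw [mul_assoc, ← mul_assoc y y w, hyy, one_mul]
          _ = (x * y) * (w * y) := by rw [hwyc]
          _ = ((x * y) * w) * y := by group
          _ = (w * (x * y)) * y := by rw [h2]
          _ = w * x := by rw [mul_assoc, mul_assoc, hyy, mul_one]
      exact h5.symm
  have hyT : y ∈ T := (hTmem y).mpr ⟨hyP, hxy.symm⟩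
  have hxT : x ∈ T := (hTmem x).mpr ⟨hxP, rfl⟩
  have h5c : ∀ t ∈ T, w * t * w⁻¹ = t → t = 1 ∨ t = y := by
    intro t ht hwt
    by_contra hcon
    rw [not_or] at hcon
    have htw : t * w = w * t := by
      calc t * w = (w * t * w⁻¹) * w := by rw [hwt]
        _ = w * t := by group
    have hywc : y * w = w * y := hwyc.symm
    have h1 := h5b t ht htw hcon.1
    have h2 := h5b y hyT hywc hy1
    have hyt : y⁻¹ * t ∈ T := T.mul_mem (T.inv_mem hyT) ht
    have hytw : (y⁻¹ * t) * w = w * (y⁻¹ * t) := by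
      rw [hyi, mul_assoc, htw, ← mul_assoc, hywc, mul_assoc]
    have hyt1 : y⁻¹ * t ≠ 1 := by
      intro h'
      apply hcon.2
      exact (inv_mul_eq_one.mp h').symm
    have h3 := h5b _ hyt hytw hyt1
    have hP1 : k⁻¹ * t * k ∈ (P : Subgroup G) := hkP t (hTP ht) htw
    have hP2 : k⁻¹ * y * k ∈ (P : Subgroup G) := hkP y hyP hywc
    have h4 := hidx _ (inv_mem hP2) _ hP1
    have h5 : (k⁻¹ * y * k)⁻¹ * (k⁻¹ * t * k) = k⁻¹ * (y⁻¹ * t) * k := by group
    rw [h5] at h4
    have h6 : (k⁻¹ * y * k)⁻¹ ∉ T := fun hm => h2 (by simpa using T.inv_mem hm)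
    exact h3 (h4.mpr ⟨fun hm => absurd hm h6, fun hm => absurd hm h1⟩)
  have hwxw : w * x * w⁻¹ = x * y := by
    have h1 : w * x * w⁻¹ ∈ T := hTnorm w hwP x hxT
    have h2 : orderOf (w * x * w⁻¹) = 2 := by rw [ti_orderOf_conj]; exact hx
    rcases hI _ h2 ((hTmem _).mp h1).2 with h3 | h3 | h3
    · exfalso; apply hwx
      calc w * x = (w * x * w⁻¹) * w := by group
        _ = x * w := by rw [h3]
    · exfalso; exact hnc w h3
    · exact h3
  have hwyw : w * y * w⁻¹ = y := by rw [hwyc]; group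
  have hfour := four_of_invol_auto T (P.2.to_le hTP) w x y (fun t ht => hTnorm w hwP t ht) hww
    hxT hyT hxx hyy hy1 (fun t ht => ((hTmem t).mp ht).2) (fun t ht => hyc t (hTP ht)) hwxw hwyw
    h5c
    (by
      intro t ht htt
      by_cases ht1 : t = 1
      · left; exact ht1
      · right
        exact hI t ((ti_orderOf_two_iff t).mpr ⟨htt, ht1⟩) ((hTmem t).mp ht).2)
  have hcardT : Nat.card T ≤ 4 := by
    classical
    have hsub : (T : Set G) ⊆ (({1, x, y, x * y} : Finset G) : Set G) := by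
      intro t ht
      have := hfour t ht
      simp only [Finset.coe_insert, Finset.coe_singleton, Set.mem_insert_iff,
        Set.mem_singleton_iff]
      exact this
    have h1 := Set.ncard_le_ncard hsub (Finset.finite_toSet _)
    rw [Set.ncard_coe_finset] at h1
    have h2 : Nat.card T = (T : Set G).ncard := Nat.card_coe_set_eq (T : Set G)
    rw [h2]
    exact h1.trans Finset.card_le_four
  -- the cyclic subgroup of order four generated by `x * w`
  obtain ⟨v, hv⟩ : ∃ v : G, v = x * w := ⟨_, rfl⟩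
  have hvv : v * v = y := by
    calc v * v = x * (w * x * w⁻¹) := by rw [hv, hwi]; group
      _ = x * (x * y) := by rw [hwxw]
      _ = y := by rw [← mul_assoc, hxx, one_mul]
  have hv4 : v ^ 4 = 1 := by
    have h1 : v ^ 4 = (v * v) * (v * v) := by
      rw [show (4 : ℕ) = 2 + 2 from rfl, pow_add, pow_two]
    rw [h1, hvv, hyy]
  have hvo : orderOf v = 4 := by
    have h1 := orderOf_eq_prime_pow (x := v) (p := 2) (n := 1)
      (by rw [pow_one, pow_two, hvv]; exact hy1) (by norm_num; exact hv4)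
    rw [h1]; norm_num
  obtain ⟨M, hM⟩ : ∃ M : Subgroup G, M = zpowers v := ⟨_, rfl⟩
  have hcardM : Nat.card M = 4 := by rw [hM, Nat.card_zpowers, hvo]
  have hMinv : ∀ t ∈ M, orderOf t = 2 → t = y := by
    classical
    intro t ht hto
    rw [hM, mem_zpowers_iff_mem_range_orderOf, hvo] at ht
    obtain ⟨i, hi, rfl⟩ := Finset.mem_image.mp ht
    rw [Finset.mem_range] at hi
    obtain ⟨htt, ht1⟩ := (ti_orderOf_two_iff _).mp hto
    interval_cases i
    · simp at ht1
    · rw [pow_one, hvv] at htt; exact absurd htt hy1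
    · rw [pow_two]; exact hvv
    · exfalso
      have h1 : v ^ 3 * v ^ 3 = v ^ 4 * (v * v) := by group
      rw [h1, hv4, one_mul, hvv] at htt
      exact hy1 htt
  have hfixM : {q : G ⧸ M | x • q = q} = ∅ := by
    ext q
    simp only [Set.mem_ofPred_eq, Set.mem_empty_iff_false, iff_false]
    induction q using QuotientGroup.induction_on with
    | H g' =>
      intro hfix
      have hfix' : ((x * g' : G) : G ⧸ M) = (g' : G ⧸ M) := hfix
      have h1 : (x * g')⁻¹ * g' ∈ M := QuotientGroup.eq.mp hfix'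
      have h2 : (x * g')⁻¹ * g' = g'⁻¹ * x * g' := by rw [mul_inv_rev, hxi]
      rw [h2] at h1
      exact hnc g'⁻¹ (by rw [inv_inv]; exact hMinv _ h1 (hoc g' x hx))
  obtain ⟨kM, hkM, hkMeven⟩ := parity_fixed hsgn M x hxx
  have h16 : 2 ^ 4 ∣ Nat.card G := by
    obtain ⟨j, hj⟩ := hkMeven
    have h0 : Nat.card (∅ : Set (G ⧸ M)) = 0 := by simp
    rw [← Subgroup.card_mul_index M, hcardM, hkM, hfixM, h0, zero_add]
    exact ⟨j, by rw [hj]; ring⟩
  have h4le : 4 ≤ (Nat.card G).factorization 2 :=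
    (Nat.prime_two.pow_dvd_iff_le_factorization Nat.card_pos.ne').mp h16
  have hcardP' := P.card_eq_multiplicity
  have hge : 2 ^ 4 ≤ Nat.card (P : Subgroup G) := by
    rw [hcardP']; exact Nat.pow_le_pow_right (by norm_num) h4le
  omega

/-- **S3279**, relative to the `Z*`-theorem for `G`: a finite simple group with an involution `x`
whose centralizer has at most three involutions has a Sylow `2`-subgroup inside `C(x)` and one
class of involutions. -/
theorem three_invol_main
    (hZ : ∀ (P : Sylow 2 G) (u : G), orderOf u = 2 → u ∈ P →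
      (∀ g : G, g * u * g⁻¹ ∈ P → g * u * g⁻¹ = u) →
      ∃ N : Subgroup G, N.Normal ∧ Odd (Nat.card N) ∧ ∀ g : G, (u * g * u⁻¹ * g⁻¹) ∈ N)
    (x : G) (hx : orderOf x = 2)
    (h3 : Nat.card {u : ↥(Subgroup.centralizer ({x} : Set G)) // orderOf u = 2} ≤ 3) :
    (∃ S : Sylow 2 G, (S : Subgroup G) ≤ Subgroup.centralizer ({x} : Set G)) ∧
      ∀ u v : G, orderOf u = 2 → orderOf v = 2 → IsConj u v := by
  obtain ⟨hxx, hx1⟩ := (ti_orderOf_two_iff x).mp hx
  have hI0 : ∀ a b c t : G, orderOf a = 2 → orderOf b = 2 → orderOf c = 2 → orderOf t = 2 →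
      a * x = x * a → b * x = x * b → c * x = x * c → t * x = x * t → a ≠ b → a ≠ c → b ≠ c →
      t = a ∨ t = b ∨ t = c := by
    intro a b c t ha hb hc ht hax hbx hcx htx hab hac hbc
    let A : {u : ↥(centralizer ({x} : Set G)) // orderOf u = 2} :=
      ⟨⟨a, mem_centralizer_singleton_iff.mpr hax⟩, by rw [Subgroup.orderOf_mk]; exact ha⟩
    let B : {u : ↥(centralizer ({x} : Set G)) // orderOf u = 2} :=
      ⟨⟨b, mem_centralizer_singleton_iff.mpr hbx⟩, by rw [Subgroup.orderOf_mk]; exact hb⟩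
    let C' : {u : ↥(centralizer ({x} : Set G)) // orderOf u = 2} :=
      ⟨⟨c, mem_centralizer_singleton_iff.mpr hcx⟩, by rw [Subgroup.orderOf_mk]; exact hc⟩
    let D : {u : ↥(centralizer ({x} : Set G)) // orderOf u = 2} :=
      ⟨⟨t, mem_centralizer_singleton_iff.mpr htx⟩, by rw [Subgroup.orderOf_mk]; exact ht⟩
    let val : {u : ↥(centralizer ({x} : Set G)) // orderOf u = 2} → G :=
      fun u => ((u : ↥(centralizer ({x} : Set G))) : G)
    have hAB : A ≠ B := fun h =>
      hab (congrArg val h)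
    have hAC : A ≠ C' := fun h =>
      hac (congrArg val h)
    have hBC : B ≠ C' := fun h =>
      hbc (congrArg val h)
    rcases ti_eq_of_card_le_three h3 A B C' D hAB hAC hBC with h | h | h
    · left; exact congrArg val h
    · right; left; exact congrArg val h
    · right; right; exact congrArg val h
  by_cases hall : ∀ t : G, orderOf t = 2 → t * x = x * t → ∃ g : G, g * x * g⁻¹ = t
  · exact ti_conj_of_all x hx hall
  · exfalso
    rw [not_forall] at hall
    obtain ⟨a, hall⟩ := hall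
    rw [Classical.not_imp] at hall
    obtain ⟨ha, hall⟩ := hall
    rw [Classical.not_imp] at hall
    obtain ⟨hax, hna⟩ := hall
    have hna' : ∀ g : G, g * x * g⁻¹ ≠ a := fun g hg => hna ⟨g, hg⟩
    have hane : a ≠ x := by
      rintro rfl
      exact hna' 1 (by group)
    obtain ⟨haa, ha1⟩ := (ti_orderOf_two_iff a).mp ha
    have hxa_o : orderOf (x * a) = 2 := by
      rw [ti_orderOf_two_iff]
      refine ⟨?_, ?_⟩
      · calc x * a * (x * a) = x * (a * x) * a := by group
          _ = x * (x * a) * a := by rw [hax]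
          _ = (x * x) * (a * a) := by group
          _ = 1 := by rw [hxx, haa, one_mul]
      · intro h1
        apply hane
        have h2 := eq_inv_of_mul_eq_one_right h1
        rw [h2, ti_inv_eq_self x hx]
    have hxa_c : (x * a) * x = x * (x * a) := by rw [mul_assoc, hax]
    have hI : ∀ t : G, orderOf t = 2 → t * x = x * t → t = x ∨ t = a ∨ t = x * a := by
      intro t ht htx
      exact hI0 x a (x * a) t hx ha hxa_o ht rfl hax hxa_c htx hane.symm
        (by intro h1; exact ha1 (by simpa using h1)) (by intro h1; exact hx1 (by simpa using h1))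
    by_cases hxa : ∃ h : G, h * x * h⁻¹ = x * a
    · obtain ⟨h, hh⟩ := hxa
      exact ti_mixed_false hZ x a hx ha hax.symm hane hI h hh hna'
    · apply ti_isolated_false hZ x a hx ha hane
      intro g hg
      rcases hI _ (by rw [ti_orderOf_conj]; exact hx) hg with h1 | h1 | h1
      · exact h1
      · exact absurd h1 (hna' g)
      · exact absurd ⟨g, h1⟩ hxa

end simple

end Cfsg.Agent.Helper54
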